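import Cfsg.Agent.BSW.Lam

/-!
# The decompositions of the induced virtual characters
-/

set_option autoImplicit false
set_option linter.style.haveILetI false
set_option linter.unusedSectionVars false

namespace Cfsg.Lib.BSW

open Subgroup Cfsg.Lib.InvolCalc Cfsg.Lib.Chars
open scoped ComplexConjugate

universe u

variable {G : Type u} [Group G] [Fintype G] {t s : G} {K : Subgroup G}

/-- A partial sum of the squared moduli in a column of the character table. -/
theorem column_le (g : G) (S : Finset (Cfsg.IrrCharacter G)) :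
    ∑ χ ∈ S, ‖(χ : G → ℂ) g‖ ^ 2 ≤ (Nat.card (centralizer ({g} : Set G) : Subgroup G) : ℝ) := by
  rw [← sum_norm_sq_irr g]
  exact Finset.sum_le_univ_sum_of_nonneg fun χ => sq_nonneg _

/-- Integers with small sum of squares are signs. -/
theorem small_squares {ι : Type*} [DecidableEq ι] {E : Finset ι} {a : ι → ℤ} {n : ℕ} (hn : n ≤ 3)
    (hsum : ∑ i ∈ E, a i * a i = n) :
    (∀ i ∈ E, a i ≠ 0 → a i * a i = 1) ∧ (E.filter fun i => a i ≠ 0).card = n := by
  have hb : ∀ i ∈ E, a i ≠ 0 → a i * a i = 1 := fun i hi hne => by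
    have hle : a i * a i ≤ n := hsum ▸ Finset.single_le_sum (f := fun i => a i * a i)
      (fun x _ => mul_self_nonneg _) hi
    have h1 : a i ≤ 1 := by nlinarith
    have h2 : -1 ≤ a i := by nlinarith
    interval_cases h3 : a i <;> simp_all
  refine ⟨hb, ?_⟩
  have h1 : ∑ i ∈ E, a i * a i = ((E.filter fun i => a i ≠ 0).card : ℤ) := by
    rw [Finset.card_filter]
    push_cast
    refine Finset.sum_congr rfl fun i hi => ?_
    split_ifs with e
    · exact hb i hi e
    · simp only [ne_eq, not_not] at e; rw [e]; norm_num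
  exact_mod_cast (h1.symm.trans hsum)

variable (h : Data t s K)
include h

theorem restrict_dvd (χ : Cfsg.IrrCharacter G) [Fintype (centralizer ({t} : Set G) : Subgroup G)] :
    ∃ m : ℤ, ∑ g : (centralizer ({t} : Set G) : Subgroup G), (χ : G → ℂ) g = 4 * (kk K : ℂ) * m := by
  obtain ⟨m, hm⟩ := IsCharacter.exists_mult (IsCharacter.restrict (isCharacter_of_irr χ.2) (centralizer ({t} : Set G)))
    (isIrrCharacter_one (G := (centralizer ({t} : Set G) : Subgroup G)))
  refine ⟨m, ?_⟩
  rw [classInner_def] at hm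
  have hH : (Nat.card (centralizer ({t} : Set G) : Subgroup G) : ℂ) = 4 * (kk K : ℂ) := by exact_mod_cast card_H h
  have hk : (kk K : ℂ) ≠ 0 := by exact_mod_cast (kk_pos h).ne'
  simp only [map_one, mul_one, hH] at hm
  field_simp at hm
  push_cast
  linear_combination hm

/-- The coefficients. -/
theorem exists_coef : ∃ a : (K →* ℂˣ) → Cfsg.IrrCharacter G → ℤ,
    (∀ l, tau l = ∑ χ, (a l χ : ℂ) • (χ : G → ℂ)) ∧
    (∀ l, l ≠ 1 → a l (principal G) = 1) ∧
    (∀ l, ∑ χ, (a l χ : ℂ) * (χ : G → ℂ) 1 = 0) ∧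
    (∀ l m, l ≠ 1 → m ≠ 1 → ((∑ χ, a l χ * a m χ : ℤ) : ℂ) = Cfsg.classInner (tau l) (tau m)) ∧
    (∀ l, l ≠ 1 → a l⁻¹ = a l) := by
  classical
  choose a ha using fun l : K →* ℂˣ => exists_int_decomp (G := G) (tau_gen l)
  have hcoef : ∀ l χ, (a l χ : ℂ) = Cfsg.classInner (tau l) (χ : G → ℂ) := fun l χ => by
    rw [ha l, classInner_irrSum]
  refine ⟨a, ha, fun l hl => ?_, fun l => ?_, fun l m _ _ => ?_, fun l hl => ?_⟩
  · exact Int.cast_injective (α := ℂ) (by rw [hcoef, tau_principal h l hl, Int.cast_one])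
  · have := congrFun (ha l) 1
    rw [tau_one] at this
    simp only [Finset.sum_apply, Pi.smul_apply, smul_eq_mul] at this
    exact this.symm
  · conv_rhs => rw [ha m, classInner_sum_right]
    push_cast
    refine Finset.sum_congr rfl fun χ _ => ?_
    rw [classInner_smul_right, map_intCast, ← hcoef, mul_comm]
  · have hl' : l⁻¹ ≠ 1 := fun e => hl ((inv_eq_one (a := l)).1 e)
    have e : tau (K := K) l⁻¹ = tau (G := G) l := by
      refine sub_eq_zero.1 ((classInner_self_eq_zero _).1 ?_)
      rw [classInner_sub_left, classInner_sub_right, classInner_sub_right, tau_gram h _ _ hl' hl',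
        tau_gram h _ _ hl' hl, tau_gram h _ _ hl hl', tau_gram h _ _ hl hl]
      have hii : l⁻¹⁻¹ = l := DFunLike.ext _ _ fun y => inv_inv (l y)
      simp only [hii, if_true]
      by_cases e : l⁻¹ = l
      · rw [if_pos e, if_pos e.symm]; ring
      · rw [if_neg e, if_neg (Ne.symm e)]; ring
    funext χ
    exact Int.cast_injective (α := ℂ) (by rw [hcoef, hcoef, e])

end Cfsg.Lib.BSW
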