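import Cfsg.Agent.Transfer.ThompsonTransfer
import Cfsg.Agent.Components.Cores
import Cfsg.Prelude.Def_CaseTheorems
import Mathlib.GroupTheory.SpecificGroups.Dihedral

/-!
# The centralisers in the hypothesis of the theorem of Brauer, Suzuki and Wall for dihedral Sylow 2-subgroups
-/

set_option autoImplicit false
set_option linter.style.haveILetI false

open Subgroup

namespace Cfsg.Lib.BSW

universe u

/-- A cyclic subgroup of index two of a dihedral 2-group containing a given central involution, if required to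
contain it, is inverted by every involution outside it. -/
theorem dihedral_cyclic {G : Type u} [Group G] [Finite G] (S : Subgroup G) {n : ℕ} (hn : 2 ≤ n)
    (e : S ≃* DihedralGroup n) {t : G} (ht : orderOf t = 2)
    (A : Subgroup G) (hAS : A ≤ S) (hAc : IsCyclic A) (hAi : A.relIndex S = 2) (htA : t ∈ A) :
    (∀ s ∈ S, s ∉ A → orderOf s = 2 ∧ ∀ a ∈ A, s * a * s⁻¹ = a⁻¹) ∧
      ∀ a ∈ A, orderOf a = 2 → a = t := by
  haveI : NeZero n := ⟨by omega⟩
  have hcA : 2 * Nat.card A = 2 * n := by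
    have h := relIndex_mul_relIndex ⊥ A S bot_le hAS
    rw [relIndex_bot_left, relIndex_bot_left, hAi, Nat.card_congr e.toEquiv, DihedralGroup.nat_card] at h
    omega
  have hcA' : Nat.card A = n := by omega
  obtain ⟨⟨c, hc⟩, hgen⟩ := hAc.exists_generator
  have hgen' : ∀ a ∈ A, ∃ k : ℤ, c ^ k = a := fun a ha => by
    obtain ⟨k, hk⟩ := mem_zpowers_iff.1 (hgen ⟨a, ha⟩)
    exact ⟨k, congrArg Subtype.val hk⟩
  have hco : orderOf c = n := by
    rw [← hcA', ← orderOf_eq_card_of_forall_mem_zpowers hgen, orderOf_mk]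
  have huniq : ∀ a ∈ A, orderOf a = 2 → a = t := by
    intro a ha hao
    classical
    haveI := Fintype.ofFinite A
    have h1 := IsCyclic.card_orderOf_eq_totient (α := A) (d := 2) (by
      rw [← Nat.card_eq_fintype_card, ← ht, ← orderOf_mk t htA]; exact orderOf_dvd_natCard _)
    rw [show Nat.totient 2 = 1 by decide, Finset.card_eq_one] at h1
    obtain ⟨w, hw⟩ := h1
    have m1 : (⟨a, ha⟩ : A) ∈ ({w} : Finset A) := hw ▸ Finset.mem_filter.2 ⟨Finset.mem_univ _, (orderOf_mk a ha).trans hao⟩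
    have m2 : (⟨t, htA⟩ : A) ∈ ({w} : Finset A) := hw ▸ Finset.mem_filter.2 ⟨Finset.mem_univ _, (orderOf_mk t htA).trans ht⟩
    exact congrArg Subtype.val ((Finset.mem_singleton.1 m1).trans (Finset.mem_singleton.1 m2).symm)
  refine ⟨fun s hs hsA => ?_, huniq⟩
  by_cases h2 : n = 2
  · -- exponent two
    subst h2
    have hexp : ∀ y : S, y * y = 1 := fun y => e.injective (by
      rw [map_mul, map_one]
      revert y
      intro y
      generalize e y = d
      revert d
      decide)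
    have hsq : ∀ y ∈ S, y * y = 1 := fun y hy => congrArg Subtype.val (hexp ⟨y, hy⟩)
    have hne : s ≠ 1 := fun h => hsA (h ▸ A.one_mem)
    refine ⟨orderOf_eq_prime (by rw [pow_two]; exact hsq s hs) hne, fun a ha => ?_⟩
    have h1 := hsq _ (S.mul_mem hs (hAS ha))
    have h2 : a⁻¹ = a := inv_eq_of_mul_eq_one_left (hsq a (hAS ha))
    have h3 : s⁻¹ = s := inv_eq_of_mul_eq_one_left (hsq s hs)
    rw [h2, h3]
    calc s * a * s = s * a * (s * a) * a⁻¹ := by group
      _ = a := by rw [h1, one_mul, h2]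
  -- the generator is a rotation
  obtain ⟨i, hi⟩ : ∃ i, e ⟨c, hAS hc⟩ = DihedralGroup.r i := by
    have ho : orderOf (e ⟨c, hAS hc⟩) = n := by rw [MulEquiv.orderOf_eq, orderOf_mk, hco]
    cases h : e ⟨c, hAS hc⟩ with
    | r i => exact ⟨i, rfl⟩
    | sr i => rw [h, DihedralGroup.orderOf_sr] at ho; omega
  have hrot : ∀ j, ∃ a ∈ A, ∃ ha : a ∈ S, e ⟨a, ha⟩ = DihedralGroup.r j := by
    intro j
    have hio : orderOf (DihedralGroup.r i) = n := by rw [← hi, MulEquiv.orderOf_eq, orderOf_mk, hco]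
    have hmem : DihedralGroup.r j ∈ zpowers (DihedralGroup.r i) := by
      have hle : zpowers (DihedralGroup.r i) ≤ zpowers (DihedralGroup.r (1 : ZMod n)) :=
        zpowers_le.2 (mem_zpowers_iff.2 ⟨(i.cast : ℤ), by rw [DihedralGroup.r_one_zpow, ZMod.intCast_zmod_cast]⟩)
      rw [eq_of_le_of_card_ge hle (by rw [Nat.card_zpowers, Nat.card_zpowers, hio, DihedralGroup.orderOf_r_one])]
      exact mem_zpowers_iff.2 ⟨(j.cast : ℤ), by rw [DihedralGroup.r_one_zpow, ZMod.intCast_zmod_cast]⟩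
    obtain ⟨k, hk⟩ := mem_zpowers_iff.1 hmem
    refine ⟨c ^ k, A.zpow_mem hc k, S.zpow_mem (hAS hc) k, ?_⟩
    rw [show (⟨c ^ k, S.zpow_mem (hAS hc) k⟩ : S) = ⟨c, hAS hc⟩ ^ k from rfl, map_zpow, hi, hk]
  obtain ⟨j, hj⟩ : ∃ j, e ⟨s, hs⟩ = DihedralGroup.sr j := by
    cases h : e ⟨s, hs⟩ with
    | r j =>
      obtain ⟨a, haA, haS, ha⟩ := hrot j
      have e' : a = s := congrArg Subtype.val (e.injective (ha.trans h.symm))
      exact absurd (e' ▸ haA) hsA
    | sr j => exact ⟨j, rfl⟩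
  refine ⟨by rw [← orderOf_mk s hs, ← MulEquiv.orderOf_eq e, hj, DihedralGroup.orderOf_sr], fun a ha => ?_⟩
  obtain ⟨k, rfl⟩ := hgen' a ha
  have hcs : (⟨s, hs⟩ : S) * ⟨c, hAS hc⟩ * (⟨s, hs⟩ : S)⁻¹ = (⟨c, hAS hc⟩ : S)⁻¹ := e.injective (by
    rw [map_mul, map_mul, map_inv, map_inv, hi, hj]
    simp)
  have hcs' : s * c * s⁻¹ = c⁻¹ := congrArg Subtype.val hcs
  rw [← conj_zpow, hcs', inv_zpow]

/-- In a dihedral 2-group with central involution there is a cyclic subgroup of index two containing it. -/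
theorem exists_dihedral_cyclic {G : Type u} [Group G] [Finite G] (S : Subgroup G) {n : ℕ} (hn : 2 ≤ n)
    (e : S ≃* DihedralGroup n) {t : G} (ht : orderOf t = 2) (htS : t ∈ S) (htZ : ∀ s ∈ S, s * t = t * s) :
    ∃ A : Subgroup G, A ≤ S ∧ IsCyclic A ∧ A.relIndex S = 2 ∧ t ∈ A := by
  haveI : NeZero n := ⟨by omega⟩
  have hS : Nat.card S = 2 * n := by rw [Nat.card_congr e.toEquiv, DihedralGroup.nat_card]
  have key : ∀ c ∈ S, orderOf c = n → t ∈ zpowers c → ∃ A : Subgroup G, A ≤ S ∧ IsCyclic A ∧ A.relIndex S = 2 ∧ t ∈ A := by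
    intro c hc hco htc
    refine ⟨zpowers c, zpowers_le.2 hc, inferInstance, ?_, htc⟩
    have h := relIndex_mul_relIndex ⊥ (zpowers c) S bot_le (zpowers_le.2 hc)
    rw [relIndex_bot_left, relIndex_bot_left, Nat.card_zpowers, hco, hS, mul_comm 2] at h
    exact Nat.eq_of_mul_eq_mul_left (by omega) h
  by_cases h2 : n = 2
  · subst h2
    exact key t htS ht (mem_zpowers t)
  obtain ⟨i, hi⟩ : ∃ i, e ⟨t, htS⟩ = DihedralGroup.r i := by
    cases h : e ⟨t, htS⟩ with
    | r i => exact ⟨i, rfl⟩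
    | sr i =>
      exfalso
      obtain ⟨u, hu⟩ := e.surjective (DihedralGroup.r (1 : ZMod n))
      have hc : u * ⟨t, htS⟩ = ⟨t, htS⟩ * u := Subtype.ext (htZ u u.2)
      have := congrArg e hc
      rw [map_mul, map_mul, h, hu, DihedralGroup.r_mul_sr, DihedralGroup.sr_mul_r, DihedralGroup.sr.injEq] at this
      have h2' : ((2 : ℕ) : ZMod n) = 0 := by
        push_cast
        linear_combination -this
      rw [ZMod.natCast_eq_zero_iff] at h2'
      exact h2 (Nat.dvd_antisymm h2' (by have := Nat.le_of_dvd two_pos h2'; interval_cases n; simp_all))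
  set c := ((e.symm (DihedralGroup.r (1 : ZMod n)) : S) : G) with hc
  have hco : orderOf c = n := by
    rw [hc, Subgroup.orderOf_coe, MulEquiv.orderOf_eq, DihedralGroup.orderOf_r_one]
  refine key c (SetLike.coe_mem _) hco (mem_zpowers_iff.2 ⟨(i.cast : ℤ), ?_⟩)
  rw [hc, ← Subgroup.coe_zpow, ← map_zpow, DihedralGroup.r_one_zpow, ZMod.intCast_zmod_cast, ← hi,
    e.symm_apply_apply]

end Cfsg.Lib.BSW
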