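import Cfsg.Agent.BSW.Singular

/-!
# The character-theoretic facts
-/

set_option autoImplicit false
set_option linter.style.haveILetI false
set_option linter.unusedSectionVars false

namespace Cfsg.Lib.BSW

open Subgroup Cfsg.Lib.InvolCalc Cfsg.Lib.Chars
open scoped ComplexConjugate

universe u

variable {G : Type u} [Group G] [Fintype G] {t s : G} {K : Subgroup G}

variable (h : Data t s K) {l₀ : K →* ℂˣ}
include h

variable {θ A B : Cfsg.IrrCharacter G} {δ e f : ℤ} {N : (K →* ℂˣ) → Cfsg.IrrCharacter G}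
  (F : Full t s K l₀ θ A B δ e f N) (O : Ord t K l₀ θ A B δ e f N) (h0 : l₀ ≠ 1) (hr : l₀⁻¹ = l₀)
  (huniq : ∀ l : K →* ℂˣ, l⁻¹ = l → l = 1 ∨ l = l₀)
include F O h0 hr huniq

/-- A character whose degree is divisible by the full `l`-part vanishes on `l`-singular elements. -/
theorem vanish {n m : ℕ} (hG : Nat.card G = m * n) (hmn : m.Coprime n) {χ : Cfsg.IrrCharacter G}
    (hχ : n ∣ deg (χ : G → ℂ)) {g : G} (hg : Sing n g) : (χ : G → ℂ) g = 0 := by
  obtain ⟨l, hl, hlg, hln⟩ := Nat.Prime.not_coprime_iff_dvd.1 hg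
  have hn0 : n ≠ 0 := fun e => (Nat.card_pos (α := G)).ne' (by rw [hG, e, mul_zero])
  refine eq_zero_of_defect_zero χ.2 hl (n := n.factorization l) ?_ ?_ ((Nat.ordProj_dvd n l).trans hχ) hlg
  · rw [hG]; exact Dvd.dvd.mul_left (Nat.ordProj_dvd n l) m
  · intro hd
    rw [hG] at hd
    have hc : (l ^ (n.factorization l + 1)).Coprime m :=
      Nat.Coprime.pow_left _ ((Nat.Coprime.coprime_dvd_right hln hmn).symm)
    exact Nat.pow_succ_factorization_not_dvd hn0 hl (hc.dvd_of_dvd_mul_left hd)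

open scoped Classical in
theorem exists_res : ∃ q r : ℕ, Res t s K δ q r := by
  haveI : Finite (K →* ℂˣ) := lam_finite
  letI : Fintype (K →* ℂˣ) := Fintype.ofFinite _
  have hδ : δ = 1 ∨ δ = -1 := mul_self_eq_one_iff.1 F.hδ
  set q := deg (θ : G → ℂ) with hqd
  set r := deg (A : G → ℂ) with hrd
  have hq : (q : ℤ) = 4 * kk K + δ := O.dθ
  have hr' : (r : ℤ) = 2 * kk K + δ := O.dA
  have hG : Nat.card G = 4 * kk K * q * r := by
    have := O.card
    rw [← hq, ← hr'] at this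
    exact_mod_cast this
  obtain ⟨c1, c2, c3⟩ := coprime_parts hδ hq hr'
  have hB : deg (B : G → ℂ) = r := by
    have := O.dB
    rw [← hr'] at this
    exact_mod_cast this
  have hN : ∀ l, l ≠ 1 → l ≠ l₀ → deg (N l : G → ℂ) = 2 * r := fun l a b => by
    have := O.dN l a b
    rw [← hr'] at this
    exact_mod_cast this
  have vQ : ∀ g, Sing q g → (θ : G → ℂ) g = 0 := fun g hg =>
    vanish h F O h0 hr huniq (m := 4 * kk K * r) (by rw [hG]; ring)
      (Nat.Coprime.mul_left c1 c3.symm) dvd_rfl hg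
  have vR : ∀ (χ : Cfsg.IrrCharacter G) g, r ∣ deg (χ : G → ℂ) → Sing r g → (χ : G → ℂ) g = 0 :=
    fun χ g hχ hg => vanish h F O h0 hr huniq (m := 4 * kk K * q) hG (Nat.Coprime.mul_left c2 c3) hχ hg
  -- off the conjugates of `K` all `τ` vanish
  have hoff : ∀ g, Sing q g ∨ Sing r g → ∀ l, tau (K := K) l g = 0 := fun g hg l =>
    tau_eq_zero l fun c hc => by
      rcases hg with hg | hg
      · exact absurd hg (not_sing_K h c1 hc)
      · exact absurd hg (not_sing_K h c2 hc)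
  have hδC : (δ : ℂ) * (δ : ℂ) = 1 := by exact_mod_cast F.hδ
  have thR : ∀ g, Sing r g → (θ : G → ℂ) g = -(δ : ℂ) := fun g hg => by
    have h1 := F.eq0 g
    rw [hoff g (.inr hg), vR A g dvd_rfl hg, vR B g (hB ▸ dvd_rfl) hg] at h1
    linear_combination -(δ : ℂ) * h1 - (θ : G → ℂ) g * hδC
  have disj : ∀ g, Sing q g → Sing r g → False := fun g a b => by
    have h1 := thR g b
    rw [vQ g a] at h1
    rcases hδ with e' | e' <;> rw [e'] at h1 <;> norm_num at h1
  have thK : ∀ g, g ≠ 1 → ¬ Sing q g → ¬ Sing r g → (θ : G → ℂ) g = (δ : ℂ) := fun g g1 a b => by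
    obtain ⟨c, hc⟩ := conj_into_K h hG c1 c2 g1 a b
    have h1 := O.θH _ (K_le h hc) (fun e => g1 (by
      calc g = c * (c⁻¹ * g * c) * c⁻¹ := by group
        _ = 1 := by rw [e]; group))
    rw [show g = c * (c⁻¹ * g * c) * c⁻¹ by group, isClassFunction_irr θ _ c, h1]
  -- the number of `q`-singular elements
  have cardQ : Nat.card {g : G // Sing q g} + 1 = q ^ 2 := by
    have h1 : ∀ g : G, (θ : G → ℂ) g * conj ((θ : G → ℂ) g) =
        1 + (if g = 1 then ((q : ℂ) ^ 2 - 1) else 0) - (if Sing q g then 1 else 0) := by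
      intro g
      by_cases g1 : g = 1
      · subst g1
        rw [if_pos rfl, if_neg (by simp [Sing]), irr_apply_one_eq_deg, map_natCast]
        ring
      rw [if_neg g1]
      by_cases a : Sing q g
      · rw [if_pos a, vQ g a]; simp
      rw [if_neg a]
      by_cases b : Sing r g
      · rw [thR g b, map_neg, map_intCast]; linear_combination hδC
      · rw [thK g g1 a b, map_intCast]; linear_combination hδC
    have h2 := classInner_irr_self (G := G) θ
    rw [classInner_def, Finset.sum_congr rfl (fun g _ => h1 g)] at h2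
    simp only [Finset.sum_sub_distrib, Finset.sum_add_distrib, Finset.sum_const, Finset.card_univ,
      Finset.sum_ite_eq', Finset.mem_univ, if_true, ← Finset.sum_filter, nsmul_eq_mul, mul_one,
      ← Nat.card_eq_fintype_card] at h2
    have hne : (Nat.card G : ℂ) ≠ 0 := by exact_mod_cast Nat.card_pos.ne'
    rw [Nat.card_eq_fintype_card (α := {g : G // Sing q g}), Fintype.card_subtype]
    field_simp at h2
    apply Nat.cast_injective (R := ℂ)
    push_cast
    linear_combination -h2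
  -- only the exceptional characters are non-zero at `t`
  set L := (Finset.univ : Finset (K →* ℂˣ)) \ {1, l₀} with hLdef
  have hmemL : ∀ l, l ∈ L ↔ l ≠ 1 ∧ l ≠ l₀ := fun l => by simp [hLdef]
  set S := insert (principal G) (insert θ (insert A (insert B (L.image N)))) with hSdef
  have himg : ∀ χ ∈ L.image N, χ ≠ principal G ∧ χ ≠ θ ∧ χ ≠ A ∧ χ ≠ B := fun χ hχ => by
    obtain ⟨l, hl, rfl⟩ := Finset.mem_image.1 hχ
    obtain ⟨a, b⟩ := (hmemL l).1 hl
    exact ⟨(F.N1 l a b).1, (F.N1 l a b).2, (F.NA l a b).1, (F.NA l a b).2⟩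
  have hsplit : ∀ {R : Type} [AddCommMonoid R] (Φ : Cfsg.IrrCharacter G → R),
      ∑ χ ∈ S, Φ χ = Φ (principal G) + (Φ θ + (Φ A + (Φ B + ∑ χ ∈ L.image N, Φ χ))) := fun Φ => by
    rw [hSdef, Finset.sum_insert (by
        simp only [Finset.mem_insert, not_or]
        exact ⟨F.θ1.symm, F.A1.symm, F.B1.symm, fun hm => (himg _ hm).1 rfl⟩),
      Finset.sum_insert (by
        simp only [Finset.mem_insert, not_or]
        exact ⟨F.Aθ.symm, F.Bθ.symm, fun hm => (himg _ hm).2.1 rfl⟩),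
      Finset.sum_insert (by
        simp only [Finset.mem_insert, not_or]
        exact ⟨F.AB, fun hm => (himg _ hm).2.2.1 rfl⟩),
      Finset.sum_insert (fun hm => (himg _ hm).2.2.2 rfl)]
  have hNcard : ((L.image N).card : ℝ) = (kk K : ℝ) - 1 := by
    have h1 := sum_fibres h F.toStar hr huniq (R := ℝ) (fun _ => 1)
    simp only [Finset.sum_const, nsmul_eq_mul, mul_one, ← hLdef] at h1
    have h2 := card_pairs h h0 hr
    rw [← hLdef] at h2
    have h3 : (L.card : ℝ) + 2 = 2 * (kk K : ℝ) := by exact_mod_cast h2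
    linarith
  obtain ⟨vθ, vN, vA, vB⟩ := values h F h0 hr huniq h.htK (t_ne h)
  have hl0 : (l₀ ⟨t, h.htK⟩ : ℂ) * (l₀ ⟨t, h.htK⟩ : ℂ) = 1 := l0_sign h h0 hr _
  have heC : (e : ℂ) * (e : ℂ) = 1 := by exact_mod_cast F.he
  have hfC : (f : ℂ) * (f : ℂ) = 1 := by exact_mod_cast F.hf
  have sθ : (θ : G → ℂ) t * (θ : G → ℂ) t = 1 := by
    linear_combination ((δ : ℂ) * (θ : G → ℂ) t + 1) * vθ - (θ : G → ℂ) t * (θ : G → ℂ) t * hδC
  have sA : (A : G → ℂ) t * (A : G → ℂ) t = 1 := by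
    linear_combination ((e : ℂ) * (A : G → ℂ) t - (l₀ ⟨t, h.htK⟩ : ℂ)) * vA + hl0 -
      (A : G → ℂ) t * (A : G → ℂ) t * heC
  have sB : (B : G → ℂ) t * (B : G → ℂ) t = 1 := by
    linear_combination ((f : ℂ) * (B : G → ℂ) t - (l₀ ⟨t, h.htK⟩ : ℂ)) * vB + hl0 -
      (B : G → ℂ) t * (B : G → ℂ) t * hfC
  have sN : ∀ χ ∈ L.image N, (χ : G → ℂ) t * (χ : G → ℂ) t = 4 := fun χ hχ => by
    obtain ⟨l, hl, rfl⟩ := Finset.mem_image.1 hχ
    obtain ⟨a, b⟩ := (hmemL l).1 hl
    have h1 := vN l a b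
    rcases cc_t h l with e' | e' <;> rw [e'] at h1
    · linear_combination ((δ : ℂ) * (N l : G → ℂ) t + 2) * h1 - (N l : G → ℂ) t * (N l : G → ℂ) t * hδC
    · linear_combination ((δ : ℂ) * (N l : G → ℂ) t - 2) * h1 - (N l : G → ℂ) t * (N l : G → ℂ) t * hδC
  have hzero : ∀ χ, χ ∉ S → (χ : G → ℂ) t = 0 := by
    have hn : ∀ (u : ℂ) (c : ℝ), u * u = (c : ℂ) → 0 ≤ c → ‖u‖ ^ 2 = c := fun u c hu hc => by
      rw [sq, ← norm_mul, hu, Complex.norm_real, Real.norm_of_nonneg hc]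
    have h1 : ∑ χ ∈ S, ‖(χ : G → ℂ) t‖ ^ 2 = 4 * (kk K : ℝ) := by
      rw [hsplit, apply_principal h, norm_one, hn _ 1 (by rw [sθ]; norm_num) zero_le_one,
        hn _ 1 (by rw [sA]; norm_num) zero_le_one, hn _ 1 (by rw [sB]; norm_num) zero_le_one,
        Finset.sum_congr rfl (fun χ hχ => hn _ 4 (by rw [sN χ hχ]; norm_num) (by norm_num)),
        Finset.sum_const, nsmul_eq_mul, hNcard]
      ring
    have h2 := sum_norm_sq_irr (G := G) t
    rw [← Finset.sum_add_sum_compl S, h1, card_H h] at h2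
    push_cast at h2
    intro χ hχ
    have h3 := (Finset.sum_eq_zero_iff_of_nonneg
      (f := fun x : Cfsg.IrrCharacter G => ‖(x : G → ℂ) t‖ ^ 2) (fun x _ => sq_nonneg _)).1
      (by linarith : ∑ χ ∈ Sᶜ, ‖(χ : G → ℂ) t‖ ^ 2 = 0) χ (Finset.mem_compl.2 hχ)
    simpa using h3
  -- the products of two involutions
  have hnI : (Nat.card {x : G // IsConj t x} : ℂ) = (q : ℂ) * r := by
    have h1 := card_invol_mul h
    rw [hG, show 4 * kk K * q * r = (q * r) * (4 * kk K) by ring] at h1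
    have h2 := Nat.eq_of_mul_eq_mul_right (by have := kk_pos h; omega) h1
    exact_mod_cast h2
  have hpairs : ∀ c : G, (npairs t c : ℂ) = (q : ℂ) * r / (4 * (kk K : ℂ)) *
      (1 + conj ((θ : G → ℂ) c) / q + (conj ((A : G → ℂ) c) + conj ((B : G → ℂ) c)) / r +
        2 * (∑ χ ∈ L.image N, conj ((χ : G → ℂ) c)) / r) := by
    intro c
    rw [npairs, class_mult_formula, hnI,
      ← Finset.sum_subset (Finset.subset_univ S) (fun χ _ hχ => by rw [hzero χ hχ]; simp), hsplit,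
      apply_principal h, apply_principal h, apply_principal h, map_one, sθ, sA, sB,
      irr_apply_one_eq_deg θ, irr_apply_one_eq_deg A, irr_apply_one_eq_deg B, ← hqd, ← hrd, hB,
      Finset.sum_congr rfl (fun (χ : Cfsg.IrrCharacter G) hχ => show (χ : G → ℂ) t * (χ : G → ℂ) t * conj ((χ : G → ℂ) c) /
          (χ : G → ℂ) 1 = 4 * conj ((χ : G → ℂ) c) / ((2 * r : ℕ) : ℂ) by
        obtain ⟨l, hl, rfl⟩ := Finset.mem_image.1 hχ
        obtain ⟨a, b⟩ := (hmemL l).1 hl
        rw [sN _ hχ, irr_apply_one_eq_deg, hN l a b]), hG]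
    rw [← Finset.sum_div, ← Finset.mul_sum]
    have hk : (kk K : ℂ) ≠ 0 := by exact_mod_cast (kk_pos h).ne'
    have hq0 : (q : ℂ) ≠ 0 := by exact_mod_cast (deg_irr_pos θ).ne'
    have hr0 : (r : ℂ) ≠ 0 := by exact_mod_cast (deg_irr_pos A).ne'
    push_cast
    field_simp
    ring
  have hk : (kk K : ℂ) ≠ 0 := by exact_mod_cast (kk_pos h).ne'
  have hq0 : (q : ℂ) ≠ 0 := by exact_mod_cast (deg_irr_pos θ).ne'
  have hr0 : (r : ℂ) ≠ 0 := by exact_mod_cast (deg_irr_pos A).ne'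
  have hqC : (q : ℂ) = 4 * (kk K : ℂ) + δ := by exact_mod_cast hq
  have hrC : (r : ℂ) = 2 * (kk K : ℂ) + δ := by exact_mod_cast hr'
  have qN : ∀ g, Sing q g → ∀ χ ∈ L.image N, (χ : G → ℂ) g = (δ : ℂ) := fun g hg χ hχ => by
    obtain ⟨l, hl, rfl⟩ := Finset.mem_image.1 hχ
    obtain ⟨a, b⟩ := (hmemL l).1 hl
    have h1 := F.eq l a b g
    rw [hoff g (.inl hg), vQ g hg] at h1
    linear_combination (δ : ℂ) * h1 - (N l : G → ℂ) g * hδC
  have qAB : ∀ g, Sing q g → (A : G → ℂ) g + (B : G → ℂ) g = (δ : ℂ) := fun g hg => by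
    have h1 := F.eq0 g
    rw [hoff g (.inl hg), vQ g hg, O.eδ, O.fδ] at h1
    push_cast at h1
    linear_combination (δ : ℂ) * h1 - ((A : G → ℂ) g + (B : G → ℂ) g) * hδC
  refine ⟨q, r, h, hδ, hq, hr', hG, disj, cardQ, fun g hg => ?_, fun g hg => ?_, fun g hg => ?_⟩
  · apply Nat.cast_injective (R := ℂ)
    rw [hpairs, thR g hg, vR A g dvd_rfl hg, vR B g (hB ▸ dvd_rfl) hg,
      Finset.sum_eq_zero (fun χ hχ => by
        obtain ⟨l, hl, rfl⟩ := Finset.mem_image.1 hχ
        obtain ⟨a, b⟩ := (hmemL l).1 hl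
        rw [vR _ g (hN l a b ▸ dvd_mul_left r 2) hg, map_zero])]
    simp only [map_zero, map_neg, map_intCast]
    field_simp
    linear_combination (r : ℂ) * hqC
  · apply Int.cast_injective (α := ℂ)
    push_cast
    rw [hpairs, vQ g hg, ← map_add, qAB g hg, map_intCast,
      Finset.sum_congr rfl (fun χ hχ => by rw [qN g hg χ hχ, map_intCast]), Finset.sum_const, nsmul_eq_mul]
    have hNC : ((L.image N).card : ℂ) = (kk K : ℂ) - 1 := by
      have := congrArg ((↑) : ℝ → ℂ) hNcard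
      push_cast at this
      exact this
    rw [hNC, map_zero]
    field_simp
    linear_combination 2 * (q : ℂ) * hrC
  · have h1 := column_le g S
    rw [hsplit, apply_principal h, norm_one, vQ g hg, norm_zero,
      Finset.sum_congr rfl (fun (χ : Cfsg.IrrCharacter G) hχ => show ‖(χ : G → ℂ) g‖ ^ 2 = (1 : ℝ) by
        rw [qN g hg χ hχ, Complex.norm_intCast]
        rcases hδ with e' | e' <;> rw [e'] <;> simp),
      Finset.sum_const, nsmul_eq_mul, hNcard] at h1
    have h2 : (1 : ℝ) ≤ 2 * (‖(A : G → ℂ) g‖ ^ 2 + ‖(B : G → ℂ) g‖ ^ 2) := by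
      have h3 := norm_add_le ((A : G → ℂ) g) ((B : G → ℂ) g)
      rw [qAB g hg, Complex.norm_intCast, show |(δ : ℝ)| = 1 by rcases hδ with e' | e' <;> rw [e'] <;> simp] at h3
      nlinarith [sq_nonneg (‖(A : G → ℂ) g‖ - ‖(B : G → ℂ) g‖), norm_nonneg ((A : G → ℂ) g),
        norm_nonneg ((B : G → ℂ) g)]
    have h4 : ((2 * kk K + 1 : ℕ) : ℝ) ≤ ((2 * Nat.card (centralizer ({g} : Set G) : Subgroup G) : ℕ) : ℝ) := by
      push_cast
      linarith
    exact_mod_cast h4

end Cfsg.Lib.BSW
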