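import Cfsg.Agent.Chars.Count
import Mathlib.GroupTheory.Sylow
import Mathlib.GroupTheory.Nilpotent

/-!
# Counting with trivial-intersection subgroups
-/

set_option autoImplicit false
set_option linter.style.haveILetI false
set_option linter.unusedSectionVars false

namespace Cfsg.Lib.BSW

open Subgroup

universe u

variable {G : Type u} [Group G]

theorem mem_cent_iff {x y : G} : y ∈ centralizer ({x} : Set G) ↔ y * x = x * y := mem_centralizer_singleton_iff

theorem cent_conj (c x : G) :
    centralizer ({c * x * c⁻¹} : Set G) = (centralizer ({x} : Set G)).map (MulAut.conj c).toMonoidHom := by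
  ext y
  rw [mem_map_equiv, mem_cent_iff, mem_cent_iff, MulAut.conj_symm_apply]
  constructor
  · intro e
    calc c⁻¹ * y * c * x = c⁻¹ * (y * (c * x * c⁻¹)) * c := by group
      _ = c⁻¹ * (c * x * c⁻¹ * y) * c := by rw [e]
      _ = x * (c⁻¹ * y * c) := by group
  · intro e
    calc y * (c * x * c⁻¹) = c * (c⁻¹ * y * c * x) * c⁻¹ := by group
      _ = c * (x * (c⁻¹ * y * c)) * c⁻¹ := by rw [e]
      _ = c * x * c⁻¹ * y := by group

theorem card_map_conj (S : Subgroup G) (c : G) :
    Nat.card (S.map (MulAut.conj c).toMonoidHom : Subgroup G) = Nat.card S :=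
  card_map_of_injective (MulAut.conj c).injective

/-- A conjugate of the centraliser. -/
theorem card_cent_conj (c x : G) :
    Nat.card (centralizer ({c * x * c⁻¹} : Set G) : Subgroup G) = Nat.card (centralizer ({x} : Set G) : Subgroup G) := by
  rw [cent_conj, card_map_conj]

/-- `x` and its conjugate in an abelian centraliser. -/
theorem mem_normalizer_of_cent {A : Subgroup G} {x g : G} (h1 : centralizer ({x} : Set G) = A)
    (h2 : centralizer ({g * x * g⁻¹} : Set G) = A) : g ∈ normalizer (A : Set G) := by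
  rw [cent_conj, h1] at h2
  refine mem_normalizer_iff.2 fun y => ?_
  nth_rw 2 [← h2]
  rw [mem_map_equiv, MulAut.conj_symm_apply, show g⁻¹ * (g * y * g⁻¹) * g = y by group]

variable [Finite G]

theorem eq_of_cent_le {A : Subgroup G} {x : G} (h1 : A ≤ centralizer ({x} : Set G))
    (h2 : Nat.card (centralizer ({x} : Set G) : Subgroup G) ≤ Nat.card A) :
    centralizer ({x} : Set G) = A :=
  (Subgroup.eq_of_le_of_card_ge h1 h2).symm

/-- The union of the conjugates of a trivial intersection subgroup. -/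
theorem card_conj_set (S : Subgroup G)
    (hS : ∀ x ∈ S, x ≠ 1 → ∀ g : G, g * x * g⁻¹ ∈ S → g ∈ normalizer (S : Set G)) :
    Nat.card {y : G // y ≠ 1 ∧ ∃ c : G, c⁻¹ * y * c ∈ S} * Nat.card (normalizer (S : Set G) : Subgroup G) =
      Nat.card G * (Nat.card S - 1) := by
  classical
  letI := Fintype.ofFinite G
  set N := normalizer (S : Set G)
  set X := (Finset.univ : Finset G) ×ˢ (Finset.univ.filter fun x : G => x ∈ S ∧ x ≠ 1) with hX
  set U := (Finset.univ : Finset G).filter fun y => y ≠ 1 ∧ ∃ c : G, c⁻¹ * y * c ∈ S with hU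
  have hmaps : ∀ p ∈ X, p.1 * p.2 * p.1⁻¹ ∈ U := fun p hp => by
    simp only [hX, Finset.mem_product, Finset.mem_filter, Finset.mem_univ, true_and] at hp
    refine Finset.mem_filter.2 ⟨Finset.mem_univ _, fun e => hp.2 (conj_eq_one_iff.1 e), p.1, ?_⟩
    rw [show p.1⁻¹ * (p.1 * p.2 * p.1⁻¹) * p.1 = p.2 by group]
    exact hp.1
  have hfib : ∀ y ∈ U, (X.filter fun p => p.1 * p.2 * p.1⁻¹ = y).card = Nat.card N := by
    intro y hy
    obtain ⟨-, hy1, c, hc⟩ := Finset.mem_filter.1 hy
    rw [Nat.card_eq_fintype_card, ← Finset.card_univ]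
    symm
    refine Finset.card_bij (fun (n : N) _ => (c * (n : G), (n : G)⁻¹ * (c⁻¹ * y * c) * n)) (fun n _ => ?_)
      (fun a _ b _ e => Subtype.ext (mul_left_cancel (congrArg Prod.fst e))) (fun p hp => ?_)
    · simp only [hX, Finset.mem_filter, Finset.mem_product, Finset.mem_univ, true_and]
      refine ⟨⟨?_, fun e => hy1 ?_⟩, by group⟩
      · have := (mem_normalizer_iff.1 (inv_mem n.2) _).1 hc
        rwa [inv_inv] at this
      · calc y = c * (n : G) * ((n : G)⁻¹ * (c⁻¹ * y * c) * n) * (c * (n : G))⁻¹ := by group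
          _ = 1 := by rw [e]; group
    · simp only [hX, Finset.mem_filter, Finset.mem_product, Finset.mem_univ, true_and] at hp
      obtain ⟨⟨hx, hx1⟩, hpy⟩ := hp
      have hn : c⁻¹ * p.1 ∈ N := hS p.2 hx hx1 _ (by
        rw [show c⁻¹ * p.1 * p.2 * (c⁻¹ * p.1)⁻¹ = c⁻¹ * (p.1 * p.2 * p.1⁻¹) * c by group, hpy]
        exact hc)
      refine ⟨⟨c⁻¹ * p.1, hn⟩, Finset.mem_univ _, Prod.ext (by simp) ?_⟩
      show (c⁻¹ * p.1)⁻¹ * (c⁻¹ * y * c) * (c⁻¹ * p.1) = p.2
      rw [← hpy]; group
  have h1 := Finset.card_eq_sum_card_fiberwise hmaps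
  rw [Finset.sum_congr rfl hfib, Finset.sum_const, smul_eq_mul, hX, Finset.card_product,
    Finset.card_univ, ← Nat.card_eq_fintype_card] at h1
  have h2 : (Finset.univ.filter fun x : G => x ∈ S ∧ x ≠ 1).card = Nat.card S - 1 := by
    rw [show (Finset.univ.filter fun x : G => x ∈ S ∧ x ≠ 1) = (Finset.univ.filter fun x : G => x ∈ S).erase 1 by
      ext x; simp [and_comm],
      Finset.card_erase_of_mem (by simp), Nat.card_eq_fintype_card (α := S), Fintype.card_subtype]
  rw [h2] at h1
  rw [h1, Nat.card_eq_fintype_card (α := {y : G // y ≠ 1 ∧ ∃ c : G, c⁻¹ * y * c ∈ S}), Fintype.card_subtype]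

/-- Two subgroups containing Sylow subgroups for the same prime share a conjugate element. -/
theorem exists_conj_mem {l : ℕ} (hl : l.Prime) (hlG : l ∣ Nat.card G) {A B : Subgroup G}
    (hA : l ^ (Nat.card G).factorization l ∣ Nat.card A)
    (hB : l ^ (Nat.card G).factorization l ∣ Nat.card B) :
    ∃ x g : G, x ∈ A ∧ x ≠ 1 ∧ g * x * g⁻¹ ∈ B := by
  haveI := Fact.mk hl
  obtain ⟨LA, hLA⟩ := Sylow.exists_subgroup_card_pow_prime l hA
  obtain ⟨LB, hLB⟩ := Sylow.exists_subgroup_card_pow_prime l hB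
  let SA : Sylow l G := Sylow.ofCard (LA.map A.subtype) (by rw [card_map_of_injective A.subtype_injective, hLA])
  let SB : Sylow l G := Sylow.ofCard (LB.map B.subtype) (by rw [card_map_of_injective B.subtype_injective, hLB])
  obtain ⟨g, hg⟩ := MulAction.exists_smul_eq G SA SB
  haveI : Nontrivial LA := by
    rw [← Finite.one_lt_card_iff_nontrivial, hLA]
    exact Nat.one_lt_pow (hl.factorization_pos_of_dvd Nat.card_pos.ne' hlG).ne' hl.one_lt
  obtain ⟨x, hx⟩ := exists_ne (1 : LA)
  have hxS : ((x : A) : G) ∈ SA := ⟨(x : A), x.2, rfl⟩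
  have h1 : g * ((x : A) : G) * g⁻¹ ∈ (g • SA : Sylow l G) := by
    rw [Sylow.smul_def]
    exact ⟨_, hxS, rfl⟩
  rw [hg] at h1
  obtain ⟨b, -, hb⟩ := (h1 : g * ((x : A) : G) * g⁻¹ ∈ LB.map B.subtype)
  exact ⟨(x : A), g, (x : A).2, fun e => hx (Subtype.ext (Subtype.ext e)), hb ▸ b.2⟩

/-- A partition of the `p`-singular-free part of a group. -/
theorem partition {p : ℕ} [Fact p.Prime]
    (H : ∀ y : G, (orderOf y).Prime → orderOf y ≠ p →
      ¬ p ∣ Nat.card (centralizer ({y} : Set G) : Subgroup G) ∧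
      normalizer ((centralizer ({y} : Set G) : Subgroup G) : Set G) = centralizer ({y} : Set G) ∧
      ∀ x ∈ centralizer ({y} : Set G), x ≠ 1 → centralizer ({x} : Set G) = centralizer ({y} : Set G)) :
    Subsingleton (Sylow p G) ∧
      ∀ y : G, (orderOf y).Prime → orderOf y ≠ p → ¬ p ∣ Nat.card G → centralizer ({y} : Set G) = ⊤ := by
  classical
  letI := Fintype.ofFinite G
  by_cases hex : ∃ y : G, (orderOf y).Prime ∧ orderOf y ≠ p
  swap
  · push Not at hex
    refine ⟨?_, fun y a b _ => absurd (hex y a) b⟩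
    have hp : IsPGroup p (⊤ : Subgroup G) := IsPGroup.of_card (n := (Nat.card G).primeFactorsList.length) (by
      rw [Subgroup.card_top]
      refine Nat.eq_prime_pow_of_unique_prime_dvd Nat.card_pos.ne' fun {d} hd hdG => ?_
      haveI := Fact.mk hd
      obtain ⟨y, hy⟩ := exists_prime_orderOf_dvd_card' d hdG
      exact hy ▸ hex y (hy ▸ hd))
    have key : ∀ P : Sylow p G, (P : Subgroup G) = ⊤ := fun P => (P.is_maximal' hp le_top).symm
    exact ⟨fun P R => Sylow.ext ((key P).trans (key R).symm)⟩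
  obtain ⟨y₀, hy₀, hy₀'⟩ := hex
  set A := centralizer ({y₀} : Set G) with hAdef
  obtain ⟨hpA, hNA, hTA⟩ := H y₀ hy₀ hy₀'
  let U : (y : G) → Finset G := fun y => Finset.univ.filter fun z =>
    z ≠ 1 ∧ ∃ c : G, c⁻¹ * z * c ∈ centralizer ({y} : Set G)
  have hU : ∀ y : G, (orderOf y).Prime → orderOf y ≠ p →
      (U y).card * Nat.card (centralizer ({y} : Set G) : Subgroup G) + Nat.card G =
        Nat.card G * Nat.card (centralizer ({y} : Set G) : Subgroup G) ∧
      2 ≤ Nat.card (centralizer ({y} : Set G) : Subgroup G) := by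
    intro y a b
    obtain ⟨-, hN, hT⟩ := H y a b
    have h1 := card_conj_set (centralizer ({y} : Set G)) fun x hx hx1 g hg =>
      mem_normalizer_of_cent (hT x hx hx1) (hT _ hg fun e => hx1 (conj_eq_one_iff.1 e))
    rw [hN, Nat.card_eq_fintype_card (α := {z : G // z ≠ 1 ∧ _}), Fintype.card_subtype] at h1
    have h2 : 2 ≤ Nat.card (centralizer ({y} : Set G) : Subgroup G) := by
      have : orderOf y ∣ Nat.card (centralizer ({y} : Set G) : Subgroup G) :=
        orderOf_dvd_natCard _ (mem_cent_iff.2 rfl)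
      exact a.two_le.trans (Nat.le_of_dvd Nat.card_pos this)
    refine ⟨?_, h2⟩
    calc (U y).card * Nat.card (centralizer ({y} : Set G) : Subgroup G) + Nat.card G
        = Nat.card G * (Nat.card (centralizer ({y} : Set G) : Subgroup G) - 1) + Nat.card G := by rw [← h1]
      _ = Nat.card G * Nat.card (centralizer ({y} : Set G) : Subgroup G) := by
        rw [← Nat.mul_succ, Nat.succ_eq_add_one, Nat.sub_add_cancel (by omega)]
  -- there is only one class
  have hone : ∀ y : G, (orderOf y).Prime → orderOf y ≠ p → ∃ c : G, c⁻¹ * y * c ∈ A := by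
    intro y a b
    by_contra hno
    push Not at hno
    obtain ⟨h1, a1⟩ := hU y₀ hy₀ hy₀'
    obtain ⟨h2, a2⟩ := hU y a b
    have hdisj : Disjoint (U y₀) (U y) := Finset.disjoint_left.2 fun z hz hz' => by
      obtain ⟨-, z1, c, hc⟩ := Finset.mem_filter.1 hz
      obtain ⟨-, -, d, hd⟩ := Finset.mem_filter.1 hz'
      have e1 := hTA _ hc (fun e => z1 (by
        calc z = c * (c⁻¹ * z * c) * c⁻¹ := by group
          _ = 1 := by rw [e]; group))
      have e2 := (H y a b).2.2 _ hd (fun e => z1 (by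
        calc z = d * (d⁻¹ * z * d) * d⁻¹ := by group
          _ = 1 := by rw [e]; group))
      refine hno (d⁻¹ * c) ?_
      have e3 : centralizer ({c⁻¹ * z * c} : Set G) =
          (centralizer ({y} : Set G)).map (MulAut.conj (c⁻¹ * d)).toMonoidHom := by
        rw [← e2, ← cent_conj]
        congr 2
        group
      rw [hAdef, ← e1, e3]
      refine ⟨y, mem_cent_iff.2 rfl, ?_⟩
      show c⁻¹ * d * y * (c⁻¹ * d)⁻¹ = _
      group
    have h3 : (U y₀).card + (U y).card + 1 ≤ Nat.card G := by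
      rw [← Finset.card_union_of_disjoint hdisj, Nat.card_eq_fintype_card, ← Finset.card_univ]
      refine Nat.succ_le_of_lt (Finset.card_lt_card (Finset.ssubset_iff_subset_ne.2 ⟨Finset.subset_univ _, fun e => ?_⟩))
      have : (1 : G) ∈ U y₀ ∪ U y := e ▸ Finset.mem_univ _
      simp [U] at this
    nlinarith
  -- the order of `A`
  have hcardy : ∀ y : G, (orderOf y).Prime → orderOf y ≠ p →
      Nat.card (centralizer ({y} : Set G) : Subgroup G) = Nat.card A := fun y a b => by
    obtain ⟨c, hc⟩ := hone y a b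
    rw [hAdef, ← hTA _ hc (fun e => a.ne_one (orderOf_eq_one_iff.2 (by
      calc y = c * (c⁻¹ * y * c) * c⁻¹ := by group
        _ = 1 := by rw [e]; group)))]
    conv_rhs => rw [show c⁻¹ * y * c = c⁻¹ * y * c⁻¹⁻¹ by rw [inv_inv], card_cent_conj]
  have hp : p.Prime := Fact.out
  set v := (Nat.card G).factorization p
  have hdvd : Nat.card G / p ^ v ∣ Nat.card A := by
    rw [← Nat.factorization_le_iff_dvd (Nat.ordCompl_pos p Nat.card_pos.ne').ne' Nat.card_pos.ne',
      Nat.factorization_ordCompl]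
    intro l
    by_cases hlp : l = p
    · subst hlp; simp
    rw [Finsupp.erase_ne hlp]
    by_cases hl : l.Prime
    swap
    · simp [Nat.factorization_eq_zero_of_not_prime _ hl]
    haveI := Fact.mk hl
    by_cases hlG : l ∣ Nat.card G
    swap
    · rw [Nat.factorization_eq_zero_of_not_dvd hlG]; exact Nat.zero_le _
    rw [← hl.pow_dvd_iff_le_factorization Nat.card_pos.ne']
    obtain ⟨L⟩ : Nonempty (Sylow l G) := inferInstance
    haveI : Nontrivial L := by
      rw [← Finite.one_lt_card_iff_nontrivial, L.card_eq_multiplicity]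
      exact Nat.one_lt_pow (hl.factorization_pos_of_dvd Nat.card_pos.ne' hlG).ne' hl.one_lt
    haveI := L.2.center_nontrivial
    obtain ⟨z, hz⟩ := exists_prime_orderOf_dvd_card' l (show l ∣ Nat.card (center L) by
      obtain ⟨n, hn, hn'⟩ := (L.2.to_subgroup (center L)).nontrivial_iff_card.1 inferInstance
      rw [hn']; exact dvd_pow_self l hn.ne')
    have hzo : orderOf (((z : L) : G)) = l := by rw [Subgroup.orderOf_coe, Subgroup.orderOf_coe, hz]
    have hle : (L : Subgroup G) ≤ centralizer ({((z : L) : G)} : Set G) := fun a ha =>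
      mem_cent_iff.2 (congrArg Subtype.val (mem_center_iff.1 z.2 ⟨a, ha⟩))
    rw [← hcardy _ (by rwa [hzo]) (by rwa [hzo]), ← L.card_eq_multiplicity]
    exact card_dvd_of_le hle
  have hAG : Nat.card A * p ^ v = Nat.card G := by
    have h1 : Nat.card A ∣ Nat.card G / p ^ v := by
      refine Nat.Coprime.dvd_of_dvd_mul_left (Nat.Coprime.pow_right v ((hp.coprime_iff_not_dvd.2 hpA).symm)) ?_
      rw [Nat.ordProj_mul_ordCompl_eq_self]
      exact card_subgroup_dvd_card A
    rw [Nat.dvd_antisymm h1 hdvd, mul_comm, Nat.ordProj_mul_ordCompl_eq_self]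
  refine ⟨?_, fun y a b hpG => ?_⟩
  · obtain ⟨h1, a1⟩ := hU y₀ hy₀ hy₀'
    set W := (U y₀)ᶜ with hW
    have hWcard : W.card = p ^ v := by
      have h2 : W.card + (U y₀).card = Nat.card G := by
        rw [hW, Finset.card_compl_add_card, Nat.card_eq_fintype_card]
      have : W.card * Nat.card A = p ^ v * Nat.card A := by
        have e : (W.card + (U y₀).card) * Nat.card A = Nat.card G * Nat.card A := by rw [h2]
        rw [← hAdef] at h1
        rw [add_mul] at e
        linarith
      exact Nat.eq_of_mul_eq_mul_right Nat.card_pos this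
    have hmem : ∀ P : Sylow p G, (Finset.univ.filter fun x => x ∈ (P : Subgroup G)) = W := fun P => by
      refine Finset.eq_of_subset_of_card_le (fun x hx => ?_) ?_
      · have hxP := (Finset.mem_filter.1 hx).2
        refine Finset.mem_compl.2 fun hu => ?_
        obtain ⟨-, x1, c, hc⟩ := Finset.mem_filter.1 hu
        obtain ⟨n, hn⟩ := P.2 ⟨x, hxP⟩
        have hn' : x ^ p ^ n = 1 := congrArg Subtype.val hn
        have h3 : orderOf (c⁻¹ * x * c) ∣ Nat.card A := orderOf_dvd_natCard _ hc
        rw [show c⁻¹ * x * c = MulAut.conj c⁻¹ x by simp, MulEquiv.orderOf_eq] at h3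
        have h4 : (p ^ n).Coprime (Nat.card A) := Nat.Coprime.pow_left n (hp.coprime_iff_not_dvd.2 hpA)
        exact x1 (orderOf_eq_one_iff.1 (Nat.eq_one_of_dvd_coprimes h4 (orderOf_dvd_of_pow_eq_one hn') h3))
      · rw [hWcard, ← Fintype.card_subtype, ← Nat.card_eq_fintype_card]
        exact le_of_eq P.card_eq_multiplicity.symm
    exact ⟨fun P R => Sylow.ext (Subgroup.ext fun x => by
      have h3 := congrArg (fun s => x ∈ s) ((hmem P).trans (hmem R).symm)
      simpa using h3)⟩
  · rw [← Subgroup.card_eq_iff_eq_top, hcardy y a b, ← hAG,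
      show v = 0 from Nat.factorization_eq_zero_of_not_dvd hpG, pow_zero, mul_one]

end Cfsg.Lib.BSW
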