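import Cfsg.Agent.BSW.Singular
import Cfsg.Agent.BSW.TISets

/-!
# The subgroups of order `r`
-/

set_option autoImplicit false
set_option linter.style.haveILetI false
set_option linter.unusedSectionVars false

namespace Cfsg.Lib.BSW

open Subgroup Cfsg.Lib.InvolCalc

universe u

variable {G : Type u} [Group G]

/-- A trivial intersection subgroup `C` with dihedral normaliser `C⟨u⟩`. -/
structure Dih (C : Subgroup G) (u : G) : Prop where
  ab : ∀ a ∈ C, ∀ b ∈ C, a * b = b * a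
  hu : orderOf u = 2
  hC : u ∉ C
  inv : ∀ c ∈ C, u * c * u⁻¹ = c⁻¹
  hN : normalizer (C : Set G) = C ⊔ zpowers u
  card : Nat.card (normalizer (C : Set G) : Subgroup G) = 2 * Nat.card C
  cent : ∀ x ∈ C, x * x ≠ 1 → centralizer ({x} : Set G) = C
  TI : ∀ x ∈ C, x ≠ 1 → ∀ g : G, g * x * g⁻¹ ∈ C → g ∈ normalizer (C : Set G)

/-- The normaliser of a non-trivial subgroup of `C`. -/
theorem Dih.normalizer_sub {C : Subgroup G} {u : G} (d : Dih C u) {X : Subgroup G} (hX : X ≤ C) (hX1 : X ≠ ⊥) :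
    normalizer (X : Set G) = normalizer (C : Set G) := by
  obtain ⟨⟨x, hx⟩, hx1⟩ := (Subgroup.ne_bot_iff_exists_ne_one).1 hX1
  have hx1' : x ≠ 1 := fun e => hx1 (Subtype.ext e)
  refine le_antisymm (fun g hg => d.TI x (hX hx) hx1' g (hX ((mem_normalizer_iff.1 hg x).1 hx))) ?_
  rw [d.hN, sup_le_iff, zpowers_le]
  constructor
  · intro c hc
    refine mem_normalizer_iff.2 fun y => ⟨fun hy => ?_, fun hy => ?_⟩
    · rw [d.ab c hc y (hX hy), mul_inv_cancel_right]; exact hy
    · have e : y = c * y * c⁻¹ := by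
        have := d.ab c⁻¹ (inv_mem hc) _ (hX hy)
        calc y = c⁻¹ * (c * y * c⁻¹) * c := by group
          _ = c * y * c⁻¹ * c⁻¹ * c := by rw [this]
          _ = c * y * c⁻¹ := by group
      exact e ▸ hy
  · refine mem_normalizer_iff.2 fun y => ⟨fun hy => ?_, fun hy => ?_⟩
    · rw [d.inv y (hX hy)]; exact inv_mem hy
    · have e := d.inv _ (hX hy)
      rw [show u * (u * y * u⁻¹) * u⁻¹ = u * u * y * (u * u)⁻¹ by group, sq_of_order_two d.hu, one_mul,
        inv_one, mul_one] at e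
      exact e ▸ inv_mem hy

variable [Finite G] {t s : G} {K : Subgroup G} {δ : ℤ} {q r : ℕ}

theorem dih_K (h : Data t s K) : Dih K s where
  ab := h.ab
  hu := h.hs
  hC := h.hsK
  inv := h.inv
  hN := by rw [normalizer_K h, h.hH]
  card := by rw [normalizer_K h, card_H h, card_K h]; ring
  cent := fun x hx hx2 => cent_K h hx hx2
  TI := fun x hx hx1 g hg => by rw [normalizer_K h]; exact TI' h hx hx1 hg

/-- A centraliser inverted by an involution. -/
theorem inverted_of_pairs {t y : G} (ht : orderOf t = 2) (hF : 0 < npairs t y)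
    (hC : Nat.card (centralizer ({y} : Set G) : Subgroup G) ≤ npairs t y) :
    ∃ u : G, orderOf u = 2 ∧ ∀ c ∈ centralizer ({y} : Set G), u * c * u⁻¹ = c⁻¹ := by
  have hord : ∀ v : G, IsConj t v → orderOf v = 2 := fun v hv => by
    obtain ⟨c, rfl⟩ := isConj_iff.1 hv
    rw [show c * t * c⁻¹ = MulAut.conj c t from rfl, MulEquiv.orderOf_eq, ht]
  obtain ⟨hne, hfin⟩ := Nat.card_pos_iff.1 hF
  obtain ⟨⟨⟨u, v⟩, hu, hv, huv⟩⟩ := hne
  simp only at hu hv huv
  have hinv : ∀ a b : G, IsConj t a → IsConj t b → a * b = y → a * y * a⁻¹ = y⁻¹ := fun a b ha hb e => by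
    subst e; exact flip_mul (hord a ha) (hord b hb)
  have hu2 := hord u hu
  have hu' : u⁻¹ = u := inv_of_order_two hu2
  let f : {p : G × G // IsConj t p.1 ∧ IsConj t p.2 ∧ p.1 * p.2 = y} → (centralizer ({y} : Set G) : Subgroup G) :=
    fun p => ⟨u * p.1.1, mem_cent_iff.2 (by
      have e1 := hinv _ _ p.2.1 p.2.2.1 p.2.2.2
      have e2 := hinv u v hu hv huv
      calc u * p.1.1 * y = u * (p.1.1 * y * p.1.1⁻¹) * p.1.1 := by group
        _ = (u * y * u⁻¹)⁻¹ * u * p.1.1 := by rw [e1]; group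
        _ = y * (u * p.1.1) := by rw [e2]; group)⟩
  have hinj : Function.Injective f := fun a b e => by
    have h1 : a.1.1 = b.1.1 := mul_left_cancel (congrArg Subtype.val e)
    refine Subtype.ext (Prod.ext h1 ?_)
    have := a.2.2.2.trans b.2.2.2.symm
    rw [h1] at this
    exact mul_left_cancel this
  have hbij : Function.Bijective f :=
    (Function.Injective.bijective_of_nat_card_le hinj hC)
  refine ⟨u, hu2, fun c hc => ?_⟩
  obtain ⟨p, hp⟩ := hbij.2 ⟨c, hc⟩
  have hp' : u * p.1.1 = c := congrArg Subtype.val hp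
  have h1 : p.1.1 = u * c := by rw [← hp', ← mul_assoc, sq_of_order_two hu2, one_mul]
  have h2 := sq_of_order_two (hord _ p.2.1)
  rw [h1] at h2
  rw [hu']
  exact eq_inv_of_mul_eq_one_left (by rw [← h2]; group)

/-- An inverted subgroup is abelian. -/
theorem ab_of_inverted {C : Subgroup G} {u : G} (hinv : ∀ c ∈ C, u * c * u⁻¹ = c⁻¹) :
    ∀ a ∈ C, ∀ b ∈ C, a * b = b * a := by
  intro a ha b hb
  have h1 := hinv _ (mul_mem ha hb)
  rw [show u * (a * b) * u⁻¹ = u * a * u⁻¹ * (u * b * u⁻¹) by group, hinv a ha, hinv b hb, ← mul_inv_rev] at h1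
  exact (inv_injective h1).symm

variable (R : Res t s K δ q r)
include R

theorem cop : (4 * kk K).Coprime q ∧ (4 * kk K).Coprime r ∧ q.Coprime r := coprime_parts R.hδ R.hq R.hr

theorem r_ne : r ≠ 0 := fun e => (Nat.card_pos (α := G)).ne' (by rw [R.hG, e, mul_zero])

theorem q_ne : q ≠ 0 := fun e => (Nat.card_pos (α := G)).ne' (by rw [R.hG, e]; simp)

/-- The type of a prime divisor. -/
theorem prime_cases {l : ℕ} (hl : l.Prime) (hlG : l ∣ Nat.card G) : l ∣ 4 * kk K ∨ l ∣ q ∨ l ∣ r := by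
  rw [R.hG] at hlG
  rcases hl.dvd_mul.1 hlG with h1 | h1
  · rcases hl.dvd_mul.1 h1 with h2 | h2
    · exact .inl h2
    · exact .inr (.inl h2)
  · exact .inr (.inr h1)

theorem sing_of_prime {l n : ℕ} {g : G} (hl : l.Prime) (hg : l ∣ orderOf g) (hn : l ∣ n) : Sing n g :=
  Nat.Prime.not_coprime_iff_dvd.2 ⟨l, hl, hg, hn⟩

/-- An element of prime order `l ∣ 4k` has centraliser of order `2k` or `4k`. -/
theorem cent_dvd_K {l : ℕ} {c : G} (hl : l.Prime) (hc : orderOf c = l) (hlk : l ∣ 4 * kk K) :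
    Nat.card (centralizer ({c} : Set G) : Subgroup G) ∣ 4 * kk K := by
  obtain ⟨c1, c2, -⟩ := cop R
  have hc1 : c ≠ 1 := fun e => hl.ne_one (by rw [← hc, e, orderOf_one])
  have hns : ∀ n, (4 * kk K).Coprime n → ¬ Sing n c := fun n hn => by
    rw [Sing, not_not, hc]; exact hn.coprime_dvd_left hlk
  obtain ⟨d, hd⟩ := conj_into_K R.data R.hG c1 c2 hc1 (hns q c1) (hns r c2)
  rw [show c = d * (d⁻¹ * c * d) * d⁻¹ by group, card_cent_conj]
  by_cases e : d⁻¹ * c * d * (d⁻¹ * c * d) = 1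
  · rw [(eq_t R.data hd e).resolve_left (fun e' => hc1 (by
      calc c = d * (d⁻¹ * c * d) * d⁻¹ := by group
        _ = 1 := by rw [e']; group)), card_H R.data]
  · rw [cent_K R.data hd e, card_K R.data]
    exact Nat.mul_dvd_mul_right (by norm_num) _

/-- The centraliser of a singular element involves only primes of the same kind. -/
theorem cent_primes {n m : ℕ} (hnm : (n = q ∧ m = r) ∨ (n = r ∧ m = q)) {g : G} (hg : Sing n g) :
    (Nat.card (centralizer ({g} : Set G) : Subgroup G)).Coprime (4 * kk K * m) := by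
  obtain ⟨c1, c2, c3⟩ := cop R
  refine Nat.coprime_of_dvd fun l hl h1 h2 => ?_
  haveI := Fact.mk hl
  obtain ⟨⟨c, hcC⟩, hc⟩ := exists_prime_orderOf_dvd_card' l h1
  rw [← Subgroup.orderOf_coe] at hc
  simp only at hc
  obtain ⟨l', hl', hlg, hln⟩ := Nat.Prime.not_coprime_iff_dvd.1 hg
  have hk4 : (4 * kk K).Coprime n ∧ n.Coprime m := by
    rcases hnm with ⟨rfl, rfl⟩ | ⟨rfl, rfl⟩
    · exact ⟨c1, c3⟩
    · exact ⟨c2, c3.symm⟩
  set z := g ^ (orderOf g / l') with hz
  have hzo : orderOf z = l' := orderOf_pow_orderOf_div (orderOf_pos g).ne' hlg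
  have hcz : c * z = z * c := (Commute.pow_right (mem_cent_iff.1 hcC) _).eq
  rcases hl.dvd_mul.1 h2 with h3 | h3
  · have h4 : orderOf z ∣ Nat.card (centralizer ({c} : Set G) : Subgroup G) :=
      orderOf_dvd_natCard _ (mem_cent_iff.2 hcz.symm)
    rw [hzo] at h4
    exact hl'.not_dvd_one (hk4.1 ▸ Nat.dvd_gcd (h4.trans (cent_dvd_K R hl hc h3)) hln)
  · have hne : l.Coprime l' := (Nat.coprime_primes hl hl').2 fun e =>
      hl.not_dvd_one (hk4.2 ▸ Nat.dvd_gcd (e ▸ hln) h3)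
    have ho : orderOf (c * z) = l * l' := by
      rw [(Commute.orderOf_mul_eq_mul_orderOf_of_coprime hcz (by rw [hc, hzo]; exact hne)), hc, hzo]
    rcases hnm with ⟨rfl, rfl⟩ | ⟨rfl, rfl⟩
    · exact R.disj (c * z) (sing_of_prime R hl' (ho ▸ dvd_mul_left _ _) hln) (sing_of_prime R hl (ho ▸ dvd_mul_right _ _) h3)
    · exact R.disj (c * z) (sing_of_prime R hl (ho ▸ dvd_mul_right _ _) h3) (sing_of_prime R hl' (ho ▸ dvd_mul_left _ _) hln)

/-- The centralisers of the `r`-singular elements. -/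
theorem r_cent {g : G} (hg : Sing r g) :
    Nat.card (centralizer ({g} : Set G) : Subgroup G) = r ∧
      ∃ u : G, orderOf u = 2 ∧ ∀ c ∈ centralizer ({g} : Set G), u * c * u⁻¹ = c⁻¹ := by
  have h1 := cent_primes R (.inr ⟨rfl, rfl⟩) hg
  have h2 : Nat.card (centralizer ({g} : Set G) : Subgroup G) ∣ r := by
    refine h1.dvd_of_dvd_mul_left ?_
    rw [← R.hG]
    exact card_subgroup_dvd_card _
  have hpos : 0 < r := Nat.pos_of_ne_zero (r_ne R)
  have hle := Nat.le_of_dvd hpos h2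
  have hF := R.pairsR g hg
  obtain ⟨u, hu, hinv⟩ := inverted_of_pairs R.data.ht (y := g) (by rw [hF]; exact hpos) (by rw [hF]; exact hle)
  refine ⟨le_antisymm hle ?_, u, hu, hinv⟩
  obtain ⟨v, hv⟩ : ∃ v : G, orderOf v = 2 ∧ v * g * v⁻¹ = g⁻¹ := ⟨u, hu, hinv g (mem_cent_iff.2 rfl)⟩
  rw [← hF, npairs]
  refine Nat.card_le_card_of_injective
    (fun p : {p : G × G // IsConj t p.1 ∧ IsConj t p.2 ∧ p.1 * p.2 = g} =>
      (⟨v * p.1.1, mem_cent_iff.2 ?_⟩ : (centralizer ({g} : Set G) : Subgroup G))) fun a b e => ?_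
  · have ho : ∀ w : G, IsConj t w → orderOf w = 2 := fun w hw => by
      obtain ⟨c, rfl⟩ := isConj_iff.1 hw
      rw [show c * t * c⁻¹ = MulAut.conj c t from rfl, MulEquiv.orderOf_eq, R.data.ht]
    have e1 : p.1.1 * g * p.1.1⁻¹ = g⁻¹ := by
      have := flip_mul (ho _ p.2.1) (ho _ p.2.2.1)
      rwa [p.2.2.2] at this
    calc v * p.1.1 * g = v * (p.1.1 * g * p.1.1⁻¹) * p.1.1 := by group
      _ = (v * g * v⁻¹)⁻¹ * v * p.1.1 := by rw [e1]; group
      _ = g * (v * p.1.1) := by rw [hv.2]; group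
  · have h1 : a.1.1 = b.1.1 := mul_left_cancel (congrArg Subtype.val e)
    refine Subtype.ext (Prod.ext h1 ?_)
    have := a.2.2.2.trans b.2.2.2.symm
    rw [h1] at this
    exact mul_left_cancel this

theorem r_cent_eq {g x : G} (hg : Sing r g) (hx : x ∈ centralizer ({g} : Set G)) (hx1 : x ≠ 1) :
    Sing r x ∧ centralizer ({x} : Set G) = centralizer ({g} : Set G) := by
  obtain ⟨hc, u, -, hinv⟩ := r_cent R hg
  have hxr : Sing r x := by
    intro hcop
    refine hx1 (orderOf_eq_one_iff.1 (Nat.eq_one_of_dvd_coprimes hcop dvd_rfl ?_))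
    rw [← hc]
    exact orderOf_dvd_natCard _ hx
  refine ⟨hxr, eq_of_cent_le (fun y hy => mem_cent_iff.2 (ab_of_inverted hinv y hy x hx)) ?_⟩
  rw [(r_cent R hxr).1, hc]

/-- A Hall subgroup of order `r`. -/
theorem exists_T (hr : r ≠ 1) : ∃ T : Subgroup G, ∃ u : G, Dih T u ∧ Nat.card T = r ∧
    (∀ x ∈ T, x ≠ 1 → Sing r x ∧ centralizer ({x} : Set G) = T) ∧
    ∀ y : G, Sing r y → ∃ c : G, centralizer ({y} : Set G) = T.map (MulAut.conj c).toMonoidHom := by
  classical
  obtain ⟨c1, c2, c3⟩ := cop R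
  obtain ⟨l, hl, hlr⟩ := Nat.exists_prime_and_dvd hr
  haveI := Fact.mk hl
  obtain ⟨g, hg⟩ := exists_prime_orderOf_dvd_card' (G := G) l (hlr.trans (R.hG ▸ dvd_mul_left r _))
  have hgs : Sing r g := sing_of_prime R hl (by rw [hg]) hlr
  set T := centralizer ({g} : Set G) with hT
  obtain ⟨hcT, u, hu, hinv⟩ := r_cent R hgs
  have hall : ∀ x ∈ T, x ≠ 1 → Sing r x ∧ centralizer ({x} : Set G) = T := fun x hx hx1 =>
    r_cent_eq R hgs hx hx1
  have hTI : ∀ x ∈ T, x ≠ 1 → ∀ a : G, a * x * a⁻¹ ∈ T → a ∈ normalizer (T : Set G) := fun x hx hx1 a ha =>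
    mem_normalizer_of_cent (hall x hx hx1).2 (hall _ ha fun e => hx1 (conj_eq_one_iff.1 e)).2
  -- every `r`-singular element lies in a conjugate of `T`
  have hconj : ∀ y : G, Sing r y → ∃ c : G, centralizer ({y} : Set G) = T.map (MulAut.conj c).toMonoidHom := by
    intro y hy
    obtain ⟨l', hl', -, hlr'⟩ := Nat.Prime.not_coprime_iff_dvd.1 hy
    have hfac : l' ^ (Nat.card G).factorization l' ∣ r := by
      refine (Nat.Coprime.pow_left _ (?_ : l'.Coprime (4 * kk K * q))).dvd_of_dvd_mul_left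
        (R.hG ▸ Nat.ordProj_dvd _ _)
      exact ((Nat.Coprime.mul_left c2 c3).coprime_dvd_right hlr').symm
    obtain ⟨x, a, hx, hx1, hxa⟩ := exists_conj_mem hl' (hlr'.trans (R.hG ▸ dvd_mul_left r _))
      (A := centralizer ({y} : Set G)) (B := T) (by rw [(r_cent R hy).1]; exact hfac) (by rw [hcT]; exact hfac)
    refine ⟨a⁻¹, ?_⟩
    rw [← (r_cent_eq R hy hx hx1).2, ← (hall _ hxa fun e => hx1 (conj_eq_one_iff.1 e)).2, ← cent_conj]
    congr 2
    group
  -- the `r`-singular elements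
  have hodd : Odd r := by
    have := R.hr
    rcases R.hδ with e | e <;> rw [e] at this <;> exact Nat.odd_iff.2 (by omega)
  have hcount := card_conj_set T hTI
  have hset : ∀ y : G, Sing r y ↔ (y ≠ 1 ∧ ∃ c : G, c⁻¹ * y * c ∈ T) := fun y => by
    refine ⟨fun hy => ⟨fun e => hy (by rw [e, orderOf_one]; exact Nat.coprime_one_left r), ?_⟩, fun ⟨hy1, c, hc⟩ => ?_⟩
    · obtain ⟨c, hc⟩ := hconj y hy
      have := mem_cent_iff.2 (rfl : y * y = y * y)
      rw [hc, mem_map_equiv, MulAut.conj_symm_apply] at this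
      exact ⟨c, this⟩
    · have h3 := (hall _ hc fun e => hy1 (by
        calc y = c * (c⁻¹ * y * c) * c⁻¹ := by group
          _ = 1 := by rw [e]; group)).1
      rw [show y = c * (c⁻¹ * y * c) * c⁻¹ by group, sing_conj]
      exact h3
  have hKcount := card_conj_set K (dih_K R.data).TI
  have hsetK : ∀ y : G, (y ≠ 1 ∧ ∃ c : G, c⁻¹ * y * c ∈ K) ↔ (y ≠ 1 ∧ ¬ Sing q y ∧ ¬ Sing r y) := fun y => by
    refine ⟨fun ⟨hy1, c, hc⟩ => ⟨hy1, not_sing_K R.data c1 hc, not_sing_K R.data c2 hc⟩, fun ⟨hy1, a, b⟩ =>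
      ⟨hy1, conj_into_K R.data R.hG c1 c2 hy1 a b⟩⟩
  have hpart : Nat.card {y : G // Sing q y} + Nat.card {y : G // Sing r y} +
      Nat.card {y : G // y ≠ 1 ∧ ∃ c : G, c⁻¹ * y * c ∈ K} + 1 = Nat.card G := by
    letI := Fintype.ofFinite G
    simp only [Nat.card_eq_fintype_card, Fintype.card_subtype, hsetK]
    have key : ∑ y : G, ((if Sing q y then 1 else 0) + (if Sing r y then 1 else 0) +
        (if y ≠ 1 ∧ ¬ Sing q y ∧ ¬ Sing r y then 1 else 0) + (if y = 1 then 1 else 0) : ℕ) = ∑ _y : G, 1 := by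
      refine Finset.sum_congr rfl fun y _ => ?_
      by_cases y1 : y = 1
      · simp [y1, Sing]
      by_cases a : Sing q y
      · have b : ¬ Sing r y := fun b => R.disj y a b
        simp [y1, a, b]
      by_cases b : Sing r y <;> simp [y1, a, b]
    simp only [Finset.sum_add_distrib, Finset.sum_boole, Nat.cast_id, Finset.sum_const, Finset.card_univ,
      smul_eq_mul, mul_one] at key
    rw [(Finset.card_eq_one.2 ⟨(1 : G), by ext x; simp⟩ : (Finset.univ.filter fun x : G => x = 1).card = 1)] at key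
    convert key using 1
  have hnorm : Nat.card (normalizer (T : Set G) : Subgroup G) = 2 * r := by
    rw [hcT] at hcount
    rw [show {y : G // y ≠ 1 ∧ ∃ c : G, c⁻¹ * y * c ∈ T} = {y : G // Sing r y} by
      congr 1; funext y; exact propext (hset y).symm] at hcount
    rw [(dih_K R.data).card, card_K R.data] at hKcount
    set a := Nat.card {y : G // Sing q y}
    set b := Nat.card {y : G // Sing r y}
    set c := Nat.card {y : G // y ≠ 1 ∧ ∃ c : G, c⁻¹ * y * c ∈ K}
    set n := Nat.card (normalizer (T : Set G) : Subgroup G)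
    have hk := kk_pos R.data
    have hr2 : 2 ≤ r := by have := r_ne R; omega
    have e1 : (a : ℤ) + 1 = (q : ℤ) ^ 2 := by exact_mod_cast R.cardQ
    have e2 : (b : ℤ) * n = 4 * kk K * q * r * ((r : ℤ) - 1) := by
      have : ((r - 1 : ℕ) : ℤ) = (r : ℤ) - 1 := by push_cast [Nat.cast_sub (by omega : 1 ≤ r)]; ring
      rw [← this]
      rw [R.hG] at hcount
      exact_mod_cast hcount
    have e3 : (c : ℤ) = q * r * (2 * kk K - 1) := by
      have h5 : ((2 * kk K - 1 : ℕ) : ℤ) = 2 * (kk K : ℤ) - 1 := by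
        push_cast [Nat.cast_sub (by omega : 1 ≤ 2 * kk K)]; ring
      rw [R.hG] at hKcount
      have h6 : (c : ℤ) * (2 * (2 * kk K)) = 4 * kk K * q * r * ((2 * kk K - 1 : ℕ) : ℤ) := by exact_mod_cast hKcount
      rw [h5] at h6
      apply mul_right_cancel₀ (by positivity : (4 * (kk K : ℤ)) ≠ 0)
      linear_combination h6
    have e4 : (a : ℤ) + b + c + 1 = 4 * kk K * q * r := by
      rw [R.hG] at hpart
      exact_mod_cast hpart
    have e5 : (b : ℤ) = 2 * kk K * q * ((r : ℤ) - 1) := by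
      have hb5 : (b : ℤ) = 4 * kk K * q * r - (q : ℤ) ^ 2 - q * r * (2 * kk K - 1) := by linarith
      rw [hb5, R.hq, R.hr]
      rcases R.hδ with e | e <;> rw [e] <;> ring
    have hb : (b : ℤ) ≠ 0 := by
      rw [e5]
      have : (0 : ℤ) < (r : ℤ) - 1 := by omega
      have : (0 : ℤ) < q := by have := q_ne R; omega
      positivity
    have : (n : ℤ) = 2 * r := by
      apply mul_left_cancel₀ hb
      rw [e2, e5]; ring
    exact_mod_cast this
  have huT : u ∉ T := fun hm => by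
    have h3 : orderOf u ∣ r := hcT ▸ orderOf_dvd_natCard _ hm
    rw [hu] at h3
    obtain ⟨m, rfl⟩ := h3
    exact Nat.not_even_iff_odd.2 hodd (even_two_mul m)
  have hle : T ⊔ zpowers u ≤ normalizer (T : Set G) := by
    rw [sup_le_iff, zpowers_le]
    refine ⟨le_normalizer, mem_normalizer_iff.2 fun y => ⟨fun hy => by rw [hinv y hy]; exact inv_mem hy,
      fun hy => ?_⟩⟩
    have e := hinv _ hy
    rw [show u * (u * y * u⁻¹) * u⁻¹ = u * u * y * (u * u)⁻¹ by group, sq_of_order_two hu, one_mul,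
      inv_one, mul_one] at e
    exact e ▸ inv_mem hy
  refine ⟨T, u, ⟨ab_of_inverted hinv, hu, huT, hinv, (Subgroup.eq_of_le_of_card_ge hle ?_).symm,
    by rw [hnorm, hcT], fun x hx hx2 => (hall x hx fun e => hx2 (by rw [e, one_mul])).2, hTI⟩, hcT, hall, hconj⟩
  rw [hnorm]
  obtain ⟨m, hm⟩ := card_dvd_of_le (le_sup_left : T ≤ T ⊔ zpowers u)
  rw [hcT] at hm
  rw [hm, mul_comm r m]
  refine Nat.mul_le_mul_right r ?_
  by_contra hlt
  have hm1 : m = 1 := by
    have := Nat.card_pos (α := (T ⊔ zpowers u : Subgroup G))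
    rcases Nat.eq_zero_or_pos m with rfl | hp
    · rw [mul_zero] at hm; omega
    · omega
  rw [hm1, mul_one] at hm
  have := Subgroup.eq_of_le_of_card_ge (le_sup_left : T ≤ T ⊔ zpowers u) (by rw [hm, hcT])
  exact huT (this ▸ le_sup_right (α := Subgroup G) (mem_zpowers u))

end Cfsg.Lib.BSW
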