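import Cfsg.Agent.BSW.Tau

/-!
# The dual of `K` in the Brauer–Suzuki–Wall configuration

There is exactly one real non-trivial linear character `l₀`; the others fall into `k - 1` pairs.
-/

set_option autoImplicit false
set_option linter.style.haveILetI false
set_option linter.unusedSectionVars false

namespace Cfsg.Lib.BSW

open Subgroup Cfsg.Lib.InvolCalc Cfsg.Lib.Chars
open scoped ComplexConjugate

universe u

variable {G : Type u} [Group G] [Fintype G] {t s : G} {K : Subgroup G}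

/-- `λ + λ⁻¹`. -/
noncomputable def cc (l : K →* ℂˣ) (y : K) : ℂ := (l y : ℂ) + ((l y)⁻¹ : ℂˣ)

theorem cc_inv (l : K →* ℂˣ) (y : K) : cc l⁻¹ y = cc l y := by
  simp only [cc, MonoidHom.inv_apply, inv_inv]
  ring

theorem sum_inv_arg [Fintype (K →* ℂˣ)] (y : K) :
    ∑ l : K →* ℂˣ, ((l y)⁻¹ : ℂˣ).val = ∑ l : K →* ℂˣ, (l y : ℂ) :=
  Fintype.sum_equiv (Equiv.inv (K →* ℂˣ)) _ _ fun _ => rfl

variable (h : Data t s K)
include h

theorem card_lam : Nat.card (K →* ℂˣ) = 2 * kk K := by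
  letI : CommGroup K := { (inferInstance : Group K) with mul_comm := fun a b => Subtype.ext (h.ab a a.2 b b.2) }
  haveI : NeZero (Monoid.exponent K) := ⟨Monoid.exponent_ne_zero_of_finite⟩
  obtain ⟨e⟩ := CommGroup.monoidHom_mulEquiv_of_hasEnoughRootsOfUnity K ℂ
  rw [Nat.card_congr e.toEquiv, card_K h]

/-- The unique real non-trivial linear character. -/
theorem exists_real : ∃ l₀ : K →* ℂˣ, l₀ ≠ 1 ∧ l₀⁻¹ = l₀ ∧ ∀ l : K →* ℂˣ, l⁻¹ = l → l = 1 ∨ l = l₀ := by
  letI : CommGroup K := { (inferInstance : Group K) with mul_comm := fun a b => Subtype.ext (h.ab a a.2 b b.2) }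
  haveI : NeZero (Monoid.exponent K) := ⟨Monoid.exponent_ne_zero_of_finite⟩
  obtain ⟨e⟩ := CommGroup.monoidHom_mulEquiv_of_hasEnoughRootsOfUnity K ℂ
  refine ⟨e.symm ⟨t, h.htK⟩, fun e' => ?_, ?_, fun l hl => ?_⟩
  · have := congrArg e e'
    rw [e.apply_symm_apply, map_one] at this
    exact t_ne h (congrArg Subtype.val this)
  · apply e.injective
    rw [map_inv, e.apply_symm_apply]
    exact Subtype.ext (inv_of_order_two h.ht)
  · have h1 : (e l)⁻¹ = e l := by rw [← map_inv, hl]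
    rcases eq_t h (e l).2 (by
      have h2 : e l * e l = 1 := by nth_rw 1 [← h1]; exact inv_mul_cancel _
      exact congrArg Subtype.val h2) with h' | h'
    · exact .inl (e.injective ((Subtype.ext h').trans (map_one e).symm))
    · exact .inr (e.injective (by rw [e.apply_symm_apply]; exact Subtype.ext h'))

open scoped Classical in
theorem sum_dual [Fintype (K →* ℂˣ)] {y : K} (hy : y ≠ 1) : ∑ l : K →* ℂˣ, (l y : ℂ) = 0 := by
  letI : CommGroup K := { (inferInstance : Group K) with mul_comm := fun a b => Subtype.ext (h.ab a a.2 b b.2) }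
  haveI : NeZero (Monoid.exponent K) := ⟨Monoid.exponent_ne_zero_of_finite⟩
  obtain ⟨φ, hφ⟩ := CommGroup.exists_apply_ne_one_of_hasEnoughRootsOfUnity K ℂ hy
  refine sum_hom_units_eq_zero (R := ℂ) (G := K →* ℂˣ)
    ((Units.coeHom ℂ).comp ((Pi.evalMonoidHom (fun _ : K => ℂˣ) y).comp (MonoidHom.coeFn K ℂˣ))) fun e => hφ ?_
  have := DFunLike.congr_fun e φ
  exact Units.ext (by simpa using this)

variable {l₀ : K →* ℂˣ} (h0 : l₀ ≠ 1) (hr : l₀⁻¹ = l₀)
include h0 hr

theorem l0_sign (y : K) : (l₀ y : ℂ) * (l₀ y : ℂ) = 1 := by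
  have : (l₀ y)⁻¹ = l₀ y := by rw [← MonoidHom.inv_apply, hr]
  nth_rw 1 [← this]
  rw [← Units.val_mul, inv_mul_cancel, Units.val_one]

theorem cc_l0 (y : K) : cc l₀ y = 2 * (l₀ y : ℂ) := by
  rw [cc, ← MonoidHom.inv_apply, hr, two_mul]

open scoped Classical in
theorem card_pairs [Fintype (K →* ℂˣ)] :
    ((Finset.univ : Finset (K →* ℂˣ)) \ {1, l₀}).card + 2 = 2 * kk K := by
  rw [Finset.card_sdiff, Finset.inter_univ, Finset.card_pair (Ne.symm h0), Finset.card_univ,
    ← Nat.card_eq_fintype_card, card_lam h]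
  have := kk_pos h
  omega

open scoped Classical in
/-- First moment. -/
theorem sum_cc [Fintype (K →* ℂˣ)] {y : K} (hy : y ≠ 1) :
    ∑ l ∈ (Finset.univ : Finset (K →* ℂˣ)) \ {1, l₀}, cc l y = -2 - 2 * (l₀ y : ℂ) := by
  have h1 := Finset.sum_sdiff (f := fun l : K →* ℂˣ => cc l y) (Finset.subset_univ ({1, l₀} : Finset (K →* ℂˣ)))
  rw [Finset.sum_pair (Ne.symm h0), cc_l0 h h0 hr] at h1
  simp only [cc, Finset.sum_add_distrib, sum_inv_arg, sum_dual h hy, MonoidHom.one_apply, inv_one,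
    Units.val_one] at h1 ⊢
  linear_combination h1

open scoped Classical in
/-- Second moment. -/
theorem sum_cc_sq [Fintype (K →* ℂˣ)] {y : K} (hy : y ≠ 1) :
    ∑ l ∈ (Finset.univ : Finset (K →* ℂˣ)) \ {1, l₀}, cc l y * cc l y =
      4 * (kk K : ℂ) + (if y * y = 1 then 4 * (kk K : ℂ) else 0) - 8 := by
  have h1 := Finset.sum_sdiff (f := fun l : K →* ℂˣ => cc l y * cc l y)
    (Finset.subset_univ ({1, l₀} : Finset (K →* ℂˣ)))
  rw [Finset.sum_pair (Ne.symm h0), cc_l0 h h0 hr] at h1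
  have h2 : ∀ l : K →* ℂˣ, cc l y * cc l y = (l (y * y) : ℂ) + 2 + ((l (y * y))⁻¹ : ℂˣ) := fun l => by
    rw [map_mul, mul_inv, Units.val_mul, Units.val_mul, cc]
    have e : (l y : ℂ) * ((l y)⁻¹ : ℂˣ) = 1 := by rw [← Units.val_mul, mul_inv_cancel, Units.val_one]
    linear_combination 2 * e
  have h3 : ∑ l : K →* ℂˣ, cc l y * cc l y = 4 * (kk K : ℂ) + if y * y = 1 then 4 * (kk K : ℂ) else 0 := by
    simp only [h2, Finset.sum_add_distrib, Finset.sum_const, Finset.card_univ, sum_inv_arg, nsmul_eq_mul,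
      ← Nat.card_eq_fintype_card, card_lam h]
    split_ifs with e
    · simp only [e, map_one, Units.val_one, Finset.sum_const, Finset.card_univ, nsmul_eq_mul,
        ← Nat.card_eq_fintype_card, card_lam h]
      push_cast
      ring
    · rw [sum_dual h e]
      push_cast
      ring
  rw [h3] at h1
  have e0 := l0_sign h h0 hr y
  simp only [cc, MonoidHom.one_apply, inv_one, Units.val_one] at h1 ⊢
  linear_combination h1 - 4 * e0

end Cfsg.Lib.BSW
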