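import Cfsg.Agent.BSW.SylowTI
import Cfsg.Agent.BSW.Facts
import Mathlib.GroupTheory.SchurZassenhaus

/-!
# The theorem of Brauer, Suzuki and Wall
-/

set_option autoImplicit false
set_option linter.style.haveILetI false
set_option linter.unusedSectionVars false

namespace Cfsg.Lib.BSW

open Subgroup Cfsg.Lib.InvolCalc

universe u

variable {G : Type u} [Group G] [Finite G] {t s : G} {K : Subgroup G}

theorem exists_res_of_data (h : Data t s K) : ∃ (δ : ℤ) (q r : ℕ), Res t s K δ q r := by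
  letI := Fintype.ofFinite G
  obtain ⟨l₀, h0, hr, huniq⟩ := exists_real h
  obtain ⟨θ, A, B, δ, e, f, N, F⟩ := exists_full h h0 hr huniq
  exact ⟨δ, exists_res h F (exists_ord h F h0 hr huniq) h0 hr huniq⟩

/-- The conclusion. -/
def Concl (G : Type u) [Group G] : Prop :=
  ∃ Q D : Subgroup G, 2 * Nat.card G = Nat.card ↥Q * (Nat.card ↥Q + 1) * (Nat.card ↥Q - 1) ∧
    (∀ x ∈ Q, x ≠ 1 → Subgroup.centralizer ({x} : Set G) = Q) ∧
    IsMulCommutative ↥D ∧ 2 * Nat.card ↥D + 1 = Nat.card ↥Q ∧ Q ⊓ D = ⊥ ∧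
    Subgroup.normalizer (Q : Set G) = Q ⊔ D ∧
    ∀ X : Subgroup G, X ≤ D → X ≠ ⊥ →
      Subgroup.normalizer (X : Set G) = Subgroup.normalizer (D : Set G) ∧
      ∃ u : G, orderOf u = 2 ∧ u ∉ D ∧ (∀ d ∈ D, u * d * u⁻¹ = d⁻¹) ∧
        Subgroup.normalizer (D : Set G) = D ⊔ Subgroup.zpowers u

variable {δ : ℤ} {q r : ℕ} (R : Res t s K δ q r)
include R

theorem card_eq : 2 * Nat.card G = q * (q + 1) * (q - 1) := by
  have hq1 : 1 ≤ q := Nat.one_le_iff_ne_zero.2 (q_ne R)
  apply Int.ofNat_injective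
  show ((2 * Nat.card G : ℕ) : ℤ) = ((q * (q + 1) * (q - 1) : ℕ) : ℤ)
  rw [R.hG]
  push_cast [Nat.cast_sub hq1]
  have := sq_q R
  linear_combination -(q : ℤ) * this

/-- The subgroup `Q`. -/
theorem exists_Q : ∃ Q : Subgroup G, Nat.card Q = q ∧ (∀ x ∈ Q, x ≠ 1 → centralizer ({x} : Set G) = Q) ∧
    2 * Nat.card (normalizer (Q : Set G) : Subgroup G) = q * (q - 1) := by
  classical
  obtain ⟨p, e, hp, hq, he⟩ := exists_pp R
  haveI := Fact.mk hp
  have hpq : p ∣ q := hq ▸ dvd_pow_self p he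
  obtain ⟨z, hz⟩ := exists_prime_orderOf_dvd_card' (G := G) p (hpq.trans (q_dvd R))
  have hzs : Sing q z := sing_of_prime R hp (by rw [hz]) hpq
  set Q := centralizer ({z} : Set G) with hQ
  have hcQ : Nat.card Q = q := q_cent R hzs
  have hall : ∀ x ∈ Q, x ≠ 1 → Sing q x ∧ centralizer ({x} : Set G) = Q := fun x hx hx1 =>
    q_cent_eq R hzs hx hx1
  refine ⟨Q, hcQ, fun x hx hx1 => (hall x hx hx1).2, ?_⟩
  have hTI : ∀ x ∈ Q, x ≠ 1 → ∀ a : G, a * x * a⁻¹ ∈ Q → a ∈ normalizer (Q : Set G) := fun x hx hx1 a ha =>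
    mem_normalizer_of_cent (hall x hx hx1).2 (hall _ ha fun e => hx1 (conj_eq_one_iff.1 e)).2
  have hset : ∀ y : G, Sing q y ↔ (y ≠ 1 ∧ ∃ c : G, c⁻¹ * y * c ∈ Q) := fun y => by
    refine ⟨fun hy => ⟨fun e' => hy (by rw [e', orderOf_one]; exact Nat.coprime_one_left q), ?_⟩,
      fun ⟨hy1, c, hc⟩ => ?_⟩
    · obtain ⟨x, a, hx, hx1, hxa⟩ := exists_conj_mem hp (hpq.trans (q_dvd R))
        (A := centralizer ({y} : Set G)) (B := Q) (by rw [q_cent R hy, fact_q R hp hq he, hq])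
        (by rw [hcQ, fact_q R hp hq he, hq])
      refine ⟨a⁻¹, ?_⟩
      rw [inv_inv, ← (hall _ hxa fun e' => hx1 (conj_eq_one_iff.1 e')).2, mem_cent_iff]
      have h1 : y * x = x * y := (mem_cent_iff.1 hx).symm
      calc a * y * a⁻¹ * (a * x * a⁻¹) = a * (y * x) * a⁻¹ := by group
        _ = a * (x * y) * a⁻¹ := by rw [h1]
        _ = a * x * a⁻¹ * (a * y * a⁻¹) := by group
    · have h3 := (hall _ hc fun e' => hy1 (by
        calc y = c * (c⁻¹ * y * c) * c⁻¹ := by group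
          _ = 1 := by rw [e']; group)).1
      rw [show y = c * (c⁻¹ * y * c) * c⁻¹ by group, sing_conj]
      exact h3
  have hcount := card_conj_set Q hTI
  rw [hcQ, show {y : G // y ≠ 1 ∧ ∃ c : G, c⁻¹ * y * c ∈ Q} = {y : G // Sing q y} by
    congr 1; funext y; exact propext (hset y).symm] at hcount
  set n := Nat.card (normalizer (Q : Set G) : Subgroup G)
  have hq1 : 1 ≤ q := Nat.one_le_iff_ne_zero.2 (q_ne R)
  apply Int.ofNat_injective
  show ((2 * n : ℕ) : ℤ) = ((q * (q - 1) : ℕ) : ℤ)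
  have e1 : (Nat.card {y : G // Sing q y} : ℤ) + 1 = (q : ℤ) ^ 2 := by exact_mod_cast R.cardQ
  have e2 : ((Nat.card {y : G // Sing q y} * n : ℕ) : ℤ) = ((4 * kk K * q * r * (q - 1) : ℕ) : ℤ) := by
    rw [hcount, R.hG]
  push_cast [Nat.cast_sub hq1] at e2 ⊢
  have h3 := sq_q R
  have hne : (4 * kk K * r : ℤ) ≠ 0 := by
    have := kk_pos R.data
    have := r_ne R
    positivity
  apply mul_left_cancel₀ hne
  linear_combination e2 - (n : ℤ) * h3 - (n : ℤ) * e1

/-- Assembling the conclusion from a complement conjugated into place. -/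
theorem concl_of {Q D : Subgroup G} (hcQ : Nat.card Q = q) (hQ : ∀ x ∈ Q, x ≠ 1 → centralizer ({x} : Set G) = Q)
    (hN : 2 * Nat.card (normalizer (Q : Set G) : Subgroup G) = q * (q - 1)) {c : G}
    (hD : D.map (MulAut.conj c).toMonoidHom ≤ normalizer (Q : Set G)) (hcD : 2 * Nat.card D + 1 = q)
    (hab : ∀ a ∈ D, ∀ b ∈ D, a * b = b * a)
    (hX : ∀ X : Subgroup G, X ≤ D → X ≠ ⊥ →
      Subgroup.normalizer (X : Set G) = Subgroup.normalizer (D : Set G) ∧
      ∃ u : G, orderOf u = 2 ∧ u ∉ D ∧ (∀ d ∈ D, u * d * u⁻¹ = d⁻¹) ∧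
        Subgroup.normalizer (D : Set G) = D ⊔ Subgroup.zpowers u) : Concl G := by
  set Q' := Q.map (MulAut.conj c⁻¹).toMonoidHom with hQ'
  have hcQ' : Nat.card Q' = q := by rw [hQ', card_map_conj, hcQ]
  have hN' : 2 * Nat.card (normalizer (Q' : Set G) : Subgroup G) = q * (q - 1) := by
    rw [hQ', ← map_equiv_normalizer_eq, card_map_conj, hN]
  have hDN : D ≤ normalizer (Q' : Set G) := fun a ha => by
    rw [hQ', ← map_equiv_normalizer_eq, mem_map_equiv, MulAut.conj_symm_apply, inv_inv]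
    exact hD ⟨a, ha, rfl⟩
  have hcop : (Nat.card Q').Coprime (Nat.card D) := by
    rw [hcQ', ← hcD, Nat.coprime_comm, mul_comm 2]
    exact (Nat.coprime_mul_left_add_right _ 1 2).2 (Nat.coprime_one_right _)
  refine ⟨Q', D, by rw [hcQ']; exact card_eq R, ?_, ⟨⟨fun a b => Subtype.ext (hab a a.2 b b.2)⟩⟩, by rw [hcQ', hcD],
    disjoint_iff.1 (Subgroup.disjoint_of_coprime_natCard hcop), ?_, hX⟩
  · rintro _ ⟨x, hx, rfl⟩ hx1
    show centralizer ({c⁻¹ * x * c⁻¹⁻¹} : Set G) = _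
    rw [cent_conj, hQ x hx fun e => hx1 (by rw [e, map_one])]
  · refine (Subgroup.eq_of_le_of_card_ge (sup_le le_normalizer hDN) ?_).symm
    have h1 : q * Nat.card D ∣ Nat.card (Q' ⊔ D : Subgroup G) := by
      rw [← hcQ']
      exact hcop.mul_dvd_of_dvd_of_dvd (card_dvd_of_le le_sup_left) (card_dvd_of_le le_sup_right)
    refine le_trans (le_of_eq ?_) (Nat.le_of_dvd Nat.card_pos h1)
    refine Nat.eq_of_mul_eq_mul_left (by norm_num : 0 < 2) ?_
    rw [hN', show q - 1 = 2 * Nat.card D by omega]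
    ring

theorem concl : Concl G := by
  classical
  obtain ⟨Q, hcQ, hQ, hN⟩ := exists_Q R
  obtain ⟨p, e, hp, hq, he⟩ := exists_pp R
  haveI := Fact.mk hp
  have hpq : p ∣ q := hq ▸ dvd_pow_self p he
  obtain ⟨c1, c2, c3⟩ := cop R
  have hq1 : 2 ≤ q := hp.two_le.trans (Nat.le_of_dvd (Nat.pos_of_ne_zero (q_ne R)) hpq)
  set N := normalizer (Q : Set G) with hNdef
  -- a complement
  have hi : 2 * (Q.subgroupOf N).index + 1 = q := by
    have h1 := (Q.subgroupOf N).card_mul_index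
    rw [Nat.card_congr (subgroupOfEquivOfLe (le_normalizer : Q ≤ N)).toEquiv, hcQ] at h1
    rw [← h1] at hN
    have : q * (2 * (Q.subgroupOf N).index) = q * (q - 1) := by linarith
    have := Nat.eq_of_mul_eq_mul_left (by omega) this
    omega
  haveI : (Q.subgroupOf N).Normal := normal_in_normalizer
  obtain ⟨E', hE'⟩ := exists_right_complement'_of_coprime (N := Q.subgroupOf N) (by
    rw [Nat.card_congr (subgroupOfEquivOfLe (le_normalizer : Q ≤ N)).toEquiv, hcQ]
    conv => arg 1; rw [← hi, mul_comm 2]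
    rw [Nat.coprime_comm]
    exact (Nat.coprime_mul_left_add_right _ 1 2).2 (Nat.coprime_one_right _))
  set E := E'.map N.subtype with hE
  have hcE : Nat.card E = (Q.subgroupOf N).index := by
    rw [hE, card_map_of_injective N.subtype_injective, hE'.symm.index_eq_card]
  have hEN : E ≤ N := fun a ⟨b, _, hb⟩ => hb ▸ b.2
  obtain ⟨z, hzQ, hz1⟩ : ∃ z ∈ Q, z ≠ 1 := by
    haveI : Nontrivial Q := Finite.one_lt_card_iff_nontrivial.1 (by omega)
    obtain ⟨⟨z, hz⟩, hz1⟩ := exists_ne (1 : Q)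
    exact ⟨z, hz, fun e => hz1 (Subtype.ext e)⟩
  have hQE : ∀ x ∈ E, x ∈ Q → x = 1 := fun x hx hxQ => by
    have h1 : orderOf x ∣ Nat.card E := orderOf_dvd_natCard _ hx
    have h2 : orderOf x ∣ q := hcQ ▸ orderOf_dvd_natCard _ hxQ
    refine orderOf_eq_one_iff.1 (Nat.eq_one_of_dvd_coprimes ?_ h1 h2)
    rw [hcE]
    conv => arg 2; rw [← hi, mul_comm 2]
    exact (Nat.coprime_mul_left_add_right _ 1 2).2 (Nat.coprime_one_right _)
  rcases R.hδ with hδ | hδ
  · -- `D = K`
    have hcK : 2 * Nat.card K + 1 = q := by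
      have := R.hq
      rw [hδ] at this
      rw [card_K R.data]; omega
    have hcE' : Nat.card E = Nat.card K := by omega
    obtain ⟨⟨u, huE⟩, hu⟩ := exists_prime_orderOf_dvd_card' (G := E) 2 (by rw [hcE', card_K R.data]; exact dvd_mul_right 2 _)
    rw [← Subgroup.orderOf_coe] at hu
    simp only at hu
    have hinv : ∀ v ∈ E, orderOf v = 2 → ∀ y ∈ Q, v * y * v⁻¹ = y⁻¹ := by
      intro v hv hvo y hy
      have hy' : v * y * v⁻¹ ∈ Q := (mem_normalizer_iff.1 (hEN hv) y).1 hy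
      set x := y * (v * y * v⁻¹) with hx
      by_contra hne
      have hx1 : x ≠ 1 := fun e' => hne (eq_inv_of_mul_eq_one_right e')
      have hxQ : x ∈ Q := mul_mem hy hy'
      have hcomm : y * (v * y * v⁻¹) = v * y * v⁻¹ * y := by
        by_cases hy1 : y = 1
        · subst hy1; simp
        · exact (mem_cent_iff.1 ((hQ y hy hy1).symm ▸ hy')).symm
      have hfix : v * x = x * v := by
        rw [← mul_inv_eq_iff_eq_mul]
        calc v * x * v⁻¹ = v * y * v⁻¹ * (v * v * y * (v * v)⁻¹) := by rw [hx]; group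
          _ = v * y * v⁻¹ * y := by rw [sq_of_order_two hvo]; group
          _ = x := by rw [← hcomm]
      have hvQ : v ∈ Q := hQ x hxQ hx1 ▸ mem_cent_iff.2 hfix
      exact ne_one_of_order_two hvo (hQE v hv hvQ)
    have huniq : ∀ v ∈ E, orderOf v = 2 → v = u := by
      intro v hv hvo
      have hm : v * u ∈ centralizer ({z} : Set G) := mem_cent_iff.2 (by
        calc v * u * z = v * (u * z * u⁻¹) * v⁻¹ * (v * u) := by group
          _ = (v * z * v⁻¹)⁻¹ * (v * u) := by rw [hinv u huE hu z hzQ]; group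
          _ = z * (v * u) := by rw [hinv v hv hvo z hzQ, inv_inv])
      rw [hQ z hzQ hz1] at hm
      have h1 := hQE _ (mul_mem hv huE) hm
      rw [eq_inv_of_mul_eq_one_left h1, inv_of_order_two hu]
    obtain ⟨c, hc⟩ := isConj_iff.1 (R.data.conj t u R.data.ht hu)
    have hEle : E ≤ K.map (MulAut.conj c).toMonoidHom := by
      intro a ha
      rw [mem_map_equiv, MulAut.conj_symm_apply]
      have h1 : a * u * a⁻¹ = u := huniq _ (mul_mem (mul_mem ha huE) (inv_mem ha)) (by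
        rw [show a * u * a⁻¹ = MulAut.conj a u from rfl, MulEquiv.orderOf_eq, hu])
      have hH : c⁻¹ * a * c ∈ centralizer ({t} : Set G) := mem_cent_iff.2 (by
        have h2 : a * (c * t * c⁻¹) = c * t * c⁻¹ * a := by
          rw [hc]; exact mul_inv_eq_iff_eq_mul.1 h1
        calc c⁻¹ * a * c * t = c⁻¹ * (a * (c * t * c⁻¹)) * c := by group
          _ = c⁻¹ * (c * t * c⁻¹ * a) * c := by rw [h2]
          _ = t * (c⁻¹ * a * c) := by group)
      rcases mem_H R.data hH with hK | ⟨b, hb, e'⟩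
      · exact hK
      · exfalso
        have h3 : orderOf (c⁻¹ * a * c) = 2 := e' ▸ smul_order R.data hb
        rw [show c⁻¹ * a * c = MulAut.conj c⁻¹ a by simp, MulEquiv.orderOf_eq] at h3
        rw [huniq a ha h3, ← hc, show c⁻¹ * (c * t * c⁻¹) * c = t by group] at e'
        exact smul_not_mem R.data hb (e' ▸ R.data.htK)
    have hEeq : E = K.map (MulAut.conj c).toMonoidHom :=
      Subgroup.eq_of_le_of_card_ge hEle (by rw [card_map_conj, hcE'])
    have d := dih_K R.data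
    exact concl_of R hcQ hQ hN (hEeq ▸ hEN) hcK d.ab fun X hX hX1 =>
      ⟨d.normalizer_sub hX hX1, s, d.hu, d.hC, d.inv, d.hN⟩
  · have hr2 : 2 * r + 1 = q := by
      have h1 := R.hq
      have h2 := R.hr
      rw [hδ] at h1 h2
      omega
    by_cases hr1 : r = 1
    · have hEcard : Nat.card E = 1 := by omega
      refine concl_of R hcQ hQ hN (c := 1) (D := ⊥) (by rw [Subgroup.map_bot]; exact bot_le)
        (by rw [Subgroup.card_bot]; omega) (fun a ha b hb => ?_) fun X hX hX1 => absurd (le_bot_iff.1 hX) hX1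
      rw [mem_bot] at ha hb
      rw [ha, hb]
    obtain ⟨T, u, hT, hcT, -, hconj⟩ := exists_T R hr1
    have hcE' : Nat.card E = r := by omega
    have hpr : ∀ n, n ∣ r → ¬ p ∣ n := fun n hn hd => hp.not_dvd_one (c3 ▸ Nat.dvd_gcd hpq (hd.trans hn))
    have hodd : Odd r := by
      have := R.hr
      rw [hδ] at this
      exact Nat.odd_iff.2 (by omega)
    have hoddE : ∀ g ∈ E, Odd (orderOf g) := fun g hg => hodd.of_dvd_nat (hcE' ▸ orderOf_dvd_natCard _ hg)
    obtain ⟨l, hl, hlr⟩ := Nat.exists_prime_and_dvd hr1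
    haveI := Fact.mk hl
    obtain ⟨y, hy⟩ := exists_prime_orderOf_dvd_card' (G := E) l (by rw [hcE']; exact hlr)
    have key : centralizer ({y} : Set E) = ⊤ := by
      refine (partition (p := p) (G := E) fun w hw hwp => ?_).2 y (hy ▸ hl)
        (fun e' => hpr l hlr (by rw [← hy, e'])) (by rw [hcE']; exact hpr r dvd_rfl)
      have hwl : orderOf (w : G) = orderOf w := Subgroup.orderOf_coe w
      have hwr : orderOf w ∣ r := hcE' ▸ orderOf_dvd_natCard w
      have hl2 : orderOf w ≠ 2 := fun e' =>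
        Nat.not_even_iff_odd.2 hodd (even_iff_two_dvd.2 (e' ▸ hwr))
      obtain ⟨f1, f2, f3⟩ := cent_odd R hw hwl hl2 (fun hd => hw.not_dvd_one (c3 ▸ Nat.dvd_gcd hd hwr))
      have hC : centralizer ({w} : Set E) = (centralizer ({(w : G)} : Set G)).subgroupOf E := by
        ext a
        rw [mem_subgroupOf, mem_cent_iff, mem_cent_iff, Subtype.ext_iff, coe_mul, coe_mul]
      have hsq : ∀ x : E, x ≠ 1 → (x : G) * x ≠ 1 := fun x hx1 e' => by
        have h1 : orderOf (x : G) ∣ 2 := orderOf_dvd_of_pow_eq_one (by rw [sq, e'])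
        rcases (Nat.dvd_prime Nat.prime_two).1 h1 with h2 | h2
        · exact hx1 (Subtype.ext (orderOf_eq_one_iff.1 h2))
        · exact Nat.not_odd_iff_even.2 (by rw [h2]; exact even_two) (hoddE _ x.2)
      have hw1 : w ≠ 1 := fun e' => hw.ne_one (by rw [e', orderOf_one])
      refine ⟨hpr _ (hcE' ▸ card_subgroup_dvd_card _), ?_, fun x hx hx1 => ?_⟩
      · refine le_antisymm (fun g hg => ?_) le_normalizer
        have hwC : w ∈ centralizer ({w} : Set E) := mem_cent_iff.2 rfl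
        have h1 := (mem_normalizer_iff.1 hg w).1 hwC
        rw [hC, mem_subgroupOf] at h1
        have hne1 : g * w * g⁻¹ ≠ 1 := fun e' => hw1 (conj_eq_one_iff.1 e')
        have h2 := mem_normalizer_of_cent (g := (g : G)) (x := (w : G)) rfl (f1 _ h1 (hsq _ hne1))
        rw [hC, mem_subgroupOf]
        exact mem_of_odd_normalizer f2 h2 (hoddE _ g.2)
      · rw [hC, mem_subgroupOf] at hx
        rw [hC, ← f1 _ hx (hsq x hx1)]
        ext a
        rw [mem_subgroupOf, mem_cent_iff, mem_cent_iff, Subtype.ext_iff, coe_mul, coe_mul]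
    have hys : Sing r (y : G) := sing_of_prime R hl (by rw [Subgroup.orderOf_coe, hy]) hlr
    obtain ⟨c, hc⟩ := hconj y hys
    have hEle : E ≤ T.map (MulAut.conj c).toMonoidHom := fun a ha => by
      rw [← hc, mem_cent_iff]
      have h1 : (⟨a, ha⟩ : E) ∈ centralizer ({y} : Set E) := key ▸ mem_top _
      exact congrArg Subtype.val (mem_cent_iff.1 h1)
    have hEeq : E = T.map (MulAut.conj c).toMonoidHom :=
      Subgroup.eq_of_le_of_card_ge hEle (by rw [card_map_conj, hcE', hcT])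
    exact concl_of R hcQ hQ hN (hEeq ▸ hEN) (by rw [hcT]; exact hr2) hT.ab fun X hX hX1 =>
      ⟨hT.normalizer_sub hX hX1, u, hT.hu, hT.hC, hT.inv, hT.hN⟩

end Cfsg.Lib.BSW
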