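import Cfsg.Agent.BSW.Values

/-!
# The order of the group
-/

set_option autoImplicit false
set_option linter.style.haveILetI false
set_option linter.unusedSectionVars false

namespace Cfsg.Lib.BSW

open Subgroup Cfsg.Lib.InvolCalc Cfsg.Lib.Chars
open scoped ComplexConjugate

universe u

variable {G : Type u} [Group G] [Fintype G] {t s : G} {K : Subgroup G}

/-- The degrees and the order, with `q = 4k + δ` and `r = 2k + δ`. -/
structure Ord (t : G) (K : Subgroup G) (l₀ : K →* ℂˣ) (θ A B : Cfsg.IrrCharacter G) (δ e f : ℤ)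
    (N : (K →* ℂˣ) → Cfsg.IrrCharacter G) : Prop where
  dθ : (deg (θ : G → ℂ) : ℤ) = 4 * kk K + δ
  dA : (deg (A : G → ℂ) : ℤ) = 2 * kk K + δ
  dB : (deg (B : G → ℂ) : ℤ) = 2 * kk K + δ
  dN : ∀ l, l ≠ 1 → l ≠ l₀ → (deg (N l : G → ℂ) : ℤ) = 2 * (2 * kk K + δ)
  eδ : e = -δ
  fδ : f = -δ
  card : (Nat.card G : ℤ) = 4 * kk K * (4 * kk K + δ) * (2 * kk K + δ)
  θH : ∀ g ∈ centralizer ({t} : Set G), g ≠ 1 → (θ : G → ℂ) g = (δ : ℂ)

variable (h : Data t s K) {l₀ : K →* ℂˣ}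
include h

variable {θ A B : Cfsg.IrrCharacter G} {δ e f : ℤ} {N : (K →* ℂˣ) → Cfsg.IrrCharacter G}
  (F : Full t s K l₀ θ A B δ e f N) (h0 : l₀ ≠ 1) (hr : l₀⁻¹ = l₀)
  (huniq : ∀ l : K →* ℂˣ, l⁻¹ = l → l = 1 ∨ l = l₀)
include F h0 hr huniq

open scoped Classical in
theorem count_zero :
    (Nat.card G : ℂ) * (1 + (δ : ℂ) * ((θ : G → ℂ) t * (θ : G → ℂ) t / (θ : G → ℂ) 1) +
      (e : ℂ) * ((A : G → ℂ) t * (A : G → ℂ) t / (A : G → ℂ) 1) +
      (f : ℂ) * ((B : G → ℂ) t * (B : G → ℂ) t / (B : G → ℂ) 1)) = 32 * (kk K : ℂ) ^ 3 := by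
  rw [← tau_count h l₀ h0 (fun χ => (if χ = principal G then 1 else 0) + (if χ = θ then δ else 0) +
      (if χ = A then e else 0) + (if χ = B then f else 0)) (funext fun g => by
    rw [F.eq0 g]
    simp only [Finset.sum_apply, Pi.smul_apply, smul_eq_mul, Int.cast_add, Int.cast_ite,
      Int.cast_one, Int.cast_zero, add_mul, ite_mul, one_mul, zero_mul, Finset.sum_add_distrib,
      Finset.sum_ite_eq', Finset.mem_univ, if_true]
    rfl)]
  congr 1
  simp only [Int.cast_add, Int.cast_ite, Int.cast_one, Int.cast_zero, add_mul, ite_mul, one_mul, zero_mul,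
    Finset.sum_add_distrib, Finset.sum_ite_eq', Finset.mem_univ, if_true, apply_principal h, div_one]

theorem theta_H {g : G} (hg : g ∈ centralizer ({t} : Set G)) (hg1 : g ≠ 1) : (θ : G → ℂ) g = (δ : ℂ) := by
  have hK : ∀ x ∈ K, x ≠ 1 → (θ : G → ℂ) x = (δ : ℂ) := fun x hx hx1 => by
    have h1 := (values h F h0 hr huniq hx hx1).1
    have h2 : (δ : ℂ) * (δ : ℂ) = 1 := by exact_mod_cast F.hδ
    linear_combination (δ : ℂ) * h1 - (θ : G → ℂ) x * h2
  rcases mem_H h hg with hg' | ⟨a, ha, rfl⟩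
  · exact hK g hg' hg1
  · obtain ⟨c, hc⟩ := isConj_iff.1 (h.conj t _ h.ht (smul_order h ha))
    rw [← hc, isClassFunction_irr θ t c, hK t h.htK (t_ne h)]

theorem theta_cong : ∃ m : ℤ, (deg (θ : G → ℂ) : ℤ) = δ + 4 * kk K * m := by
  classical
  haveI : Fintype (centralizer ({t} : Set G) : Subgroup G) := Fintype.ofFinite _
  obtain ⟨m, hm⟩ := restrict_dvd h θ
  rw [← Finset.add_sum_erase _ _ (Finset.mem_univ (1 : (centralizer ({t} : Set G) : Subgroup G))),
    Finset.sum_congr rfl (fun g hg => theta_H h F h0 hr huniq g.2 fun e =>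
      (Finset.mem_erase.1 hg).1 (Subtype.ext e)),
    Finset.sum_const, Finset.card_erase_of_mem (Finset.mem_univ _), Finset.card_univ,
    ← Nat.card_eq_fintype_card, card_H h, OneMemClass.coe_one, irr_apply_one_eq_deg, nsmul_eq_mul,
    Nat.cast_sub (by have := kk_pos h; omega)] at hm
  refine ⟨m - δ, Int.cast_injective (α := ℂ) ?_⟩
  push_cast at hm ⊢
  linear_combination hm

open scoped Classical in
/-- The degrees and the order. -/
theorem exists_ord : Ord t K l₀ θ A B δ e f N := by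
  haveI : Finite (K →* ℂˣ) := lam_finite
  letI : Fintype (K →* ℂˣ) := Fintype.ofFinite _
  have hk := kk_pos h
  set d : ℤ := (deg (θ : G → ℂ) : ℤ) with hd
  set α : ℤ := e * (deg (A : G → ℂ) : ℤ) with hα
  set β : ℤ := f * (deg (B : G → ℂ) : ℤ) with hβ
  have hdpos : 0 < d := by rw [hd]; exact_mod_cast deg_irr_pos θ
  have hApos : (0 : ℤ) < deg (A : G → ℂ) := by exact_mod_cast deg_irr_pos A
  have hBpos : (0 : ℤ) < deg (B : G → ℂ) := by exact_mod_cast deg_irr_pos B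
  have hsum : α + β = -δ * (d + δ) := by
    have h1 := F.eq0 1
    rw [tau_one] at h1
    simp only [irr_apply_one_eq_deg] at h1
    have h2 : (0 : ℤ) = 1 + δ * d + α + β := by rw [hd, hα, hβ]; exact_mod_cast h1
    linear_combination -h2 + F.hδ
  -- the values at `t`
  obtain ⟨vθ, vN, vA, vB⟩ := values h F h0 hr huniq h.htK (t_ne h)
  have hl0 : (l₀ ⟨t, h.htK⟩ : ℂ) * (l₀ ⟨t, h.htK⟩ : ℂ) = 1 := l0_sign h h0 hr _
  have hδC : (δ : ℂ) * (δ : ℂ) = 1 := by exact_mod_cast F.hδ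
  have heC : (e : ℂ) * (e : ℂ) = 1 := by exact_mod_cast F.he
  have hfC : (f : ℂ) * (f : ℂ) = 1 := by exact_mod_cast F.hf
  have hαne : (α : ℂ) ≠ 0 := by
    have : α ≠ 0 := mul_ne_zero (fun e' => by have := F.he; rw [e'] at this; norm_num at this) hApos.ne'
    exact_mod_cast this
  have hβne : (β : ℂ) ≠ 0 := by
    have : β ≠ 0 := mul_ne_zero (fun e' => by have := F.hf; rw [e'] at this; norm_num at this) hBpos.ne'
    exact_mod_cast this
  have hdne : (d : ℂ) ≠ 0 := by exact_mod_cast hdpos.ne'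
  have eθ : (θ : G → ℂ) t * (θ : G → ℂ) t / (θ : G → ℂ) 1 = 1 / (d : ℂ) := by
    rw [irr_apply_one_eq_deg, hd, Int.cast_natCast]
    congr 1
    linear_combination ((δ : ℂ) * (θ : G → ℂ) t + 1) * vθ - (θ : G → ℂ) t * (θ : G → ℂ) t * hδC
  have eA : (e : ℂ) * ((A : G → ℂ) t * (A : G → ℂ) t / (A : G → ℂ) 1) = 1 / (α : ℂ) := by
    rw [irr_apply_one_eq_deg, hα]
    push_cast
    have h1 : (A : G → ℂ) t * (A : G → ℂ) t = 1 := by
      linear_combination ((e : ℂ) * (A : G → ℂ) t - (l₀ ⟨t, h.htK⟩ : ℂ)) * vA + hl0 -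
        (A : G → ℂ) t * (A : G → ℂ) t * heC
    have hne : (deg (A : G → ℂ) : ℂ) ≠ 0 := by exact_mod_cast (deg_irr_pos A).ne'
    have he0 : (e : ℂ) ≠ 0 := left_ne_zero_of_mul_eq_one heC
    rw [h1]
    field_simp
    linear_combination heC
  have eB : (f : ℂ) * ((B : G → ℂ) t * (B : G → ℂ) t / (B : G → ℂ) 1) = 1 / (β : ℂ) := by
    rw [irr_apply_one_eq_deg, hβ]
    push_cast
    have h1 : (B : G → ℂ) t * (B : G → ℂ) t = 1 := by
      linear_combination ((f : ℂ) * (B : G → ℂ) t - (l₀ ⟨t, h.htK⟩ : ℂ)) * vB + hl0 -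
        (B : G → ℂ) t * (B : G → ℂ) t * hfC
    have hne : (deg (B : G → ℂ) : ℂ) ≠ 0 := by exact_mod_cast (deg_irr_pos B).ne'
    have hf0 : (f : ℂ) ≠ 0 := left_ne_zero_of_mul_eq_one hfC
    rw [h1]
    field_simp
    linear_combination hfC
  have hG : (Nat.card G : ℂ) ≠ 0 := by exact_mod_cast Nat.card_pos.ne'
  have II : (Nat.card G : ℂ) * (1 + (δ : ℂ) * (1 / (d : ℂ)) + 1 / (α : ℂ) + 1 / (β : ℂ)) =
      32 * (kk K : ℂ) ^ 3 := by
    have := count_zero h F h0 hr huniq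
    rwa [eθ, eA, eB] at this
  -- both are equal
  have hbal : 2 * α = -δ * (d + δ) ∧ 2 * β = -δ * (d + δ) := by
    by_cases hk1 : kk K = 1
    · have := F.kone hk1
      rw [← hα, ← hd] at this
      exact ⟨this, by linarith⟩
    obtain ⟨l, hl⟩ : ∃ l, l ∈ (Finset.univ : Finset (K →* ℂˣ)) \ {1, l₀} := by
      refine Finset.card_pos.1 ?_
      have := card_pairs h h0 hr
      omega
    simp only [Finset.mem_sdiff, Finset.mem_univ, true_and, Finset.mem_insert, Finset.mem_singleton,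
      not_or] at hl
    obtain ⟨hl1, hl2⟩ := hl
    have hn : (deg (N l : G → ℂ) : ℤ) = d + δ := star_deg h F.toStar hl1 hl2
    have hne : ((d + δ : ℤ) : ℂ) ≠ 0 := by
      rw [← hn, Int.cast_natCast]; exact_mod_cast (deg_irr_pos (N l)).ne'
    have eN : (N l : G → ℂ) t * (N l : G → ℂ) t / (N l : G → ℂ) 1 = 4 / ((d + δ : ℤ) : ℂ) := by
      rw [irr_apply_one_eq_deg, ← hn, Int.cast_natCast]
      congr 1
      have h1 := vN l hl1 hl2
      rcases cc_t h l with e' | e' <;> rw [e'] at h1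
      · linear_combination ((δ : ℂ) * (N l : G → ℂ) t + 2) * h1 - (N l : G → ℂ) t * (N l : G → ℂ) t * hδC
      · linear_combination ((δ : ℂ) * (N l : G → ℂ) t - 2) * h1 - (N l : G → ℂ) t * (N l : G → ℂ) t * hδC
    have I := star_count h F.toStar hl1 hl2
    rw [eθ, eN] at I
    have h1 := mul_left_cancel₀ hG (II.trans I.symm)
    field_simp at h1
    push_cast at h1
    have h2 : (α + β) * (d + δ) = -(4 * δ) * (α * β) := by
      apply Int.cast_injective (α := ℂ)
      apply mul_left_cancel₀ hdne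
      push_cast
      linear_combination h1
    have h4 : 4 * (α * β) = (d + δ) ^ 2 := by
      rw [hsum] at h2
      rcases mul_self_eq_one_iff.1 F.hδ with e' | e' <;> rw [e'] at h2 ⊢ <;> linarith
    have h5 : (α - β) ^ 2 = 0 := by
      have : (α - β) ^ 2 = (α + β) ^ 2 - 4 * (α * β) := by ring
      rw [this, hsum, h4]
      linear_combination ((d + δ) ^ 2) * F.hδ
    have h6 : α - β = 0 := by simpa using h5
    omega
  obtain ⟨bα, bβ⟩ := hbal
  -- the degree of `θ` is `4k + δ`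
  obtain ⟨m, hm⟩ := theta_cong h F h0 hr huniq
  rw [← hd] at hm
  have hdδ : 0 < d + δ := by
    rcases mul_self_eq_one_iff.1 F.hδ with e' | e'
    · omega
    · rcases eq_or_ne d 1 with h1 | h1
      · have : α = 0 := by rw [h1, e'] at bα; omega
        exact absurd (by exact_mod_cast this : (α : ℂ) = 0) hαne
      · omega
  have hN : ((d + δ : ℤ) : ℂ) ≠ 0 := by exact_mod_cast hdδ.ne'
  have key : (Nat.card G : ℤ) * (d - δ) ^ 2 = 32 * (kk K : ℤ) ^ 3 * d * (d + δ) := by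
    have h1 : 1 / (α : ℂ) = -2 * (δ : ℂ) / ((d + δ : ℤ) : ℂ) ∧ 1 / (β : ℂ) = -2 * (δ : ℂ) / ((d + δ : ℤ) : ℂ) := by
      have ca : 2 * (α : ℂ) = -(δ : ℂ) * ((d : ℂ) + δ) := by exact_mod_cast bα
      have cb : 2 * (β : ℂ) = -(δ : ℂ) * ((d : ℂ) + δ) := by exact_mod_cast bβ
      push_cast
      push_cast at hN
      constructor <;> field_simp
      · linear_combination (δ : ℂ) * ca - ((d : ℂ) + δ) * hδC
      · linear_combination (δ : ℂ) * cb - ((d : ℂ) + δ) * hδC
    rw [h1.1, h1.2] at II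
    apply Int.cast_injective (α := ℂ)
    push_cast at II hN ⊢
    field_simp at II
    linear_combination II
  -- the inequality from the degrees
  have hge : 1 + d ^ 2 + (kk K - 1 : ℤ) * (d + δ) ^ 2 + 2 * α ^ 2 ≤ (Nat.card G : ℤ) := by
    set L := (Finset.univ : Finset (K →* ℂˣ)) \ {1, l₀} with hLdef
    have hmemL : ∀ l, l ∈ L ↔ l ≠ 1 ∧ l ≠ l₀ := fun l => by simp [hLdef]
    have himg : ∀ χ ∈ L.image N, (χ ≠ principal G ∧ χ ≠ θ ∧ χ ≠ A ∧ χ ≠ B) ∧
        (deg (χ : G → ℂ) : ℤ) = d + δ := fun χ hχ => by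
      obtain ⟨l, hl, rfl⟩ := Finset.mem_image.1 hχ
      obtain ⟨a, b⟩ := (hmemL l).1 hl
      exact ⟨⟨(F.N1 l a b).1, (F.N1 l a b).2, (F.NA l a b).1, (F.NA l a b).2⟩, star_deg h F.toStar a b⟩
    have hc : ((L.image N).card : ℤ) = kk K - 1 := by
      have h1 := sum_fibres h F.toStar hr huniq (R := ℤ) (fun _ => 1)
      simp only [Finset.sum_const, nsmul_eq_mul, mul_one, ← hLdef] at h1
      have h2 := card_pairs h h0 hr
      rw [← hLdef] at h2
      have h3 : (L.card : ℤ) + 2 = 2 * (kk K : ℤ) := by exact_mod_cast h2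
      linarith
    have h1 : ∑ χ ∈ insert (principal G) (insert θ (insert A (insert B (L.image N)))),
        (deg (χ : G → ℂ) : ℤ) ^ 2 ≤ Nat.card G := by
      rw [← sum_deg_sq_nat]
      push_cast
      exact Finset.sum_le_univ_sum_of_nonneg fun χ => sq_nonneg _
    rw [Finset.sum_insert (by
        simp only [Finset.mem_insert, not_or]
        exact ⟨F.θ1.symm, F.A1.symm, F.B1.symm, fun hm => (himg _ hm).1.1 rfl⟩),
      Finset.sum_insert (by
        simp only [Finset.mem_insert, not_or]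
        exact ⟨F.Aθ.symm, F.Bθ.symm, fun hm => (himg _ hm).1.2.1 rfl⟩),
      Finset.sum_insert (by
        simp only [Finset.mem_insert, not_or]
        exact ⟨F.AB, fun hm => (himg _ hm).1.2.2.1 rfl⟩),
      Finset.sum_insert (fun hm => (himg _ hm).1.2.2.2 rfl),
      Finset.sum_congr rfl (fun χ hχ => by rw [(himg χ hχ).2]), Finset.sum_const, nsmul_eq_mul, hc,
      ← hd] at h1
    have hp : (deg (principal G : G → ℂ) : ℤ) = 1 := by
      have := irr_apply_one_eq_deg (principal G)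
      rw [apply_principal h] at this
      exact_mod_cast this.symm
    have hA2 : (deg (A : G → ℂ) : ℤ) ^ 2 = α ^ 2 := by
      rw [hα]; linear_combination -(deg (A : G → ℂ) : ℤ) ^ 2 * F.he
    have hB2 : (deg (B : G → ℂ) : ℤ) ^ 2 = α ^ 2 := by
      rw [show α = β by omega, hβ]; linear_combination -(deg (B : G → ℂ) : ℤ) ^ 2 * F.hf
    rw [hp, hA2, hB2] at h1
    linarith
  -- `m = 1`
  set x : ℤ := d + δ with hx
  have hkZ : (1 : ℤ) ≤ kk K := by exact_mod_cast hk
  have hα2 : 4 * α ^ 2 = x ^ 2 := by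
    have : (2 * α) ^ 2 = (δ * x) ^ 2 := by rw [bα]; ring
    linear_combination this + x ^ 2 * F.hδ
  obtain ⟨hm1, hcard⟩ := multiplier_one hkZ F.hδ hm hdpos hdδ key
    (by rw [← hx]; linarith)
  subst hm1
  have hsign : ∀ {c : ℤ} {n : ℕ}, c * c = 1 → 2 * (c * (n : ℤ)) = -δ * x → c = -δ ∧ (n : ℤ) = 2 * kk K + δ := by
    intro c n hc hcn
    rcases mul_self_eq_one_iff.1 F.hδ with e' | e' <;> rcases mul_self_eq_one_iff.1 hc with ec | ec <;>
      rw [e'] at hm hx hcn ⊢ <;> rw [ec] at hcn ⊢ <;> omega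
  exact
    { dθ := by rw [← hd]; linarith
      dA := (hsign F.he bα).2
      dB := (hsign F.hf bβ).2
      dN := fun l hl hl' => by rw [star_deg h F.toStar hl hl', ← hd]; omega
      eδ := (hsign F.he bα).1
      fδ := (hsign F.hf bβ).1
      card := hcard
      θH := fun g hg hg1 => theta_H h F h0 hr huniq hg hg1 }

end Cfsg.Lib.BSW
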