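import Cfsg.Agent.BSW.Coef

/-!
# The star of exceptional characters

For a non-real `λ` one has `(1 - λ)^G = 1 + δ θ - δ N(λ)`, with `θ`, `δ` independent of `λ`.
-/

set_option autoImplicit false
set_option linter.style.haveILetI false
set_option linter.unusedSectionVars false

namespace Cfsg.Lib.BSW

open Subgroup Cfsg.Lib.InvolCalc Cfsg.Lib.Chars
open scoped ComplexConjugate

universe u

variable {G : Type u} [Group G] [Fintype G] {t s : G} {K : Subgroup G}

/-- The exceptional star with centre `θ`. -/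
structure Star (t s : G) (K : Subgroup G) (l₀ : K →* ℂˣ) (θ : Cfsg.IrrCharacter G) (δ : ℤ)
    (N : (K →* ℂˣ) → Cfsg.IrrCharacter G) : Prop where
  hδ : δ * δ = 1
  θ1 : θ ≠ principal G
  N1 : ∀ l, l ≠ 1 → l ≠ l₀ → N l ≠ principal G ∧ N l ≠ θ
  eq : ∀ l, l ≠ 1 → l ≠ l₀ → ∀ g : G,
    tau l g = 1 + (δ : ℂ) * (θ : G → ℂ) g - (δ : ℂ) * (N l : G → ℂ) g
  fib : ∀ l m, l ≠ 1 → l ≠ l₀ → m ≠ 1 → m ≠ l₀ → (N l = N m ↔ m = l ∨ m = l⁻¹)

variable (h : Data t s K)
include h

theorem apply_principal (g : G) : (principal G : G → ℂ) g = 1 := rfl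

open scoped Classical in
/-- Pairs of constituents: the positive and the negative one. -/
theorem pair_shape {a : Cfsg.IrrCharacter G → ℤ}
    (hsum : ∑ χ ∈ Finset.univ.erase (principal G), a χ * a χ = 2) (hone : a (principal G) = 1)
    (hdeg : ∑ χ, (a χ : ℂ) * (χ : G → ℂ) 1 = 0) :
    ∃ P N : Cfsg.IrrCharacter G, P ≠ principal G ∧ N ≠ principal G ∧ P ≠ N ∧
      deg (N : G → ℂ) = deg (P : G → ℂ) + 1 ∧
      (∀ χ, a χ = (if χ = principal G then 1 else 0) + (if χ = P then 1 else 0) - if χ = N then 1 else 0) := by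
  obtain ⟨hb, hcard⟩ := small_squares (n := 2) (by norm_num) (by exact_mod_cast hsum)
  obtain ⟨x, y, hxy, hS⟩ := Finset.card_eq_two.1 hcard
  have hx : x ∈ Finset.univ.erase (principal G) ∧ a x ≠ 0 := Finset.mem_filter.1 (hS ▸ Finset.mem_insert_self _ _)
  have hy : y ∈ Finset.univ.erase (principal G) ∧ a y ≠ 0 :=
    Finset.mem_filter.1 (hS ▸ Finset.mem_insert_of_mem (Finset.mem_singleton_self _))
  have hx1 := (Finset.mem_erase.1 hx.1).1
  have hy1 := (Finset.mem_erase.1 hy.1).1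
  have hother : ∀ χ, χ ≠ principal G → χ ≠ x → χ ≠ y → a χ = 0 := fun χ h1 h2 h3 => by
    by_contra hne
    have : χ ∈ ({x, y} : Finset _) := hS ▸ Finset.mem_filter.2 ⟨Finset.mem_erase.2 ⟨h1, Finset.mem_univ _⟩, hne⟩
    simp [h2, h3] at this
  rw [← Finset.sum_subset (Finset.subset_univ ({principal G, x, y} : Finset _)) (fun χ _ hχ => by
      simp only [Finset.mem_insert, Finset.mem_singleton, not_or] at hχ
      rw [hother χ hχ.1 hχ.2.1 hχ.2.2]; simp),
    Finset.sum_insert (by simp [Ne.symm hx1, Ne.symm hy1]), Finset.sum_pair hxy, hone,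
    apply_principal h, irr_apply_one_eq_deg, irr_apply_one_eq_deg, Int.cast_one, one_mul] at hdeg
  have hd : (1 : ℤ) + (a x * deg (x : G → ℂ) + a y * deg (y : G → ℂ)) = 0 := by
    exact_mod_cast hdeg
  have px : (0 : ℤ) < deg (x : G → ℂ) := by exact_mod_cast deg_irr_pos x
  have py : (0 : ℤ) < deg (y : G → ℂ) := by exact_mod_cast deg_irr_pos y
  have build : ∀ P N : Cfsg.IrrCharacter G, P ≠ principal G → N ≠ principal G → P ≠ N → a P = 1 → a N = -1 →
      (∀ χ, χ ≠ principal G → χ ≠ P → χ ≠ N → a χ = 0) → ∀ χ,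
      a χ = (if χ = principal G then 1 else 0) + (if χ = P then 1 else 0) - if χ = N then 1 else 0 := by
    intro P N h1 h2 h3 h4 h5 h6 χ
    by_cases e1 : χ = principal G
    · subst e1; simp [hone, Ne.symm h1, Ne.symm h2]
    by_cases e2 : χ = P
    · subst e2; simp [h4, h1, h3]
    by_cases e3 : χ = N
    · subst e3; simp [h5, h2, Ne.symm h3]
    simp [e1, e2, e3, h6 χ e1 e2 e3]
  rcases mul_self_eq_one_iff.1 (hb x hx.1 hx.2) with ex | ex <;>
    rcases mul_self_eq_one_iff.1 (hb y hy.1 hy.2) with ey | ey <;> rw [ex, ey] at hd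
  · omega
  · exact ⟨x, y, hx1, hy1, hxy, by omega, build x y hx1 hy1 hxy ex ey hother⟩
  · exact ⟨y, x, hy1, hx1, hxy.symm, by omega,
      build y x hy1 hx1 hxy.symm ey ex fun χ a b c => hother χ a c b⟩
  · exact absurd hd (by omega)

open scoped Classical in
theorem sum_shape {a : Cfsg.IrrCharacter G → ℤ} {P N : Cfsg.IrrCharacter G} {R : Type*} [CommRing R]
    (ha : ∀ χ, a χ = (if χ = principal G then 1 else 0) + (if χ = P then 1 else 0) - if χ = N then 1 else 0)
    (g : Cfsg.IrrCharacter G → R) :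
    ∑ χ, (a χ : R) * g χ = g (principal G) + g P - g N := by
  simp only [ha, Int.cast_sub, Int.cast_add, Int.cast_ite, Int.cast_one, Int.cast_zero, add_mul, sub_mul,
    ite_mul, one_mul, zero_mul, Finset.sum_add_distrib, Finset.sum_sub_distrib, Finset.sum_ite_eq',
    Finset.mem_univ, if_true]

variable {l₀ : K →* ℂˣ}

/-- The star exists. -/
theorem exists_star_data (h0 : l₀ ≠ 1) (hr : l₀⁻¹ = l₀)
    (huniq : ∀ l : K →* ℂˣ, l⁻¹ = l → l = 1 ∨ l = l₀) {l₁ : K →* ℂˣ} (hl₁ : l₁ ≠ 1) (hl₁' : l₁ ≠ l₀) :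
    ∃ (θ : Cfsg.IrrCharacter G) (δ : ℤ) (N : (K →* ℂˣ) → Cfsg.IrrCharacter G), Star t s K l₀ θ δ N := by
  classical
  obtain ⟨a, ha, hone, hdeg, hgram, hinv⟩ := exists_coef h
  have hself : ∀ l, l ≠ 1 → l ≠ l₀ → ∑ χ ∈ Finset.univ.erase (principal G), a l χ * a l χ = 2 := by
    intro l hl hl'
    have hg := hgram l l hl hl
    rw [tau_gram h l l hl hl, if_pos rfl,
      if_neg (fun e => (huniq l e.symm).elim hl hl')] at hg
    have h3 : ∑ χ, a l χ * a l χ = 3 := by
      apply Int.cast_injective (α := ℂ)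
      rw [hg]; norm_num
    rw [← Finset.add_sum_erase _ _ (Finset.mem_univ (principal G)), hone l hl] at h3
    linarith
  have hd : ∀ l : K →* ℂˣ, ∃ P N : Cfsg.IrrCharacter G, l ≠ 1 → l ≠ l₀ → P ≠ principal G ∧ N ≠ principal G ∧
      P ≠ N ∧ deg (N : G → ℂ) = deg (P : G → ℂ) + 1 ∧
      (∀ χ, a l χ = (if χ = principal G then 1 else 0) + (if χ = P then 1 else 0) - if χ = N then 1 else 0) := by
    intro l
    by_cases hl : l ≠ 1 ∧ l ≠ l₀
    · obtain ⟨P, N, hp⟩ := pair_shape h (hself l hl.1 hl.2) (hone l hl.1) (hdeg l)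
      exact ⟨P, N, fun _ _ => hp⟩
    · exact ⟨principal G, principal G, fun a b => absurd ⟨a, b⟩ hl⟩
  choose P N hPN using hd
  have hval : ∀ l, l ≠ 1 → l ≠ l₀ → ∀ g : G, tau l g = 1 + (P l : G → ℂ) g - (N l : G → ℂ) g := by
    intro l hl hl' g
    rw [congrFun (ha l) g]
    simp only [Finset.sum_apply, Pi.smul_apply, smul_eq_mul]
    rw [sum_shape h (hPN l hl hl').2.2.2.2 (fun χ => (χ : G → ℂ) g), apply_principal h]
  -- two different pairs share exactly one constituent
  have hxor : ∀ l m, l ≠ 1 → l ≠ l₀ → m ≠ 1 → m ≠ l₀ → m ≠ l → m ≠ l⁻¹ → (P l = P m ↔ N l ≠ N m) := by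
    intro l m hl hl' hm hm' hne hne'
    have hg := hgram l m hl hm
    rw [tau_gram h l m hl hm, if_neg (Ne.symm hne), if_neg (fun e => hne' (DFunLike.ext _ _ fun y => by
      rw [e, MonoidHom.inv_apply, MonoidHom.inv_apply, inv_inv])), add_zero, add_zero] at hg
    have h2 : ∑ χ, a l χ * a m χ = 2 := by
      apply Int.cast_injective (α := ℂ)
      rw [hg]; norm_num
    have h3 := sum_shape h (R := ℤ) (fun χ => (hPN l hl hl').2.2.2.2 χ) (a m)
    simp only [Int.cast_id] at h3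
    rw [h3, hone m hm] at h2
    obtain ⟨p1, n1, pn, dl, -⟩ := hPN l hl hl'
    obtain ⟨p1', n1', pn', dm, hm''⟩ := hPN m hm hm'
    rw [hm'', hm''] at h2
    simp only [p1, n1, if_false, zero_add] at h2
    constructor
    · intro hP hN
      rw [if_pos hP, if_pos hN, if_neg (by rw [hP]; exact pn'), if_neg (by rw [hN]; exact pn'.symm)] at h2
      omega
    · intro hN
      by_contra hP
      rw [if_neg hP, if_neg hN] at h2
      split_ifs at h2 <;> omega
  -- the coefficient functions determine the linear character up to inversion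
  have hinj : ∀ l m, l ≠ 1 → m ≠ 1 → l ≠ l₀ → a l = a m → m = l ∨ m = l⁻¹ := by
    intro l m hl hm hl' e
    have h1 := hgram l m hl hm
    rw [← e, hgram l l hl hl, tau_gram h l l hl hl, tau_gram h l m hl hm, if_pos rfl,
      if_neg (fun e => (huniq l e.symm).elim hl hl')] at h1
    by_cases e1 : l = m
    · exact .inl e1.symm
    by_cases e2 : l = m⁻¹
    · exact .inr (DFunLike.ext _ _ fun y => by rw [e2, MonoidHom.inv_apply, MonoidHom.inv_apply, inv_inv])
    rw [if_neg e1, if_neg e2] at h1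
    norm_num at h1
  have hfib : ∀ l m, l ≠ 1 → l ≠ l₀ → m ≠ 1 → m ≠ l₀ → ((P l = P m ∧ N l = N m) ↔ m = l ∨ m = l⁻¹) := by
    intro l m hl hl' hm hm'
    obtain ⟨p1, n1, pn, -, e1⟩ := hPN l hl hl'
    obtain ⟨p1', n1', pn', -, e2⟩ := hPN m hm hm'
    constructor
    · rintro ⟨eP, eN⟩
      exact hinj l m hl hm hl' (funext fun χ => by rw [e1, e2, eP, eN])
    · intro e
      have ea : a m = a l := by rcases e with rfl | rfl; · rfl
                                exact hinv l hl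
      have q1 := congrFun ea (P l)
      have q2 := congrFun ea (N l)
      rw [e1, e2] at q1 q2
      simp only [p1, n1, pn, pn.symm, if_true, if_false, zero_add, sub_zero, zero_sub] at q1 q2
      constructor <;> by_contra hne
      · rw [if_neg hne] at q1
        split_ifs at q1 <;> omega
      · rw [if_neg hne] at q2
        split_ifs at q2 <;> omega
  by_cases hall : ∀ l m, l ≠ 1 → l ≠ l₀ → m ≠ 1 → m ≠ l₀ → P l = P m
  · refine ⟨P l₁, 1, N, by norm_num, (hPN l₁ hl₁ hl₁').1, fun l hl hl' => ⟨(hPN l hl hl').2.1, ?_⟩,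
      fun l hl hl' g => ?_, fun l m hl hl' hm hm' => ?_⟩
    · rw [← hall l l₁ hl hl' hl₁ hl₁']; exact (hPN l hl hl').2.2.1.symm
    · rw [← hall l l₁ hl hl' hl₁ hl₁', hval l hl hl' g, Int.cast_one, one_mul, one_mul]
    · rw [← hfib l m hl hl' hm hm']
      exact ⟨fun e => ⟨hall l m hl hl' hm hm', e⟩, fun e => e.2⟩
  · push Not at hall
    obtain ⟨b, c, hb, hb', hc, hc', hbc⟩ := hall
    have hrel : ∀ l m, l ≠ 1 → l ≠ l₀ → m ≠ 1 → m ≠ l₀ → (m = l ∨ m = l⁻¹) → P l = P m ∧ N l = N m :=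
      fun l m a b c d e => (hfib l m a b c d).2 e
    have hN' : ∀ l m, l ≠ 1 → l ≠ l₀ → m ≠ 1 → m ≠ l₀ → P l ≠ P m → N l = N m := fun l m a b c d hne => by
      by_cases e : m = l ∨ m = l⁻¹
      · exact (hrel l m a b c d e).2
      · push Not at e
        exact not_not.1 fun h' => hne ((hxor l m a b c d e.1 e.2).2 h')
    have hallN : ∀ k, k ≠ 1 → k ≠ l₀ → N k = N b := by
      intro k hk hk'
      by_cases e : P k = P b
      · by_cases e' : N k = N b
        · exact e'
        · exfalso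
          have h1 : P k ≠ P c := fun e'' => hbc (e.symm.trans e'')
          exact e' ((hN' k c hk hk' hc hc' h1).trans (hN' b c hb hb' hc hc' hbc).symm)
      · exact hN' k b hk hk' hb hb' e
    refine ⟨N b, -1, P, by norm_num, (hPN b hb hb').2.1, fun l hl hl' => ⟨(hPN l hl hl').1, ?_⟩,
      fun l hl hl' g => ?_, fun l m hl hl' hm hm' => ?_⟩
    · rw [← hallN l hl hl']; exact (hPN l hl hl').2.2.1
    · rw [← hallN l hl hl', hval l hl hl' g]; push_cast; ring
    · rw [← hfib l m hl hl' hm hm']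
      exact ⟨fun e => ⟨e, (hallN l hl hl').trans (hallN m hm hm').symm⟩, fun e => e.1⟩

end Cfsg.Lib.BSW
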