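import Cfsg.Agent.BSW.Hall

/-!
# The Sylow subgroup of order `q`
-/

set_option autoImplicit false
set_option linter.style.haveILetI false
set_option linter.unusedSectionVars false

namespace Cfsg.Lib.BSW

open Subgroup Cfsg.Lib.InvolCalc

universe u

variable {G : Type u} [Group G] [Finite G] {t s : G} {K : Subgroup G} {δ : ℤ} {q r : ℕ}

theorem Dih.conj_facts {C : Subgroup G} {u : G} (d : Dih C u) (c : G) :
    (∀ x ∈ C.map (MulAut.conj c).toMonoidHom, x * x ≠ 1 →
        centralizer ({x} : Set G) = C.map (MulAut.conj c).toMonoidHom) ∧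
      Nat.card (normalizer ((C.map (MulAut.conj c).toMonoidHom : Subgroup G) : Set G) : Subgroup G) =
        2 * Nat.card (C.map (MulAut.conj c).toMonoidHom : Subgroup G) := by
  constructor
  · rintro _ ⟨x, hx, rfl⟩ hxx
    show centralizer ({c * x * c⁻¹} : Set G) = _
    rw [cent_conj, d.cent x hx fun e => hxx ?_]
    show c * x * c⁻¹ * (c * x * c⁻¹) = 1
    rw [show c * x * c⁻¹ * (c * x * c⁻¹) = c * (x * x) * c⁻¹ by group, e]; group
  · rw [← Subgroup.map_equiv_normalizer_eq, card_map_conj, card_map_conj, d.card]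

/-- A subgroup of odd order normalising an index-two subgroup lies in it. -/
theorem mem_of_odd_normalizer {C : Subgroup G} (hcard : Nat.card (normalizer (C : Set G) : Subgroup G) = 2 * Nat.card C)
    {g : G} (hg : g ∈ normalizer (C : Set G)) (ho : Odd (orderOf g)) : g ∈ C := by
  set N := normalizer (C : Set G)
  have hidx : (C.subgroupOf N).index = 2 := by
    have h1 := (C.subgroupOf N).card_mul_index
    rw [Nat.card_congr (subgroupOfEquivOfLe (le_normalizer : C ≤ N)).toEquiv, hcard, mul_comm 2] at h1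
    exact Nat.eq_of_mul_eq_mul_left Nat.card_pos h1
  have h2 : g ^ 2 ∈ C := sq_mem_of_index_two hidx (⟨g, hg⟩ : N)
  obtain ⟨m, hm⟩ := ho
  have e : g = (g ^ 2) ^ (m + 1) := by
    rw [← pow_mul, show 2 * (m + 1) = (2 * m + 1) + 1 by ring, pow_succ, ← hm, pow_orderOf_eq_one, one_mul]
  exact e ▸ pow_mem h2 _

variable (R : Res t s K δ q r)
include R

/-- The centraliser of an element of odd prime order not dividing `q`. -/
theorem cent_odd {y : G} {l : ℕ} (hl : l.Prime) (hy : orderOf y = l) (hl2 : l ≠ 2) (hlq : ¬ l ∣ q) :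
    (∀ x ∈ centralizer ({y} : Set G), x * x ≠ 1 → centralizer ({x} : Set G) = centralizer ({y} : Set G)) ∧
      Nat.card (normalizer ((centralizer ({y} : Set G) : Subgroup G) : Set G) : Subgroup G) =
        2 * Nat.card (centralizer ({y} : Set G) : Subgroup G) ∧
      (Nat.card (centralizer ({y} : Set G) : Subgroup G)).Coprime q := by
  obtain ⟨c1, c2, c3⟩ := cop R
  have hy1 : y ≠ 1 := fun e => hl.ne_one (by rw [← hy, e, orderOf_one])
  rcases prime_cases R hl (hy ▸ orderOf_dvd_natCard y) with h | h | h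
  · have hns : ∀ n, (4 * kk K).Coprime n → ¬ Sing n y := fun n hn => by
      rw [Sing, not_not, hy]; exact hn.coprime_dvd_left h
    obtain ⟨d, hd⟩ := conj_into_K R.data R.hG c1 c2 hy1 (hns q c1) (hns r c2)
    have hC : centralizer ({y} : Set G) = K.map (MulAut.conj d).toMonoidHom := by
      rw [show y = d * (d⁻¹ * y * d) * d⁻¹ by group, cent_conj, cent_K R.data hd fun e => ?_]
      have h1 : orderOf y ∣ 2 := orderOf_dvd_of_pow_eq_one (by
        rw [sq]
        calc y * y = d * (d⁻¹ * y * d * (d⁻¹ * y * d)) * d⁻¹ := by group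
          _ = 1 := by rw [e]; group)
      rw [hy] at h1
      exact hl2 ((Nat.prime_dvd_prime_iff_eq hl Nat.prime_two).1 h1)
    rw [hC]
    obtain ⟨f1, f2⟩ := (dih_K R.data).conj_facts d
    refine ⟨f1, f2, ?_⟩
    rw [card_map_conj, card_K R.data]
    exact c1.coprime_dvd_left (Nat.mul_dvd_mul_right (by norm_num) _)
  · exact absurd h hlq
  · have hs : Sing r y := sing_of_prime R hl (by rw [hy]) h
    obtain ⟨T, u, hT, hcT, -, hconj⟩ := exists_T R (fun e => hl.not_dvd_one (e ▸ h))
    obtain ⟨c, hC⟩ := hconj y hs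
    rw [hC]
    obtain ⟨f1, f2⟩ := hT.conj_facts c
    refine ⟨f1, f2, ?_⟩
    rw [card_map_conj, hcT]
    exact c3.symm

theorem sq_q : (q : ℤ) ^ 2 - 1 = 8 * kk K * r := by
  rw [R.hq, R.hr]
  rcases R.hδ with e | e <;> rw [e] <;> ring

/-- The centralisers of `q`-singular elements have order `q`. -/
theorem q_cent {g : G} (hg : Sing q g) : Nat.card (centralizer ({g} : Set G) : Subgroup G) = q := by
  set C := Nat.card (centralizer ({g} : Set G) : Subgroup G) with hC
  have hdvd : C ∣ q := by
    refine (cent_primes R (.inl ⟨rfl, rfl⟩) hg).dvd_of_dvd_mul_left ?_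
    rw [show 4 * kk K * r * q = 4 * kk K * q * r by ring, ← R.hG]
    exact card_subgroup_dvd_card _
  obtain ⟨m, hm⟩ := hdvd
  have hcol := R.colQ g hg
  rw [← hC] at hcol
  have hq0 := q_ne R
  have hodd : q % 2 = 1 := by
    have := R.hq
    rcases R.hδ with e | e <;> rw [e] at this <;> omega
  have hmodd : m % 2 = 1 := by
    rw [hm, Nat.mul_mod] at hodd
    rcases Nat.mod_two_eq_zero_or_one m with e | e
    · rw [e] at hodd; simp at hodd
    · exact e
  have hm3 : m ≤ 3 := by
    by_contra hlt
    have h4 : C * 4 ≤ C * m := Nat.mul_le_mul_left C (by omega)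
    have := R.hq
    rcases R.hδ with e | e <;> rw [e] at this <;> omega
  rcases (by omega : m = 1 ∨ m = 3) with rfl | rfl
  · rw [hm, mul_one]
  exfalso
  have hcls := Cfsg.Lib.Chars.card_isConj_mul g
  have hle : Nat.card {x : G // IsConj g x} ≤ Nat.card {x : G // Sing q x} :=
    Nat.card_le_card_of_injective (fun x => ⟨x.1, by
      obtain ⟨c, hc⟩ := isConj_iff.1 x.2
      rw [← hc, sing_conj]; exact hg⟩) fun a b e => Subtype.ext (congrArg (·.1) e :)
  have e1 : (Nat.card {x : G // IsConj g x} : ℤ) = 12 * kk K * r := by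
    rw [← hC, R.hG, hm] at hcls
    have hC0 : (C : ℤ) ≠ 0 := by
      have : C ≠ 0 := Nat.card_pos.ne'
      exact_mod_cast this
    apply mul_right_cancel₀ hC0
    have h5 : ((Nat.card {x : G // IsConj g x} * C : ℕ) : ℤ) = ((4 * kk K * (C * 3) * r : ℕ) : ℤ) := by
      rw [hcls]
    push_cast at h5
    linear_combination h5
  have e2 : (Nat.card {x : G // Sing q x} : ℤ) + 1 = (q : ℤ) ^ 2 := by exact_mod_cast R.cardQ
  have e3 := sq_q R
  have hle' : (Nat.card {x : G // IsConj g x} : ℤ) ≤ Nat.card {x : G // Sing q x} := by exact_mod_cast hle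
  have hkr : (0 : ℤ) < kk K * r := by
    have := kk_pos R.data
    have := r_ne R
    positivity
  linarith

/-- `q` is a prime power. -/
theorem exists_pp : ∃ p e : ℕ, p.Prime ∧ q = p ^ e ∧ e ≠ 0 := by
  classical
  letI := Fintype.ofFinite G
  have hq3 : 3 ≤ q := by
    have h1 := R.hq
    have h2 := kk_pos R.data
    rcases R.hδ with e | e <;> rw [e] at h1 <;> omega
  obtain ⟨p, hp, hpq⟩ := Nat.exists_prime_and_dvd (n := q) (by omega)
  refine ⟨p, q.primeFactorsList.length, hp, Nat.eq_prime_pow_of_unique_prime_dvd (by omega) fun {d} hd hdq => ?_, ?_⟩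
  swap
  · intro e
    rw [List.length_eq_zero_iff, Nat.primeFactorsList_eq_nil] at e
    omega
  by_contra hne
  haveI := Fact.mk hp
  haveI := Fact.mk hd
  have hqG : q ∣ Nat.card G := R.hG ▸ (dvd_mul_left q (4 * kk K)).mul_right r
  obtain ⟨z, hz⟩ := exists_prime_orderOf_dvd_card' (G := G) p (hpq.trans hqG)
  have hzs : Sing q z := sing_of_prime R hp (by rw [hz]) hpq
  obtain ⟨⟨w, hwC⟩, hw⟩ := exists_prime_orderOf_dvd_card' (G := (centralizer ({z} : Set G) : Subgroup G)) d
    (by rw [q_cent R hzs]; exact hdq)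
  rw [← Subgroup.orderOf_coe] at hw
  simp only at hw
  have hzw : orderOf (w * z) = d * p := by
    rw [Commute.orderOf_mul_eq_mul_orderOf_of_coprime (mem_cent_iff.1 hwC)
      (by rw [hw, hz]; exact (Nat.coprime_primes hd hp).2 hne), hw, hz]
  have hws : Sing q w := sing_of_prime R hd (by rw [hw]) hdq
  have hzws : Sing q (w * z) := sing_of_prime R hp (hzw ▸ dvd_mul_left p d) hpq
  let U : G → Finset G := fun a => Finset.univ.filter fun x => IsConj a x
  have hUcard : ∀ a : G, Sing q a → ((U a).card : ℤ) = 4 * kk K * r := fun a ha => by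
    have h1 := Cfsg.Lib.Chars.card_isConj_mul a
    rw [q_cent R ha, R.hG, Nat.card_eq_fintype_card (α := {x : G // IsConj a x}), Fintype.card_subtype] at h1
    have hq0 : (q : ℤ) ≠ 0 := by exact_mod_cast (by omega : q ≠ 0)
    apply mul_right_cancel₀ hq0
    have h5 : (((U a).card * q : ℕ) : ℤ) = ((4 * kk K * q * r : ℕ) : ℤ) := by rw [← h1]
    push_cast at h5
    linear_combination h5
  have hord : ∀ a x : G, x ∈ U a → orderOf x = orderOf a := fun a x hx => by
    obtain ⟨c, rfl⟩ := isConj_iff.1 (Finset.mem_filter.1 hx).2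
    exact MulEquiv.orderOf_eq (MulAut.conj c) a
  have hd1 : Disjoint (U z) (U w) := Finset.disjoint_left.2 fun x a b => hne (by
    have := (hord z x a).symm.trans (hord w x b)
    rw [hz, hw] at this; exact this.symm)
  have hd2 : Disjoint (U z ∪ U w) (U (w * z)) := Finset.disjoint_left.2 fun x a b => by
    have hx := hord _ x b
    rw [hzw] at hx
    rcases Finset.mem_union.1 a with a | a <;> have := (hord _ x a).symm.trans hx
    · rw [hz] at this; nlinarith [hd.two_le, hp.two_le]
    · rw [hw] at this; nlinarith [hd.two_le, hp.two_le]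
  have hsub : U z ∪ U w ∪ U (w * z) ⊆ Finset.univ.filter fun x => Sing q x := fun x hx => by
    refine Finset.mem_filter.2 ⟨Finset.mem_univ _, ?_⟩
    rcases Finset.mem_union.1 hx with hx | hx
    · rcases Finset.mem_union.1 hx with hx | hx <;> rw [Sing, hord _ x hx] <;> assumption
    · rw [Sing, hord _ x hx]; exact hzws
  have h6 := Finset.card_le_card hsub
  rw [Finset.card_union_of_disjoint hd2, Finset.card_union_of_disjoint hd1,
    show (Finset.univ.filter fun x => Sing q x).card = Nat.card {x : G // Sing q x} by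
      rw [Nat.card_eq_fintype_card, Fintype.card_subtype]] at h6
  have e2 : (Nat.card {x : G // Sing q x} : ℤ) + 1 = (q : ℤ) ^ 2 := by exact_mod_cast R.cardQ
  have h7 : ((U z).card : ℤ) + (U w).card + (U (w * z)).card ≤ Nat.card {x : G // Sing q x} := by exact_mod_cast h6
  rw [hUcard z hzs, hUcard w hws, hUcard _ hzws] at h7
  have e3 := sq_q R
  have hkr : (0 : ℤ) < kk K * r := by
    have := kk_pos R.data
    have := r_ne R
    positivity
  linarith

/-- No `q`-singular element is inverted by an involution when `δ = -1`. -/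
theorem no_invert (hδ : δ = -1) {z u : G} (hz : Sing q z) (hu : orderOf u = 2) : u * z * u⁻¹ ≠ z⁻¹ := by
  intro e
  have hu' := inv_of_order_two hu
  have h2 : u * z * (u * z) = 1 := by
    rw [show u * z * (u * z) = u * z * u⁻¹ * (u * u) * z by group, e, sq_of_order_two hu]; group
  have hne : u * z ≠ 1 := fun e' => by
    have h3 : z = u := by rw [← hu']; exact eq_inv_of_mul_eq_one_right e'
    subst h3
    obtain ⟨c1, -, -⟩ := cop R
    apply hz
    rw [hu]
    exact c1.coprime_dvd_left (dvd_mul_of_dvd_left (by norm_num) _)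
  have hpos : 0 < npairs t z := Nat.card_pos_iff.2 ⟨⟨⟨(u, u * z), R.data.conj t u R.data.ht hu,
    R.data.conj t _ R.data.ht (order_two_of_mul_self h2 hne), by
      show u * (u * z) = z
      rw [← mul_assoc, sq_of_order_two hu, one_mul]⟩⟩, inferInstance⟩
  have h4 := R.pairsQ z hz
  rw [hδ] at h4
  omega

end Cfsg.Lib.BSW
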