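import Cfsg.Agent.RankOne.ZassenhausPSL
import Cfsg.Agent.Chars.Burnside

/-!
# Recognition of `PSL₂(q)` from the conclusion of the theorem of Brauer, Suzuki and Wall
-/

set_option autoImplicit false
set_option linter.unusedSectionVars false
set_option linter.style.haveILetI false

open MulAction Subgroup
open scoped Pointwise

namespace Cfsg.Lib.BSW

open Cfsg.Lib.OddChar.Zassenhaus

universe u

variable {G : Type u} [Group G] [Finite G]

theorem exists_psl_of_self_centralizing [IsSimpleGroup G] (hna : ¬ IsMulCommutative G) (Q : Subgroup G) {d : ℕ}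
    (hq : 2 * d + 1 = Nat.card Q)
    (hG : 2 * Nat.card G = Nat.card ↥Q * (Nat.card ↥Q + 1) * (Nat.card ↥Q - 1))
    (hQ : ∀ x ∈ Q, x ≠ 1 → centralizer ({x} : Set G) = Q)
    (hN : Nat.card (normalizer (Q : Set G) : Subgroup G) = Nat.card Q * d) :
    ∃ (F : Type) (_ : Field F) (_ : Fintype F), Odd (Fintype.card F) ∧
      Nonempty (G ≃* Matrix.ProjectiveSpecialLinearGroup (Fin 2) F) := by
  classical
  set q := Nat.card Q with hqdef
  set N : Subgroup G := normalizer (Q : Set G) with hNdef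
  have hQN : Q ≤ N := le_normalizer
  have hd0 : 1 ≤ d := by
    rcases Nat.eq_zero_or_pos d with rfl | h
    · have := Nat.card_pos (α := N)
      omega
    · exact h
  have hq1 : q - 1 = 2 * d := by omega
  have hcG : Nat.card G = q * (q + 1) * d := by
    rw [hq1] at hG
    have : 2 * Nat.card G = 2 * (q * (q + 1) * d) := by rw [hG]; ring
    omega
  have hd2 : 2 ≤ d := by
    by_contra h
    have hd1 : d = 1 := by omega
    have hq3 : q = 3 := by omega
    have hsol : Group.IsSolvable G := Cfsg.Lib.Chars.burnside_isSolvable 2 3 Nat.prime_two Nat.prime_three G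
      ⟨2, 1, by rw [hcG, hd1, hq3]; norm_num⟩
    exact hna ⟨⟨fun x y => IsSimpleGroup.comm_iff_isSolvable.2 hsol x y⟩⟩
  haveI := Fintype.ofFinite (G ⧸ N)
  have hΩ : Fintype.card (G ⧸ N) = q + 1 := by
    have h1 := N.card_mul_index
    rw [hN, hcG, Subgroup.index, Nat.card_eq_fintype_card] at h1
    refine Nat.eq_of_mul_eq_mul_left (show 0 < q * d from Nat.mul_pos (by omega) (by omega)) ?_
    rw [h1]; ring
  set a : G ⧸ N := ((1 : G) : G ⧸ N) with ha
  have hstab : stabilizer G a = N := by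
    ext g
    rw [mem_stabilizer_iff, ha, MulAction.Quotient.smul_mk, smul_eq_mul, mul_one, QuotientGroup.eq]
    rw [mul_one, N.inv_mem_iff]
  have hcop : q.Coprime d := by
    rw [← hq]
    exact (Nat.coprime_mul_right_add_left 1 d 2).2 (Nat.coprime_one_left _)
  -- `Q` is semiregular away from `a`
  have hfix : ∀ u ∈ Q, u ≠ 1 → ∀ c : G ⧸ N, u • c = c → c = a := by
    intro u hu hu1 c hc
    obtain ⟨g, rfl⟩ := QuotientGroup.mk_surjective c
    rw [MulAction.Quotient.smul_mk, smul_eq_mul, QuotientGroup.eq, mul_inv_rev] at hc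
    set w := g⁻¹ * u * g with hw
    have hwN : w ∈ N := by
      have : g⁻¹ * u⁻¹ * g ∈ N := hc
      have e : w = (g⁻¹ * u⁻¹ * g)⁻¹ := by rw [hw]; group
      rw [e]; exact N.inv_mem this
    have hwq : orderOf w ∣ q := by
      rw [hw, show g⁻¹ * u * g = MulAut.conj g⁻¹ u by simp, MulEquiv.orderOf_eq]
      exact orderOf_dvd_natCard _ hu
    have hwQ : w ∈ Q := by
      haveI : (Q.subgroupOf N).Normal := normal_in_normalizer
      have hidx : (Q.subgroupOf N).index = d := by
        have h1 := (Q.subgroupOf N).card_mul_index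
        rw [Nat.card_congr (subgroupOfEquivOfLe hQN).toEquiv, hN] at h1
        exact Nat.eq_of_mul_eq_mul_left (by omega) h1
      set W : ↥N ⧸ Q.subgroupOf N := (((⟨w, hwN⟩ : N)) : ↥N ⧸ Q.subgroupOf N) with hW
      have h1 : orderOf W ∣ q :=
        (orderOf_map_dvd (QuotientGroup.mk' (Q.subgroupOf N)) (⟨w, hwN⟩ : N)).trans
          (by rw [orderOf_mk]; exact hwq)
      have h2 : orderOf W ∣ d := hidx ▸ orderOf_dvd_natCard W
      have h3 := orderOf_eq_one_iff.1 (Nat.eq_one_of_dvd_coprimes hcop h1 h2)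
      exact mem_subgroupOf.1 ((QuotientGroup.eq_one_iff (⟨w, hwN⟩ : N)).1 h3)
    have hw1 : w ≠ 1 := fun e => hu1 (by
      calc u = g * w * g⁻¹ := by rw [hw]; group
        _ = 1 := by rw [e]; group)
    have hgN : g ∈ N := by
      have hmap : Q.map (MulAut.conj g⁻¹).toMonoidHom = Q := by
        ext x
        rw [mem_map_equiv, MulAut.conj_symm_apply, inv_inv]
        conv_rhs => rw [← hQ w hwQ hw1]
        conv_lhs => rw [← hQ u hu hu1]
        rw [mem_centralizer_singleton_iff, mem_centralizer_singleton_iff, hw]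
        constructor
        · intro h
          calc x * (g⁻¹ * u * g) = g⁻¹ * (g * x * g⁻¹ * u) * g := by group
            _ = g⁻¹ * (u * (g * x * g⁻¹)) * g := by rw [h]
            _ = g⁻¹ * u * g * x := by group
        · intro h
          calc g * x * g⁻¹ * u = g * (x * (g⁻¹ * u * g)) * g⁻¹ := by group
            _ = g * (g⁻¹ * u * g * x) * g⁻¹ := by rw [h]
            _ = u * (g * x * g⁻¹) := by group
      refine mem_normalizer_iff.2 fun x => ?_
      show x ∈ Q ↔ g * x * g⁻¹ ∈ Q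
      conv_lhs => rw [← hmap, mem_map_equiv, MulAut.conj_symm_apply, inv_inv]
    rw [ha, QuotientGroup.eq, mul_one]
    exact N.inv_mem hgN
  have hQa : Q ≤ stabilizer G a := hstab.symm ▸ hQN
  have hQreg : ∀ c e : G ⧸ N, c ≠ a → e ≠ a → ∃ u ∈ Q, u • c = e := fun c e hc he =>
    exists_kernel_map hQa (by rw [hΩ]) hfix hc he
  have h2t : IsMultiplyPretransitive G (G ⧸ N) 2 := by
    rw [is_two_pretransitive_iff]
    intro c₁ d₁ c₂ d₂ hcd₁ hcd₂
    obtain ⟨g₁, hg₁⟩ := MulAction.exists_smul_eq G c₁ a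
    obtain ⟨g₂, hg₂⟩ := MulAction.exists_smul_eq G c₂ a
    have hd₁ : g₁ • d₁ ≠ a := fun e => hcd₁ (smul_left_cancel g₁ (hg₁.trans e.symm))
    have hd₂ : g₂ • d₂ ≠ a := fun e => hcd₂ (smul_left_cancel g₂ (hg₂.trans e.symm))
    obtain ⟨u, hu, hue⟩ := hQreg _ _ hd₁ hd₂
    refine ⟨g₂⁻¹ * u * g₁, ?_, ?_⟩
    · rw [mul_smul, mul_smul, hg₁, show u • a = a from hQa hu, inv_smul_eq_iff, hg₂]
    · rw [mul_smul, mul_smul, hue, inv_smul_smul]
  obtain ⟨b, hb⟩ : ∃ b : G ⧸ N, b ≠ a := Fintype.exists_ne_of_one_lt_card (by omega) a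
  have hcs : Nat.card (stab₂ G a b) = d := by
    haveI : IsMultiplyPretransitive G (G ⧸ N) 2 := h2t
    have hsub : stab₂ G a b = stabilizer G a ⊓ stabilizer G b := rfl
    set K := stab₂ G a b with hK
    let f : Q × K → stabilizer G a := fun p => ⟨(p.1 : G) * p.2, mul_mem (hQa p.1.2) p.2.2.1⟩
    have hinj : Function.Injective f := by
      rintro ⟨⟨u, hu⟩, ⟨k, hk⟩⟩ ⟨⟨u', hu'⟩, ⟨k', hk'⟩⟩ h
      have h' : u * k = u' * k' := congrArg Subtype.val h
      have e1 : u'⁻¹ * u = k' * k⁻¹ := by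
        calc u'⁻¹ * u = u'⁻¹ * (u * k) * k⁻¹ := by group
          _ = k' * k⁻¹ := by rw [h']; group
      have hmem : u'⁻¹ * u ∈ K := e1 ▸ mul_mem hk' (inv_mem hk)
      have : u'⁻¹ * u = 1 := by
        by_contra hne
        exact hb (hfix _ (mul_mem (inv_mem hu') hu) hne b hmem.2)
      have eu : u = u' := (inv_mul_eq_one.1 this).symm
      subst eu
      exact Prod.ext rfl (Subtype.ext (mul_left_cancel h'))
    have hsurj : Function.Surjective f := by
      rintro ⟨g, hg⟩
      have hgb : g • b ≠ a := fun e => hb (smul_left_cancel g (e.trans (show g • a = a from hg).symm))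
      obtain ⟨u, hu, hue⟩ := hQreg b (g • b) hb hgb
      refine ⟨(⟨u, hu⟩, ⟨u⁻¹ * g, Subgroup.mul_mem _ (Subgroup.inv_mem _ (hQa hu)) hg, ?_⟩), Subtype.ext (mul_inv_cancel_left u g)⟩
      show (u⁻¹ * g) • b = b
      rw [mul_smul, ← hue, inv_smul_smul]
    have hc := Nat.card_eq_of_bijective f ⟨hinj, hsurj⟩
    rw [Nat.card_prod, hstab, hN] at hc
    exact Nat.eq_of_mul_eq_mul_left (by omega) hc
  have hfaith : FaithfulSMul G (G ⧸ N) := by
    let φ : G →* Equiv.Perm (G ⧸ N) := MulAction.toPermHom G (G ⧸ N)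
    have hk : φ.ker = ⊥ := (φ.normal_ker.eq_bot_or_eq_top).resolve_right fun e => by
      obtain ⟨g, hg⟩ := MulAction.exists_smul_eq G a b
      have hg' : g ∈ φ.ker := e.symm ▸ mem_top g
      exact hb (hg.symm.trans (Equiv.congr_fun (MonoidHom.mem_ker.1 hg') a))
    refine ⟨fun {g g'} h => ?_⟩
    exact (MonoidHom.ker_eq_bot_iff φ).1 hk (Equiv.ext h)
  have hthree : ∀ g : G, ∀ c e f : G ⧸ N, c ≠ e → e ≠ f → c ≠ f → g • c = c → g • e = e → g • f = f → g = 1 := by
    intro g c e f hce hef hcf hgc hge hgf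
    obtain ⟨k, hk⟩ := MulAction.exists_smul_eq G c a
    set g' := k * g * k⁻¹ with hg'
    have mv : ∀ x : G ⧸ N, g • x = x → g' • (k • x) = k • x := fun x hx => by
      rw [hg', mul_smul, mul_smul, inv_smul_smul, hx]
    have hga : g' • a = a := by have := mv c hgc; rwa [hk] at this
    have hea : k • e ≠ a := fun h => hce (smul_left_cancel k (hk.trans h.symm))
    have hfa : k • f ≠ a := fun h => hcf (smul_left_cancel k (hk.trans h.symm))
    obtain ⟨u, hu, hue⟩ := hQreg _ _ hea hfa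
    have hg'N : g' ∈ N := hstab ▸ hga
    have hu' : g'⁻¹ * u⁻¹ * g' * u ∈ Q := by
      refine mul_mem ?_ hu
      have := (mem_normalizer_iff.1 (N.inv_mem hg'N) u⁻¹).1 (Q.inv_mem hu)
      simpa using this
    have hfixe : (g'⁻¹ * u⁻¹ * g' * u) • (k • e) = k • e := by
      rw [mul_smul, mul_smul, mul_smul, hue, mv f hgf, ← hue, inv_smul_smul, inv_smul_eq_iff, mv e hge]
    have hcomm : g'⁻¹ * u⁻¹ * g' * u = 1 := by
      by_contra h
      exact hea (hfix _ hu' h _ hfixe)
    have hu1 : u ≠ 1 := fun h => hef (smul_left_cancel k (by rw [← hue, h, one_smul]))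
    have hg'Q : g' ∈ Q := by
      rw [← hQ u hu hu1, mem_centralizer_singleton_iff]
      calc g' * u = u * g' * (g'⁻¹ * u⁻¹ * g' * u) := by group
        _ = u * g' := by rw [hcomm, mul_one]
    have hg1 : g' = 1 := by
      by_contra h
      exact hea (hfix _ hg'Q h _ (mv e hge))
    calc g = k⁻¹ * g' * k := by rw [hg']; group
      _ = 1 := by rw [hg1]; group
  have hZ : Cfsg.IsZassenhausGroup G (G ⧸ N) := by
    refine ⟨hfaith, h2t, hthree, ?_, fun M hM hMt => ?_⟩
    · haveI : Nontrivial (stab₂ G a b) := Finite.one_lt_card_iff_nontrivial.1 (by omega)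
      obtain ⟨⟨g, hg⟩, hg1⟩ := exists_ne (1 : stab₂ G a b)
      exact ⟨g, fun e => hg1 (Subtype.ext e), a, b, hb.symm, hg.1, hg.2⟩
    · rcases hM.eq_bot_or_eq_top with e | e
      · exfalso
        subst e
        obtain ⟨⟨g, hg⟩, hgb⟩ := @MulAction.exists_smul_eq (⊥ : Subgroup G) (G ⧸ N) _ hMt a b
        rw [mem_bot] at hg
        exact hb (by rw [← hgb]; show (g : G) • a = a; rw [hg, one_smul])
      · subst e
        refine ⟨a, fun h => ?_⟩
        obtain ⟨u, hu, hu1⟩ : ∃ u ∈ Q, u ≠ 1 := by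
          haveI : Nontrivial Q := Finite.one_lt_card_iff_nontrivial.1 (by omega)
          obtain ⟨⟨u, hu⟩, hu1⟩ := exists_ne (1 : Q)
          exact ⟨u, hu, fun e => hu1 (Subtype.ext e)⟩
        have h1 : (⟨u, mem_top u⟩ : (⊤ : Subgroup G)) = 1 := by
          rw [← mem_bot]
          exact h ▸ (show u • a = a from hQa hu)
        exact hu1 (congrArg Subtype.val h1)
  have hab' : IsMulCommutative Q := ⟨⟨fun x y => Subtype.ext (by
    by_cases hx : (x : G) = 1
    · show (x : G) * y = y * x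
      simp [hx]
    · have : (y : G) ∈ centralizer ({(x : G)} : Set G) := (hQ x x.2 hx).symm ▸ y.2
      exact (mem_centralizer_singleton_iff.1 this).symm)⟩⟩
  obtain ⟨F, iF, iFF, hF, -, hiso⟩ := Cfsg.Lib.RankOne.zassenhaus_psl hZ hb.symm
    (by rw [hcs, hΩ]; omega) hQa (by rw [hΩ]) hfix hab'
  exact ⟨F, iF, iFF, ⟨d, by omega⟩, hiso⟩

end Cfsg.Lib.BSW
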