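import Cfsg.Agent.InvolCalc.Dihedral
import Mathlib.GroupTheory.Index
import Mathlib.GroupTheory.SpecificGroups.Cyclic

/-!
# The Brauer–Suzuki–Wall configuration: elementary facts

`t` is an involution, `K` an abelian subgroup of `C(t)` containing `t`, inverted by the involution
`s ∈ C(t)`, with `C(t) = K⟨s⟩`, `C_K(s) = ⟨t⟩`; `K` meets its conjugates outside `C(t)` trivially and all
involutions are conjugate.
-/

set_option autoImplicit false
set_option linter.style.haveILetI false
set_option linter.unusedSectionVars false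

namespace Cfsg.Lib.BSW

open Subgroup Cfsg.Lib.InvolCalc

universe u

variable {G : Type u} [Group G]

/-- The configuration. -/
structure Data (t s : G) (K : Subgroup G) : Prop where
  ht : orderOf t = 2
  hs : orderOf s = 2
  ab : ∀ a ∈ K, ∀ b ∈ K, a * b = b * a
  htK : t ∈ K
  hsK : s ∉ K
  hsH : s ∈ centralizer ({t} : Set G)
  hH : K ⊔ zpowers s = centralizer ({t} : Set G)
  hCK : K ⊓ centralizer ({s} : Set G) = zpowers t
  inv : ∀ x ∈ K, s * x * s⁻¹ = x⁻¹
  TI : ∀ g : G, g ∉ centralizer ({t} : Set G) → K ⊓ K.map (MulAut.conj g).toMonoidHom = ⊥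
  conj : ∀ x y : G, orderOf x = 2 → orderOf y = 2 → IsConj x y

/-- Half of the order of `K`. -/
noncomputable def kk (K : Subgroup G) : ℕ := Nat.card K / 2

variable {t s : G} {K : Subgroup G} (h : Data t s K)
include h

theorem K_le : K ≤ centralizer ({t} : Set G) := h.hH ▸ le_sup_left

theorem t_ne : t ≠ 1 := ne_one_of_order_two h.ht

theorem tt : t * t = 1 := sq_of_order_two h.ht

theorem s_inv : s⁻¹ = s := inv_of_order_two h.hs

theorem ss : s * s = 1 := sq_of_order_two h.hs

theorem s_mul (x : G) (hx : x ∈ K) : s * x = x⁻¹ * s := by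
  calc s * x = s * x * s⁻¹ * s := by group
    _ = x⁻¹ * s := by rw [h.inv x hx]

theorem mem_H {x : G} (hx : x ∈ centralizer ({t} : Set G)) : x ∈ K ∨ ∃ a ∈ K, x = s * a := by
  rw [← h.hH, sup_eq_closure] at hx
  induction hx using closure_induction with
  | mem x hx =>
    rcases hx with hx | hx
    · exact .inl hx
    · obtain ⟨n, rfl⟩ := mem_zpowers_iff.1 hx
      rcases Int.even_or_odd n with ⟨m, rfl⟩ | ⟨m, rfl⟩
      · left
        rw [← two_mul, _root_.zpow_mul, zpow_two, ss h, one_zpow]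
        exact one_mem K
      · refine .inr ⟨1, one_mem K, ?_⟩
        rw [zpow_add, _root_.zpow_mul, zpow_two, ss h, one_zpow, one_mul, zpow_one, mul_one]
  | one => exact .inl (one_mem K)
  | mul x y _ _ hx hy =>
    rcases hx with hx | ⟨a, ha, rfl⟩ <;> rcases hy with hy | ⟨b, hb, rfl⟩
    · exact .inl (mul_mem hx hy)
    · refine .inr ⟨x⁻¹ * b, mul_mem (inv_mem hx) hb, ?_⟩
      rw [← mul_assoc s, s_mul h _ (inv_mem hx), inv_inv, mul_assoc]
    · exact .inr ⟨a * y, mul_mem ha hy, by group⟩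
    · refine .inl ?_
      rw [show s * a * (s * b) = s * (a * s) * b by group,
        show a * s = s * a⁻¹ by rw [s_mul h _ (inv_mem ha), inv_inv],
        ← mul_assoc s, ss h, one_mul]
      exact mul_mem (inv_mem ha) hb
  | inv x _ hx =>
    rcases hx with hx | ⟨a, ha, rfl⟩
    · exact .inl (inv_mem hx)
    · exact .inr ⟨a, ha, by rw [mul_inv_rev, s_inv h, s_mul h a ha]⟩

theorem smul_not_mem {a : G} (ha : a ∈ K) : s * a ∉ K := fun hm => h.hsK ((mul_mem_cancel_right ha).1 hm)

theorem smul_mem_H {a : G} (ha : a ∈ K) : s * a ∈ centralizer ({t} : Set G) := mul_mem h.hsH (K_le h ha)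

/-- The elements `s a` are involutions. -/
theorem smul_order {a : G} (ha : a ∈ K) : orderOf (s * a) = 2 := by
  refine order_two_of_mul_self ?_ fun e => smul_not_mem h ha (e ▸ one_mem K)
  rw [show s * a * (s * a) = s * a * s⁻¹ * (s * s) * a by group, ss h, mul_one, h.inv a ha, inv_mul_cancel]

theorem inv_of_smul {a x : G} (ha : a ∈ K) (hx : x ∈ K) : s * a * x * (s * a)⁻¹ = x⁻¹ := by
  rw [show s * a * x * (s * a)⁻¹ = s * (a * x * a⁻¹) * s⁻¹ by group, h.ab a ha x hx, mul_inv_cancel_right,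
    h.inv x hx]

/-- `t` is the only involution of `K`. -/
theorem eq_t {x : G} (hx : x ∈ K) (hxx : x * x = 1) : x = 1 ∨ x = t := by
  have h1 : x⁻¹ = x := inv_eq_of_mul_eq_one_left hxx
  have hmem : x ∈ zpowers t := h.hCK ▸ ⟨hx, mem_centralizer_singleton_iff.2 (by
    rw [s_mul h x hx, h1])⟩
  obtain ⟨n, rfl⟩ := mem_zpowers_iff.1 hmem
  rcases Int.even_or_odd n with ⟨m, rfl⟩ | ⟨m, rfl⟩
  · left; rw [← two_mul, _root_.zpow_mul, zpow_two, tt h, one_zpow]
  · right; rw [zpow_add, _root_.zpow_mul, zpow_two, tt h, one_zpow, one_mul, zpow_one]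

/-- The involutions of `C(t)`. -/
theorem invol_H {x : G} (hx : x ∈ centralizer ({t} : Set G)) (hxo : orderOf x = 2) :
    x = t ∨ ∃ a ∈ K, x = s * a := by
  rcases mem_H h hx with hx' | hx'
  · exact .inl ((eq_t h hx' (sq_of_order_two hxo)).resolve_left (ne_one_of_order_two hxo))
  · exact .inr hx'

theorem TI' {g x : G} (hx : x ∈ K) (hx1 : x ≠ 1) (hg : g * x * g⁻¹ ∈ K) : g ∈ centralizer ({t} : Set G) := by
  by_contra hn
  refine hx1 (conj_eq_one_iff.1 (?_ : g * x * g⁻¹ = 1))
  rw [← mem_bot (G := G), ← h.TI g hn]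
  exact ⟨hg, x, hx, rfl⟩

theorem conj_mem_of_H {g x : G} (hg : g ∈ centralizer ({t} : Set G)) (hx : x ∈ K) : g * x * g⁻¹ ∈ K := by
  rcases mem_H h hg with hg' | ⟨a, ha, rfl⟩
  · exact mul_mem (mul_mem hg' hx) (inv_mem hg')
  · rw [inv_of_smul h ha hx]; exact inv_mem hx

theorem normalizer_K : normalizer (K : Set G) = centralizer ({t} : Set G) := by
  refine le_antisymm (fun g hg => TI' h h.htK (t_ne h) ((mem_normalizer_iff.1 hg t).1 h.htK)) fun g hg => ?_
  refine mem_normalizer_iff.2 fun x => ⟨conj_mem_of_H h hg, fun hx => ?_⟩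
  have := conj_mem_of_H h (inv_mem hg) hx
  rwa [inv_inv, show g⁻¹ * (g * x * g⁻¹) * g = x by group] at this

/-- The centraliser of a non-involution of `K#`. -/
theorem cent_K {y : G} (hy : y ∈ K) (hy2 : y * y ≠ 1) : centralizer ({y} : Set G) = K := by
  refine le_antisymm (fun g hg => ?_) fun g hg => mem_centralizer_singleton_iff.2 (h.ab g hg y hy)
  have e := mem_centralizer_singleton_iff.1 hg
  have hgy : g * y * g⁻¹ = y := by rw [e, mul_inv_cancel_right]
  have hy1 : y ≠ 1 := fun e => hy2 (by rw [e, one_mul])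
  rcases mem_H h (TI' h hy hy1 (hgy.symm ▸ hy)) with hg' | ⟨a, ha, rfl⟩
  · exact hg'
  · rw [inv_of_smul h ha hy] at hgy
    exact absurd (by nth_rw 1 [← hgy]; rw [inv_mul_cancel]) hy2

variable [Finite G]

theorem card_K : Nat.card K = 2 * kk K := by
  have h2 : 2 ∣ Nat.card K := h.ht ▸ orderOf_dvd_natCard K h.htK
  rw [kk]; omega

theorem kk_pos : 0 < kk K := by
  have := card_K h
  have := Nat.card_pos (α := K)
  omega

theorem card_H : Nat.card (centralizer ({t} : Set G) : Subgroup G) = 4 * kk K := by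
  classical
  set H := centralizer ({t} : Set G)
  have hidx : (K.subgroupOf H).index = 2 := by
    refine index_eq_two_iff'.2 ⟨⟨s, h.hsH⟩, fun ⟨b, hb⟩ => ?_⟩
    rw [mem_subgroupOf, mem_subgroupOf, coe_mul]
    rcases mem_H h hb with hb' | ⟨a, ha, rfl⟩
    · exact .inr ⟨hb', smul_not_mem h hb'⟩
    · refine .inl ⟨?_, smul_not_mem h ha⟩
      rw [← mul_assoc, ss h, one_mul]
      exact ha
  rw [← (K.subgroupOf H).card_mul_index, hidx, Nat.card_congr (subgroupOfEquivOfLe (K_le h)).toEquiv,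
    card_K h]
  ring

theorem card_invol_mul : Nat.card {x : G // IsConj t x} * (4 * kk K) = Nat.card G := by
  rw [← card_H h]
  have e : Nat.card {x : G // IsConj t x} = (centralizer ({t} : Set G)).index := by
    rw [Subgroup.index]
    refine (Nat.card_congr ?_)
    refine ((Equiv.subtypeEquivRight (q := fun x => x ∈ MulAction.orbit (ConjAct G) t) fun x => ?_).trans
      (MulAction.orbitEquivQuotientStabilizer (ConjAct G) t)).trans (Quotient.congr ConjAct.ofConjAct.toEquiv ?_)
    · rw [MulAction.mem_orbit_iff, isConj_iff]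
      constructor
      · rintro ⟨c, hc⟩
        exact ⟨ConjAct.toConjAct c, by rw [ConjAct.toConjAct_smul, hc]⟩
      · rintro ⟨c, hc⟩
        exact ⟨ConjAct.ofConjAct c, by rw [← ConjAct.smul_def, hc]⟩
    · intro a b
      change QuotientGroup.leftRel _ a b ↔ QuotientGroup.leftRel _ (ConjAct.ofConjAct a) (ConjAct.ofConjAct b)
      rw [QuotientGroup.leftRel_apply, QuotientGroup.leftRel_apply, MulAction.mem_stabilizer_iff,
        mem_centralizer_singleton_iff, ConjAct.smul_def, mul_inv_eq_iff_eq_mul]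
      simp
  rw [e, mul_comm, card_mul_index]

/-- The number of ways of writing `y ∈ K#` as a product of two involutions. -/
theorem pairs_K {y : G} (hy : y ∈ K) (hy1 : y ≠ 1) :
    Nat.card {p : G × G // IsConj t p.1 ∧ IsConj t p.2 ∧ p.1 * p.2 = y} = 2 * kk K := by
  rw [← card_K h]
  have hord : ∀ u : G, IsConj t u → orderOf u = 2 := fun u hu => by
    obtain ⟨c, rfl⟩ := isConj_iff.1 hu
    rw [show c * t * c⁻¹ = MulAut.conj c t from rfl, MulEquiv.orderOf_eq, h.ht]
  refine (Nat.card_congr (Equiv.ofBijective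
    (fun a : K => (⟨(s * (a : G), s * ((a : G) * y)), h.conj _ _ h.ht (smul_order h a.2),
      h.conj _ _ h.ht (smul_order h (mul_mem a.2 hy)), ?_⟩ :
      {p : G × G // IsConj t p.1 ∧ IsConj t p.2 ∧ p.1 * p.2 = y})) ⟨fun a b e => ?_, fun p => ?_⟩)).symm
  · calc s * (a : G) * (s * ((a : G) * y)) = s * (a : G) * (s * (a : G)) * y := by group
      _ = y := by rw [sq_of_order_two (smul_order h a.2), one_mul]
  · exact Subtype.ext (mul_left_cancel (congrArg (fun p => p.1.1) e :))
  · obtain ⟨⟨u, v⟩, hu, hv, huv⟩ := p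
    simp only at hu hv huv
    have hu2 := hord u hu
    have hinv : u * y * u⁻¹ = y⁻¹ := huv ▸ flip_mul hu2 (hord v hv)
    have huH := TI' h hy hy1 (hinv ▸ inv_mem hy)
    have hv' : v = u * y := by rw [← huv]; exact snd_eq hu2
    rcases invol_H h huH hu2 with e0 | ⟨a, ha, rfl⟩
    · exfalso
      subst u
      rcases eq_t h hy (by
        have : y⁻¹ = y := by rw [← hinv, h.ab t h.htK y hy, mul_inv_cancel_right]
        nth_rw 1 [← this]; rw [inv_mul_cancel]) with e | e
      · exact hy1 e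
      · exact ne_one_of_order_two (hord v hv) (by rw [hv', e, tt h])
    · refine ⟨⟨a, ha⟩, Subtype.ext (Prod.ext rfl ?_)⟩
      show s * (a * y) = v
      rw [hv', mul_assoc]

end Cfsg.Lib.BSW
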