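import Mathlib.Tactic

/-!
# The arithmetic of the case `|K| = 2`
-/

set_option autoImplicit false

namespace Cfsg.Lib.BSW

/-- The signed degrees of the three constituents. -/
theorem three_degrees {G a b c : ℤ} (ha : a % 4 = 1) (hb : b % 4 = 1) (hc : c % 4 = 1)
    (hsum : a + b + c = -1) (hge : 1 + a ^ 2 + b ^ 2 + c ^ 2 ≤ G)
    (heq : G * (a * b * c + b * c + a * c + a * b) = 32 * (a * b * c)) :
    (b = c ∧ (a = -3 ∧ b = 1 ∨ a = 5 ∧ b = -3)) ∨ (a = c ∧ (b = -3 ∧ a = 1 ∨ b = 5 ∧ a = -3)) ∨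
      (a = b ∧ (c = -3 ∧ a = 1 ∨ c = 5 ∧ a = -3)) := by
  have hinv : ∀ x : ℤ, x % 4 = 1 → (-(1 : ℚ) / 3 ≤ 1 / (x : ℚ)) ∧ (0 < x → 0 < 1 / (x : ℚ)) := by
    intro x hx
    refine ⟨?_, fun h => one_div_pos.2 (by exact_mod_cast h)⟩
    rcases lt_trichotomy x 0 with h | h | h
    · have h3 : x ≤ -3 := by omega
      have hq : (x : ℚ) ≤ -3 := by exact_mod_cast h3
      rw [le_div_iff_of_neg (by linarith)]
      linarith
    · omega
    · have : (0 : ℚ) < 1 / (x : ℚ) := one_div_pos.2 (by exact_mod_cast h)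
      linarith
  obtain ⟨pa, qa⟩ := hinv a ha
  obtain ⟨pb, qb⟩ := hinv b hb
  obtain ⟨pc, qc⟩ := hinv c hc
  have hT : (1 : ℚ) / 3 < 1 + 1 / (a : ℚ) + 1 / (b : ℚ) + 1 / (c : ℚ) := by
    rcases (by omega : 0 < a ∨ 0 < b ∨ 0 < c) with h | h | h
    · linarith [qa h]
    · linarith [qb h]
    · linarith [qc h]
  have a0 : (a : ℚ) ≠ 0 := by exact_mod_cast (by omega : a ≠ 0)
  have b0 : (b : ℚ) ≠ 0 := by exact_mod_cast (by omega : b ≠ 0)
  have c0 : (c : ℚ) ≠ 0 := by exact_mod_cast (by omega : c ≠ 0)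
  have hGT : (G : ℚ) * (1 + 1 / (a : ℚ) + 1 / (b : ℚ) + 1 / (c : ℚ)) = 32 := by
    have hq : (G : ℚ) * (a * b * c + b * c + a * c + a * b) = 32 * (a * b * c) := by exact_mod_cast heq
    field_simp
    linear_combination hq
  have hG : (0 : ℚ) < G := by
    have : (0 : ℤ) < G := by nlinarith
    exact_mod_cast this
  have hG' : G < 96 := by
    have : (G : ℚ) < 96 := by nlinarith
    exact_mod_cast this
  have hbd : ∀ x : ℤ, x % 4 = 1 → x ^ 2 ≤ 94 → x = 1 ∨ x = 5 ∨ x = 9 ∨ x = -3 ∨ x = -7 := by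
    intro x hx h2
    have : x ≤ 9 := by nlinarith
    have : -9 ≤ x := by nlinarith
    omega
  have hc' : c = -1 - a - b := by omega
  rcases hbd a ha (by nlinarith) with rfl | rfl | rfl | rfl | rfl <;>
    rcases hbd b hb (by nlinarith) with rfl | rfl | rfl | rfl | rfl <;>
    (subst hc'; norm_num at heq hge hc ⊢ <;> omega)

/-- The multiplier is `1`. -/
theorem multiplier_one {G k δ d m : ℤ} (hk : 1 ≤ k) (hδ : δ * δ = 1) (hm : d = δ + 4 * k * m) (hd : 0 < d)
    (hx : 0 < d + δ) (key : G * (d - δ) ^ 2 = 32 * k ^ 3 * d * (d + δ))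
    (hge : 2 + 2 * d ^ 2 + 2 * (k - 1) * (d + δ) ^ 2 + (d + δ) ^ 2 ≤ 2 * G) :
    m = 1 ∧ G = 4 * k * (4 * k + δ) * (2 * k + δ) := by
  have hδ' := mul_self_eq_one_iff.1 hδ
  have hpos : 0 < 32 * k ^ 3 * d * (d + δ) := by positivity
  have ekm : 4 * k * m = 4 * (k * m) := by ring
  have hm0 : 1 ≤ m := by
    by_contra hc
    rcases (by omega : m = 0 ∨ m ≤ -1) with rfl | hc'
    · rw [hm] at key hpos
      simp only [mul_zero, add_zero, sub_self] at key hpos
      rw [zero_pow (by norm_num), mul_zero] at key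
      omega
    · have : k * m ≤ k * (-1) := mul_le_mul_of_nonneg_left hc' (by omega)
      omega
  have key2 : G * m ^ 2 = 2 * k * d * (d + δ) := by
    apply mul_left_cancel₀ (by positivity : (16 : ℤ) * k ^ 2 ≠ 0)
    rw [show d - δ = 4 * k * m by linarith] at key
    linear_combination key
  have hG : 0 < G := by nlinarith
  have hm1 : m = 1 := by
    by_contra hc
    have hm2 : 2 ≤ m := by omega
    have h4 : 4 * G ≤ 2 * k * d * (d + δ) := by
      rw [← key2, mul_comm 4 G]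
      have : (4 : ℤ) ≤ m ^ 2 := by nlinarith
      exact mul_le_mul_of_nonneg_left this hG.le
    have hd8 : 8 * k - 1 ≤ d := by
      have : k * 2 ≤ k * m := mul_le_mul_of_nonneg_left hm2 (by omega)
      omega
    rcases hδ' with rfl | rfl
    · have : 0 ≤ k * (d + 1) := by positivity
      nlinarith
    · rcases (by omega : k = 1 ∨ 2 ≤ k) with rfl | e2
      · nlinarith
      · have h5 : 2 * k - 1 ≤ (k - 1) * d := by
          have : 1 * d ≤ (k - 1) * d := mul_le_mul_of_nonneg_right (by omega) hd.le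
          omega
        have h6 : k * d ≤ (2 * k - 1) * (d - 1) := by linarith [h5]
        nlinarith [mul_le_mul_of_nonneg_right h6 (by omega : (0 : ℤ) ≤ d - 1)]
  subst hm1
  refine ⟨rfl, ?_⟩
  rw [one_pow, mul_one, hm] at key2
  rcases hδ' with rfl | rfl <;> linarith

end Cfsg.Lib.BSW
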