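import Cfsg.Agent.BSW.PreShape
import Cfsg.Agent.BSW.SmallK

/-!
# The shape of all the decompositions
-/

set_option autoImplicit false
set_option linter.style.haveILetI false
set_option linter.unusedSectionVars false

namespace Cfsg.Lib.BSW

open Subgroup Cfsg.Lib.InvolCalc Cfsg.Lib.Chars
open scoped ComplexConjugate

universe u

variable {G : Type u} [Group G] [Fintype G] {t s : G} {K : Subgroup G}

/-- The complete shape. -/
structure Full (t s : G) (K : Subgroup G) (l₀ : K →* ℂˣ) (θ A B : Cfsg.IrrCharacter G) (δ e f : ℤ)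
    (N : (K →* ℂˣ) → Cfsg.IrrCharacter G) : Prop extends Star t s K l₀ θ δ N where
  he : e * e = 1
  hf : f * f = 1
  A1 : A ≠ principal G
  B1 : B ≠ principal G
  Aθ : A ≠ θ
  Bθ : B ≠ θ
  AB : A ≠ B
  NA : ∀ l, l ≠ 1 → l ≠ l₀ → N l ≠ A ∧ N l ≠ B
  eq0 : ∀ g : G, tau l₀ g = 1 + (δ : ℂ) * (θ : G → ℂ) g + (e : ℂ) * (A : G → ℂ) g + (f : ℂ) * (B : G → ℂ) g
  kone : kk K = 1 → 2 * (e * deg (A : G → ℂ)) = -δ * ((deg (θ : G → ℂ) : ℤ) + δ)

variable (h : Data t s K) {l₀ : K →* ℂˣ}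
include h

theorem eval_sum {l : K →* ℂˣ} {a : Cfsg.IrrCharacter G → ℤ} (ha : tau l = ∑ χ, (a χ : ℂ) • (χ : G → ℂ))
    (S : Finset (Cfsg.IrrCharacter G)) (hS : ∀ χ, χ ∉ S → a χ = 0) (g : G) :
    tau l g = ∑ χ ∈ S, (a χ : ℂ) * (χ : G → ℂ) g := by
  rw [congrFun ha g]
  simp only [Finset.sum_apply, Pi.smul_apply, smul_eq_mul]
  exact (Finset.sum_subset (Finset.subset_univ _) fun χ _ hχ => by rw [hS χ hχ]; simp).symm

theorem tau_t (l : K →* ℂˣ) : tau l t = 2 - cc l ⟨t, h.htK⟩ := by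
  rw [tau_apply h l h.htK (t_ne h), cc]; ring

theorem cc_t (l : K →* ℂˣ) : cc l ⟨t, h.htK⟩ = 2 ∨ cc l ⟨t, h.htK⟩ = -2 := by
  have h1 : l ⟨t, h.htK⟩ * l ⟨t, h.htK⟩ = 1 := by
    rw [← map_mul, show (⟨t, h.htK⟩ : K) * ⟨t, h.htK⟩ = 1 from Subtype.ext (tt h), map_one]
  have h2 : (l ⟨t, h.htK⟩)⁻¹ = l ⟨t, h.htK⟩ := inv_eq_of_mul_eq_one_left h1
  have h3 : (l ⟨t, h.htK⟩ : ℂ) * (l ⟨t, h.htK⟩ : ℂ) = 1 := by rw [← Units.val_mul, h1, Units.val_one]
  rw [cc, h2]
  rcases mul_self_eq_one_iff.1 h3 with e | e <;> rw [e] <;> norm_num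

section star

variable {θ : Cfsg.IrrCharacter G} {δ : ℤ} {N : (K →* ℂˣ) → Cfsg.IrrCharacter G}
  (S : Star t s K l₀ θ δ N)
include S

theorem star_deg {l : K →* ℂˣ} (hl : l ≠ 1) (hl' : l ≠ l₀) :
    (deg (N l : G → ℂ) : ℤ) = deg (θ : G → ℂ) + δ := by
  have h1 := S.eq l hl hl' 1
  rw [tau_one, irr_apply_one_eq_deg, irr_apply_one_eq_deg] at h1
  have h2 : (0 : ℤ) = 1 + δ * deg (θ : G → ℂ) - δ * deg (N l : G → ℂ) := by exact_mod_cast h1
  have := S.hδ
  linear_combination δ * h2 - (↑(deg (N l : G → ℂ)) - ↑(deg (θ : G → ℂ)) : ℤ) * this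

open scoped Classical in
theorem star_coeff {l : K →* ℂˣ} (hl : l ≠ 1) (hl' : l ≠ l₀) :
    tau l = ∑ χ, (((if χ = principal G then 1 else 0) + (if χ = θ then δ else 0) -
      (if χ = N l then δ else 0) : ℤ) : ℂ) • (χ : G → ℂ) := by
  funext g
  rw [S.eq l hl hl' g]
  simp only [Finset.sum_apply, Pi.smul_apply, smul_eq_mul, Int.cast_sub, Int.cast_add, Int.cast_ite,
    Int.cast_one, Int.cast_zero, add_mul, sub_mul, ite_mul, one_mul, zero_mul, Finset.sum_add_distrib,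
    Finset.sum_sub_distrib, Finset.sum_ite_eq', Finset.mem_univ, if_true]
  rfl

theorem star_count {l : K →* ℂˣ} (hl : l ≠ 1) (hl' : l ≠ l₀) :
    (Nat.card G : ℂ) * (1 + (δ : ℂ) * ((θ : G → ℂ) t * (θ : G → ℂ) t / (θ : G → ℂ) 1) -
      (δ : ℂ) * ((N l : G → ℂ) t * (N l : G → ℂ) t / (N l : G → ℂ) 1)) = 32 * (kk K : ℂ) ^ 3 := by
  classical
  rw [← tau_count h l hl _ (star_coeff h S hl hl')]
  congr 1
  simp only [Int.cast_sub, Int.cast_add, Int.cast_ite, Int.cast_one, Int.cast_zero, add_mul, sub_mul,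
    ite_mul, one_mul, zero_mul, Finset.sum_add_distrib, Finset.sum_sub_distrib, Finset.sum_ite_eq',
    Finset.mem_univ, if_true, apply_principal h, div_one]

open scoped Classical in
/-- Each `N l` comes from exactly two characters. -/
theorem sum_fibres (hr : l₀⁻¹ = l₀) (huniq : ∀ l : K →* ℂˣ, l⁻¹ = l → l = 1 ∨ l = l₀)
    [Fintype (K →* ℂˣ)] {R : Type*} [CommRing R] (F : Cfsg.IrrCharacter G → R) :
    ∑ l ∈ (Finset.univ : Finset (K →* ℂˣ)) \ {1, l₀}, F (N l) =
      2 * ∑ χ ∈ ((Finset.univ : Finset (K →* ℂˣ)) \ {1, l₀}).image N, F χ := by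
  rw [Finset.sum_comp, Finset.mul_sum]
  refine Finset.sum_congr rfl fun χ hχ => ?_
  obtain ⟨l, hl, rfl⟩ := Finset.mem_image.1 hχ
  simp only [Finset.mem_sdiff, Finset.mem_univ, true_and, Finset.mem_insert, Finset.mem_singleton,
    not_or] at hl
  have he : (((Finset.univ : Finset (K →* ℂˣ)) \ {1, l₀}).filter fun m => N m = N l) = {l, l⁻¹} := by
    ext m
    simp only [Finset.mem_filter, Finset.mem_sdiff, Finset.mem_univ, true_and, Finset.mem_insert,
      Finset.mem_singleton, not_or]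
    constructor
    · rintro ⟨⟨m1, m2⟩, e⟩
      exact (S.fib l m hl.1 hl.2 m1 m2).1 e.symm
    · intro e
      have hm : m ≠ 1 ∧ m ≠ l₀ := by
        rcases e with rfl | rfl
        · exact hl
        · refine ⟨fun e => hl.1 ((inv_eq_one (a := l)).1 e), fun e => hl.2 ?_⟩
          rw [← hr, ← e]
          exact DFunLike.ext _ _ fun y => (inv_inv (l y)).symm
      exact ⟨hm, ((S.fib l m hl.1 hl.2 hm.1 hm.2).2 e).symm⟩
  rw [he, Finset.card_pair (fun e => (huniq l e.symm).elim hl.1 hl.2), nsmul_eq_mul, Nat.cast_ofNat]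

open scoped Classical in
theorem full_of_good (a : Cfsg.IrrCharacter G → ℤ) (ha : tau l₀ = ∑ χ, (a χ : ℂ) • (χ : G → ℂ))
    (hone : a (principal G) = 1) (hthree : ∑ χ ∈ Finset.univ.erase (principal G), a χ * a χ = 3)
    (hθ : a θ = δ) (hN : ∀ l, l ≠ 1 → l ≠ l₀ → a (N l) = 0) (hk : kk K ≠ 1) :
    ∃ θ A B δ e f N, Full t s K l₀ θ A B δ e f N := by
  obtain ⟨hb, hcard⟩ := small_squares (n := 3) le_rfl (by exact_mod_cast hthree)
  set T := (Finset.univ.erase (principal G)).filter fun χ => a χ ≠ 0 with hT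
  have hδ0 : δ ≠ 0 := fun e => by have := S.hδ; rw [e] at this; norm_num at this
  have hmem : θ ∈ T := Finset.mem_filter.2 ⟨Finset.mem_erase.2 ⟨S.θ1, Finset.mem_univ _⟩, hθ.symm ▸ hδ0⟩
  have hc2 : (T.erase θ).card = 2 := by rw [Finset.card_erase_of_mem hmem, hcard]
  obtain ⟨A, B, hAB, hpair⟩ := Finset.card_eq_two.1 hc2
  have hA : A ∈ T.erase θ := hpair ▸ Finset.mem_insert_self _ _
  have hB : B ∈ T.erase θ := hpair ▸ Finset.mem_insert_of_mem (Finset.mem_singleton_self _)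
  obtain ⟨hAθ, hA'⟩ := Finset.mem_erase.1 hA
  obtain ⟨hBθ, hB'⟩ := Finset.mem_erase.1 hB
  obtain ⟨hA1, hA0⟩ := Finset.mem_filter.1 hA'
  obtain ⟨hB1, hB0⟩ := Finset.mem_filter.1 hB'
  refine ⟨θ, A, B, δ, a A, a B, N, S, hb A hA1 hA0, hb B hB1 hB0, (Finset.mem_erase.1 hA1).1,
    (Finset.mem_erase.1 hB1).1, hAθ, hBθ, hAB, fun l hl hl' =>
      ⟨fun e => hA0 (e ▸ hN l hl hl'), fun e => hB0 (e ▸ hN l hl hl')⟩, fun g => ?_, fun e => absurd e hk⟩
  rw [eval_sum h ha {principal G, θ, A, B} (fun χ hχ => ?_) g, Finset.sum_insert, Finset.sum_insert,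
    Finset.sum_pair hAB, hone, hθ, apply_principal h, Int.cast_one]
  · ring
  · simp [Ne.symm hAθ, Ne.symm hBθ]
  · simp [Ne.symm S.θ1, Ne.symm (Finset.mem_erase.1 hA1).1, Ne.symm (Finset.mem_erase.1 hB1).1]
  · simp only [Finset.mem_insert, Finset.mem_singleton, not_or] at hχ
    by_contra hne
    have : χ ∈ ({A, B} : Finset _) := hpair ▸ Finset.mem_erase.2 ⟨hχ.2.1,
      Finset.mem_filter.2 ⟨Finset.mem_erase.2 ⟨hχ.1, Finset.mem_univ _⟩, hne⟩⟩
    simp [hχ.2.2.1, hχ.2.2.2] at this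

end star

open scoped Classical in
/-- The case `|K| = 2`. -/
theorem full_of_one (h0 : l₀ ≠ 1) (hr : l₀⁻¹ = l₀) (hk : kk K = 1) :
    ∃ θ A B δ e f N, Full t s K l₀ θ A B δ e f N := by
  haveI : Finite (K →* ℂˣ) := lam_finite
  letI : Fintype (K →* ℂˣ) := Fintype.ofFinite _
  haveI : Fintype (centralizer ({t} : Set G) : Subgroup G) := Fintype.ofFinite _
  have hL : ∀ l : K →* ℂˣ, l ≠ 1 → l ≠ l₀ → False := fun l hl hl' => by
    have := card_pairs h h0 hr
    have hpos : 0 < ((Finset.univ : Finset (K →* ℂˣ)) \ {1, l₀}).card :=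
      Finset.card_pos.2 ⟨l, by simp [hl, hl']⟩
    rw [hk] at this
    omega
  obtain ⟨a, ha, hone, hdeg, hgram, -⟩ := exists_coef h
  have h3 : ∑ χ ∈ Finset.univ.erase (principal G), a l₀ χ * a l₀ χ = 3 := by
    have hg := hgram l₀ l₀ h0 h0
    rw [tau_gram h l₀ l₀ h0 h0, if_pos rfl, if_pos hr.symm] at hg
    have h4 : ∑ χ, a l₀ χ * a l₀ χ = 4 := by
      apply Int.cast_injective (α := ℂ)
      rw [hg]; norm_num
    rw [← Finset.add_sum_erase _ _ (Finset.mem_univ (principal G)), hone l₀ h0] at h4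
    linarith
  obtain ⟨hb, hcard⟩ := small_squares (n := 3) le_rfl (by exact_mod_cast h3)
  set T := (Finset.univ.erase (principal G)).filter fun χ => a l₀ χ ≠ 0 with hT
  have hpr : principal G ∉ T := by simp [hT]
  have hoff : ∀ χ, χ ∉ insert (principal G) T → a l₀ χ = 0 := fun χ hχ => by
    by_contra hne
    refine hχ (Finset.mem_insert_of_mem (Finset.mem_filter.2 ⟨Finset.mem_erase.2 ⟨?_, Finset.mem_univ _⟩, hne⟩))
    rintro rfl
    exact hχ (Finset.mem_insert_self _ _)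
  choose z hz using t_value h
  have hev : ∀ g, tau l₀ g = 1 + ∑ χ ∈ T, (a l₀ χ : ℂ) * (χ : G → ℂ) g := fun g => by
    rw [eval_sum h (ha l₀) _ hoff g, Finset.sum_insert hpr, hone l₀ h0, apply_principal h,
      Int.cast_one, one_mul]
  -- the values at `t`
  have ht4 : tau l₀ t = 4 := by
    have h1 := sum_cc h h0 hr (y := ⟨t, h.htK⟩) (fun e => t_ne h (congrArg Subtype.val e))
    rw [Finset.sum_eq_zero (fun l hl => by
      simp only [Finset.mem_sdiff, Finset.mem_univ, true_and, Finset.mem_insert, Finset.mem_singleton,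
        not_or] at hl
      exact (hL l hl.1 hl.2).elim)] at h1
    rw [tau_t h, cc_l0 h h0 hr]
    linear_combination (-1 : ℂ) * h1
  have hsum : ∑ χ ∈ T, a l₀ χ * z χ = 3 := by
    have h1 := hev t
    rw [ht4] at h1
    simp only [hz] at h1
    have h2 : (4 : ℤ) = 1 + ∑ χ ∈ T, a l₀ χ * z χ := by exact_mod_cast h1
    omega
  have hsq : ∑ χ ∈ T, z χ * z χ ≤ 3 := by
    have h1 := column_le t (insert (principal G) T)
    rw [Finset.sum_insert hpr, apply_principal h, norm_one, card_H h, hk] at h1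
    have h2 : ∑ χ ∈ T, ‖(χ : G → ℂ) t‖ ^ 2 = ((∑ χ ∈ T, z χ * z χ : ℤ) : ℝ) := by
      push_cast
      refine Finset.sum_congr rfl fun χ _ => ?_
      rw [hz, Complex.norm_intCast, sq_abs, sq]
    rw [h2] at h1
    norm_num at h1
    have h3 : ((∑ χ ∈ T, z χ * z χ : ℤ) : ℝ) ≤ ((3 : ℤ) : ℝ) := by push_cast; linarith
    exact_mod_cast h3
  have hzv : ∀ χ ∈ T, z χ = a l₀ χ := by
    have h1 : ∑ χ ∈ T, (z χ - a l₀ χ) ^ 2 ≤ 0 := by
      have : ∀ χ ∈ T, (z χ - a l₀ χ) ^ 2 = z χ * z χ - 2 * (a l₀ χ * z χ) + 1 := fun χ hχ => by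
        have := hb χ (Finset.mem_filter.1 hχ).1 (Finset.mem_filter.1 hχ).2
        linear_combination this
      rw [Finset.sum_congr rfl this, Finset.sum_add_distrib, Finset.sum_sub_distrib, ← Finset.mul_sum,
        Finset.sum_const, hcard, hsum, nsmul_eq_mul]
      push_cast
      linarith
    intro χ hχ
    have h2 := (Finset.sum_eq_zero_iff_of_nonneg (fun x _ => sq_nonneg (z x - a l₀ x))).1
      (le_antisymm h1 (Finset.sum_nonneg fun x _ => sq_nonneg _)) χ hχ
    exact sub_eq_zero.1 (by simpa using h2)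
  -- signed degrees
  set n : Cfsg.IrrCharacter G → ℤ := fun χ => a l₀ χ * deg (χ : G → ℂ) with hn
  have hmod : ∀ χ ∈ T, n χ % 4 = 1 := by
    intro χ hχ
    obtain ⟨m, hm⟩ := restrict_dvd h χ
    have hval : ∀ g : (centralizer ({t} : Set G) : Subgroup G), g ≠ 1 → (χ : G → ℂ) g = (a l₀ χ : ℂ) := by
      intro g hg
      have hgo : orderOf (g : G) = 2 := by
        rcases mem_H h g.2 with hK | ⟨b, hb, e⟩
        · have hcard : Nat.card K = 2 := by rw [card_K h, hk]
          have hpow := pow_card_eq_one' (x := (⟨(g : G), hK⟩ : K))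
          rw [hcard, sq] at hpow
          rcases eq_t h hK (congrArg Subtype.val hpow) with e | e
          · exact absurd (Subtype.ext e) hg
          · rw [e, h.ht]
        · rw [e]; exact smul_order h hb
      obtain ⟨c, hc⟩ := isConj_iff.1 (h.conj t g h.ht hgo)
      rw [← hc, isClassFunction_irr χ t c, hz, hzv χ hχ]
    rw [← Finset.add_sum_erase _ _ (Finset.mem_univ (1 : (centralizer ({t} : Set G) : Subgroup G))),
      Finset.sum_congr rfl (fun g hg => hval g (Finset.mem_erase.1 hg).1), Finset.sum_const,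
      Finset.card_erase_of_mem (Finset.mem_univ _), Finset.card_univ, ← Nat.card_eq_fintype_card,
      card_H h, hk, OneMemClass.coe_one, irr_apply_one_eq_deg, nsmul_eq_mul] at hm
    have h2 : (deg (χ : G → ℂ) : ℤ) + 3 * a l₀ χ = 4 * m := by
      norm_num at hm
      exact_mod_cast hm
    have hsign := hb χ (Finset.mem_filter.1 hχ).1 (Finset.mem_filter.1 hχ).2
    simp only [hn]
    rcases mul_self_eq_one_iff.1 hsign with e | e <;> rw [e] at h2 ⊢ <;> omega
  obtain ⟨x, y, w, hxy, hxw, hyw, hS⟩ := Finset.card_eq_three.1 hcard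
  have hT3 : ∀ {R : Type} [AddCommMonoid R] (F : Cfsg.IrrCharacter G → R),
      ∑ χ ∈ T, F χ = F x + (F y + F w) := fun F => by
    rw [hS, Finset.sum_insert (by simp [hxy, hxw]), Finset.sum_pair hyw]
  have mx : x ∈ T := by rw [hS]; simp
  have my : y ∈ T := by rw [hS]; simp
  have mw : w ∈ T := by rw [hS]; simp
  have hns : n x + n y + n w = -1 := by
    have h1 := hev 1
    rw [tau_one, hT3] at h1
    simp only [irr_apply_one_eq_deg] at h1
    have h2 : (0 : ℤ) = 1 + (n x + (n y + n w)) := by simp only [hn]; exact_mod_cast h1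
    omega
  have hge : 1 + n x ^ 2 + n y ^ 2 + n w ^ 2 ≤ (Nat.card G : ℤ) := by
    have h1 : ∑ χ ∈ insert (principal G) T, deg (χ : G → ℂ) ^ 2 ≤ Nat.card G := by
      rw [← sum_deg_sq_nat]
      exact Finset.sum_le_univ_sum_of_nonneg fun χ => Nat.zero_le _
    rw [Finset.sum_insert hpr, hT3] at h1
    have hp : deg (principal G : G → ℂ) = 1 := by
      have := irr_apply_one_eq_deg (principal G)
      rw [apply_principal h] at this
      exact_mod_cast this.symm
    rw [hp] at h1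
    have hsq : ∀ χ ∈ T, n χ ^ 2 = (deg (χ : G → ℂ) : ℤ) ^ 2 := fun χ hχ => by
      have := hb χ (Finset.mem_filter.1 hχ).1 (Finset.mem_filter.1 hχ).2
      simp only [hn]
      linear_combination (deg (χ : G → ℂ) : ℤ) ^ 2 * this
    rw [hsq x mx, hsq y my, hsq w mw]
    have h1' : ((1 ^ 2 + (deg (x : G → ℂ) ^ 2 + (deg (y : G → ℂ) ^ 2 + deg (w : G → ℂ) ^ 2)) : ℕ) : ℤ) ≤
        (Nat.card G : ℤ) := by exact_mod_cast h1
    push_cast at h1'
    linarith
  have hcount : (Nat.card G : ℤ) * (n x * n y * n w + n y * n w + n x * n w + n x * n y) =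
      32 * (n x * n y * n w) := by
    have h1 := tau_count h l₀ h0 (a l₀) (ha l₀)
    rw [← Finset.sum_subset (Finset.subset_univ (insert (principal G) T))
      (fun χ _ hχ => by rw [hoff χ hχ]; simp), Finset.sum_insert hpr, hone l₀ h0, hT3] at h1
    simp only [apply_principal h] at h1
    simp only [irr_apply_one_eq_deg, hz, hzv x mx, hzv y my, hzv w mw, hk] at h1
    have key : ∀ χ ∈ T, (a l₀ χ : ℂ) * ((a l₀ χ : ℂ) * (a l₀ χ : ℂ) / (deg (χ : G → ℂ) : ℂ)) =
        1 / (n χ : ℂ) := fun χ hχ => by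
      have hs := hb χ (Finset.mem_filter.1 hχ).1 (Finset.mem_filter.1 hχ).2
      have hs' : (a l₀ χ : ℂ) * (a l₀ χ : ℂ) = 1 := by exact_mod_cast hs
      have hd : (deg (χ : G → ℂ) : ℂ) ≠ 0 := by exact_mod_cast (deg_irr_pos χ).ne'
      have ha0 : (a l₀ χ : ℂ) ≠ 0 := left_ne_zero_of_mul_eq_one hs'
      simp only [hn, Int.cast_mul, Int.cast_natCast]
      rw [hs']
      field_simp
      linear_combination hs'
    rw [key x mx, key y my, key w mw] at h1
    have hne : ∀ χ ∈ T, (n χ : ℂ) ≠ 0 := fun χ hχ => by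
      have := hmod χ hχ
      exact_mod_cast (by omega : n χ ≠ 0)
    have nx := hne x mx
    have ny := hne y my
    have nw := hne w mw
    apply Int.cast_injective (α := ℂ)
    push_cast
    field_simp at h1
    linear_combination h1
  have build : ∀ p q r : Cfsg.IrrCharacter G, p ∈ T → q ∈ T → r ∈ T → p ≠ q → p ≠ r → q ≠ r →
      (∀ g, ∑ χ ∈ T, (a l₀ χ : ℂ) * (χ : G → ℂ) g = (a l₀ p : ℂ) * (p : G → ℂ) g +
        ((a l₀ q : ℂ) * (q : G → ℂ) g + (a l₀ r : ℂ) * (r : G → ℂ) g)) →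
      n q = n r → (n p = -3 ∧ n q = 1 ∨ n p = 5 ∧ n q = -3) →
      ∃ θ A B δ e f N, Full t s K l₀ θ A B δ e f N := by
    intro p q r hp hq hr' pq pr qr hsum' eqr hcase
    obtain ⟨p1, p0⟩ := Finset.mem_filter.1 hp
    obtain ⟨q1, q0⟩ := Finset.mem_filter.1 hq
    obtain ⟨r1, r0⟩ := Finset.mem_filter.1 hr'
    refine ⟨p, q, r, a l₀ p, a l₀ q, a l₀ r, fun _ => p,
      ⟨hb p p1 p0, (Finset.mem_erase.1 p1).1, fun l hl hl' => (hL l hl hl').elim,
        fun l hl hl' => (hL l hl hl').elim, fun l m hl hl' => (hL l hl hl').elim⟩,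
      hb q q1 q0, hb r r1 r0, (Finset.mem_erase.1 q1).1, (Finset.mem_erase.1 r1).1, pq.symm, pr.symm, qr,
      fun l hl hl' => (hL l hl hl').elim, fun g => ?_, fun _ => ?_⟩
    · rw [hev g, hsum' g]; ring
    · have hs := hb p p1 p0
      have hd : (0 : ℤ) < deg (p : G → ℂ) := by exact_mod_cast deg_irr_pos p
      simp only [hn] at hcase
      rcases mul_self_eq_one_iff.1 hs with e | e <;> rw [e] at hcase ⊢ <;> omega
  rcases three_degrees (hmod x mx) (hmod y my) (hmod w mw) hns hge hcount with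
    ⟨e, hc⟩ | ⟨e, hc⟩ | ⟨e, hc⟩
  · exact build x y w mx my mw hxy hxw hyw (fun g => hT3 _) e hc
  · exact build y x w my mx mw hxy.symm hyw hxw (fun g => by rw [hT3]; ring) e hc
  · exact build w x y mw mx my hxw.symm hyw.symm hxy (fun g => by rw [hT3]; ring) e hc

open scoped Classical in
/-- The shape theorem. -/
theorem exists_full (h0 : l₀ ≠ 1) (hr : l₀⁻¹ = l₀)
    (huniq : ∀ l : K →* ℂˣ, l⁻¹ = l → l = 1 ∨ l = l₀) :
    ∃ θ A B δ e f N, Full t s K l₀ θ A B δ e f N := by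
  by_cases hk : kk K = 1
  · exact full_of_one h h0 hr hk
  haveI : Finite (K →* ℂˣ) := lam_finite
  letI : Fintype (K →* ℂˣ) := Fintype.ofFinite _
  set L := (Finset.univ : Finset (K →* ℂˣ)) \ {1, l₀} with hLdef
  have hmemL : ∀ l, l ∈ L ↔ l ≠ 1 ∧ l ≠ l₀ := fun l => by simp [hLdef]
  have hLcard : L.card + 2 = 2 * kk K := card_pairs h h0 hr
  have hkpos := kk_pos h
  obtain ⟨l₁, hl₁⟩ := Finset.card_pos.1 (by omega : 0 < L.card)
  obtain ⟨hl₁a, hl₁b⟩ := (hmemL l₁).1 hl₁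
  obtain ⟨θ, δ, N, S⟩ := exists_star_data h h0 hr huniq hl₁a hl₁b
  obtain ⟨a', ha', hone', hdeg', hgram', -⟩ := exists_coef h
  set a := a' l₀ with hadef
  have ha : tau l₀ = ∑ χ, (a χ : ℂ) • (χ : G → ℂ) := ha' l₀
  have hone : a (principal G) = 1 := hone' l₀ h0
  have h3 : ∑ χ ∈ Finset.univ.erase (principal G), a χ * a χ = 3 := by
    have hg := hgram' l₀ l₀ h0 h0
    rw [tau_gram h l₀ l₀ h0 h0, if_pos rfl, if_pos hr.symm] at hg
    have h4 : ∑ χ, a χ * a χ = 4 := by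
      apply Int.cast_injective (α := ℂ)
      rw [hg]; norm_num
    rw [← Finset.add_sum_erase _ _ (Finset.mem_univ (principal G)), hone] at h4
    linarith
  have hcross : ∀ l, l ≠ 1 → l ≠ l₀ → δ * (a θ - a (N l)) = 1 := by
    intro l hl hl'
    have hg := tau_gram h l₀ l h0 hl
    rw [if_neg (Ne.symm hl'), if_neg (fun e => hl' (by
      rw [← hr, e]; exact DFunLike.ext _ _ fun y => (inv_inv (l y)).symm)), add_zero, add_zero, ha,
      classInner_sum_left, star_coeff h S hl hl'] at hg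
    simp only [classInner_smul_left, classInner_sum_right, classInner_smul_right, map_intCast] at hg
    have hval : ∀ χ ψ : Cfsg.IrrCharacter G, Cfsg.classInner (χ : G → ℂ) (ψ : G → ℂ) =
        if χ = ψ then 1 else 0 := fun χ ψ => classInner_irrCharacter χ ψ
    simp only [hval, mul_ite, mul_one, mul_zero, Finset.sum_ite_eq, Finset.mem_univ, if_true] at hg
    have hg2 : ∑ χ, a χ * ((if χ = principal G then 1 else 0) + (if χ = θ then δ else 0) -
        (if χ = N l then δ else 0)) = 2 := by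
      apply Int.cast_injective (α := ℂ)
      rw [Int.cast_sum, Int.cast_ofNat, ← hg]
      refine Finset.sum_congr rfl fun χ _ => ?_
      push_cast
      ring
    simp only [mul_sub, mul_add, mul_ite, mul_one, mul_zero, Finset.sum_add_distrib, Finset.sum_sub_distrib,
      Finset.sum_ite_eq', Finset.mem_univ, if_true, hone] at hg2
    linarith
  obtain ⟨hb, hcard⟩ := small_squares (n := 3) le_rfl (by exact_mod_cast h3)
  set T := (Finset.univ.erase (principal G)).filter fun χ => a χ ≠ 0 with hT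
  have hle : ∀ χ, χ ≠ principal G → a χ = 0 ∨ a χ = 1 ∨ a χ = -1 := fun χ hχ => by
    by_cases e : a χ = 0
    · exact .inl e
    · exact .inr (mul_self_eq_one_iff.1 (hb χ (Finset.mem_erase.2 ⟨hχ, Finset.mem_univ _⟩) e))
  by_cases hgood : a θ = δ
  · refine full_of_good h S a ha hone h3 hgood (fun l hl hl' => ?_) hk
    have := hcross l hl hl'
    rw [hgood, mul_sub, S.hδ] at this
    have hδ0 : δ ≠ 0 := fun e => by have := S.hδ; rw [e] at this; norm_num at this
    exact (mul_eq_zero.1 (by linarith : δ * a (N l) = 0)).resolve_left hδ0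
  -- otherwise `a θ = 0` and all `N l` occur with sign `-δ`
  have hbad : a θ = 0 ∧ ∀ l, l ≠ 1 → l ≠ l₀ → a (N l) = -δ := by
    have key : ∀ l, l ≠ 1 → l ≠ l₀ → a θ = 0 ∧ a (N l) = -δ := fun l hl hl' => by
      have h1 := hcross l hl hl'
      rcases mul_self_eq_one_iff.1 S.hδ with e | e <;> rw [e] at h1 hgood ⊢ <;>
        rcases hle θ S.θ1 with e1 | e1 | e1 <;>
        rcases hle (N l) (S.N1 l hl hl').1 with e2 | e2 | e2 <;> rw [e1, e2] at h1 <;>
        rw [e1] at hgood ⊢ <;> rw [e2] <;> omega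
    exact ⟨(key l₁ hl₁a hl₁b).1, fun l hl hl' => (key l hl hl').2⟩
  set R := L.image N with hR
  have hRT : R ⊆ T := fun χ hχ => by
    obtain ⟨l, hl, rfl⟩ := Finset.mem_image.1 hχ
    obtain ⟨hl, hl'⟩ := (hmemL l).1 hl
    refine Finset.mem_filter.2 ⟨Finset.mem_erase.2 ⟨(S.N1 l hl hl').1, Finset.mem_univ _⟩, ?_⟩
    rw [hbad.2 l hl hl']
    intro e
    have := S.hδ
    rw [neg_eq_zero.1 e] at this
    norm_num at this
  have hR2 : 2 * R.card = L.card := by
    have := sum_fibres h S hr huniq (R := ℤ) (fun _ => 1)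
    simp only [Finset.sum_const, nsmul_eq_mul, mul_one] at this
    exact_mod_cast this.symm
  have hRle : R.card ≤ 3 := hcard ▸ Finset.card_le_card hRT
  have hRpos : 0 < R.card := by omega
  obtain hc | hc | hc : R.card = 1 ∨ R.card = 2 ∨ R.card = 3 := by omega
  · -- exchange `θ` and the unique `N`
    obtain ⟨χ, hχ⟩ := Finset.card_eq_one.1 hc
    have hNχ : ∀ l, l ≠ 1 → l ≠ l₀ → N l = χ := fun l hl hl' =>
      Finset.mem_singleton.1 (hχ ▸ Finset.mem_image_of_mem N ((hmemL l).2 ⟨hl, hl'⟩))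
    have hχ1 : χ ≠ principal G ∧ χ ≠ θ := hNχ l₁ hl₁a hl₁b ▸ S.N1 l₁ hl₁a hl₁b
    have S' : Star t s K l₀ χ (-δ) (fun _ => θ) :=
      { hδ := by rw [neg_mul_neg]; exact S.hδ
        θ1 := hχ1.1
        N1 := fun _ _ _ => ⟨S.θ1, hχ1.2.symm⟩
        eq := fun l hl hl' g => by rw [S.eq l hl hl' g, hNχ l hl hl']; push_cast; ring
        fib := fun l m hl hl' hm hm' => ⟨fun _ => (S.fib l m hl hl' hm hm').1
          ((hNχ l hl hl').trans (hNχ m hm hm').symm), fun _ => rfl⟩ }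
    exact full_of_good h S' a ha hone h3 (hNχ l₁ hl₁a hl₁b ▸ hbad.2 l₁ hl₁a hl₁b)
      (fun _ _ _ => hbad.1) hk
  · exfalso
    obtain ⟨x, y, hxy, hxyR⟩ := Finset.card_eq_two.1 hc
    obtain ⟨lx, hlx, ex⟩ := Finset.mem_image.1 (by rw [← hR, hxyR]; exact Finset.mem_insert_self x {y} : x ∈ L.image N)
    obtain ⟨ly, hly, ey⟩ := Finset.mem_image.1
      (by rw [← hR, hxyR]; exact Finset.mem_insert_of_mem (Finset.mem_singleton_self y) : y ∈ L.image N)
    obtain ⟨lx1, lx2⟩ := (hmemL lx).1 hlx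
    obtain ⟨ly1, ly2⟩ := (hmemL ly).1 hly
    obtain ⟨C, hC⟩ : ∃ C, T \ R = {C} := Finset.card_eq_one.1 (by
      rw [Finset.card_sdiff_of_subset hRT, hcard, hc])
    have hCm : C ∈ T \ R := hC ▸ Finset.mem_singleton_self C
    obtain ⟨hCT, hCR⟩ := Finset.mem_sdiff.1 hCm
    have hC1 : C ≠ principal G := (Finset.mem_erase.1 (Finset.mem_filter.1 hCT).1).1
    have hCθ : C ≠ θ := fun e => (Finset.mem_filter.1 hCT).2 (e ▸ hbad.1)
    rw [hR] at hCR
    have hCx : C ≠ x := fun e => hCR (e ▸ ex ▸ Finset.mem_image_of_mem N hlx)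
    have hCy : C ≠ y := fun e => hCR (e ▸ ey ▸ Finset.mem_image_of_mem N hly)
    have hx1 : x ≠ principal G ∧ x ≠ θ := ex ▸ S.N1 lx lx1 lx2
    have hy1 : y ≠ principal G ∧ y ≠ θ := ey ▸ S.N1 ly ly1 ly2
    set T₁ : K := ⟨t, h.htK⟩ with hT1
    set v : ℂ := (δ : ℂ) * (θ : G → ℂ) t - 1 with hv
    have hcv : ∀ l, l ≠ 1 → l ≠ l₀ → cc l T₁ = (δ : ℂ) * (N l : G → ℂ) t - v := fun l hl hl' => by
      have h1 := S.eq l hl hl' t
      rw [tau_t h, ← hT1] at h1
      linear_combination (-1 : ℂ) * h1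
    have hsum : cc lx T₁ + cc ly T₁ = -1 - (l₀ T₁ : ℂ) := by
      have h1 := sum_cc h h0 hr (y := T₁) (fun e => t_ne h (congrArg Subtype.val e))
      rw [← hLdef, Finset.sum_congr rfl (fun l hl => hcv l ((hmemL l).1 hl).1 ((hmemL l).1 hl).2),
        sum_fibres h S hr huniq (fun χ => (δ : ℂ) * (χ : G → ℂ) t - v), ← hLdef, ← hR, hxyR,
        Finset.sum_pair hxy, ← ex, ← ey, ← hcv lx lx1 lx2, ← hcv ly ly1 ly2] at h1
      linear_combination h1 / 2
    have hl0 : (l₀ T₁ : ℂ) = -1 ∧ cc ly T₁ = -cc lx T₁ := by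
      rcases mul_self_eq_one_iff.1 (l0_sign h h0 hr T₁) with e | e <;>
        rcases cc_t h lx with e1 | e1 <;> rcases cc_t h ly with e2 | e2 <;>
        rw [← hT1] at e1 e2 <;> rw [e, e1, e2] at hsum <;>
        first
        | (exfalso; norm_num at hsum; done)
        | (refine ⟨e, ?_⟩; rw [e1, e2] <;> norm_num)
    -- the two count equations
    have hd : (deg (x : G → ℂ) : ℤ) = deg (y : G → ℂ) := by
      rw [← ex, ← ey, star_deg h S lx1 lx2, star_deg h S ly1 ly2]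
    have hsq : (x : G → ℂ) t * (x : G → ℂ) t = (y : G → ℂ) t * (y : G → ℂ) t := by
      have h1 := (star_count h S lx1 lx2).trans (star_count h S ly1 ly2).symm
      rw [ex, ey] at h1
      have hG : (Nat.card G : ℂ) ≠ 0 := by exact_mod_cast Nat.card_pos.ne'
      have h2 := mul_left_cancel₀ hG h1
      have hdC : (deg (x : G → ℂ) : ℂ) = (deg (y : G → ℂ) : ℂ) := by exact_mod_cast hd
      rw [irr_apply_one_eq_deg x, irr_apply_one_eq_deg y, ← hdC, sub_right_inj] at h2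
      have hδ0 : (δ : ℂ) ≠ 0 := by
        intro e
        have := S.hδ
        rw [show δ = 0 by exact_mod_cast e] at this
        norm_num at this
      have hne : (deg (x : G → ℂ) : ℂ) ≠ 0 := by exact_mod_cast (deg_irr_pos x).ne'
      exact (div_left_inj' hne).1 (mul_left_cancel₀ hδ0 h2)
    have hδC : (δ : ℂ) * (δ : ℂ) = 1 := by exact_mod_cast S.hδ
    have hvx : (δ : ℂ) * (x : G → ℂ) t = v + cc lx T₁ := by rw [hcv lx lx1 lx2, ex]; ring
    have hvy : (δ : ℂ) * (y : G → ℂ) t = v - cc lx T₁ := by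
      have := hcv ly ly1 ly2
      rw [hl0.2, ey] at this
      linear_combination (-1 : ℂ) * this
    have hcne : cc lx T₁ ≠ 0 := by
      rcases cc_t h lx with e1 | e1 <;> rw [← hT1] at e1 <;> rw [e1] <;> norm_num
    have hv0 : v = 0 := by
      have h1 : (v + cc lx T₁) * (v + cc lx T₁) = (v - cc lx T₁) * (v - cc lx T₁) := by
        rw [← hvx, ← hvy]
        linear_combination (δ : ℂ) * (δ : ℂ) * hsq
      exact (mul_eq_zero.1 (by linear_combination h1 / 4 : v * cc lx T₁ = 0)).resolve_right hcne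
    -- the value of the third constituent
    have hTeq : T = {x, y, C} := by
      rw [← Finset.union_sdiff_of_subset hRT, hC, hxyR]
      ext χ; simp
    have hoff : ∀ χ, χ ∉ insert (principal G) T → a χ = 0 := fun χ hχ => by
      by_contra hne
      refine hχ (Finset.mem_insert_of_mem (Finset.mem_filter.2 ⟨Finset.mem_erase.2 ⟨?_, Finset.mem_univ _⟩, hne⟩))
      rintro rfl
      exact hχ (Finset.mem_insert_self _ _)
    have hev := eval_sum h ha _ hoff t
    have hpr : principal G ∉ T := by simp [hT]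
    rw [Finset.sum_insert hpr, hTeq, Finset.sum_insert (by simp [hxy, hCx.symm]),
      Finset.sum_pair hCy.symm, hone, ← ex, ← ey, hbad.2 lx lx1 lx2, hbad.2 ly ly1 ly2, ex, ey,
      apply_principal h, tau_t h, cc_l0 h h0 hr, ← hT1, hl0.1] at hev
    have hC3 : (a C : ℂ) * (C : G → ℂ) t = 3 := by
      push_cast at hev
      linear_combination -hev + hvx + hvy + 2 * hv0
    -- the column at `t`
    have hcol := column_le t {principal G, θ, x, y, C}
    rw [Finset.sum_insert (by simp [S.θ1.symm, hx1.1.symm, hy1.1.symm, hC1.symm]),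
      Finset.sum_insert (by simp [hx1.2.symm, hy1.2.symm, hCθ.symm]),
      Finset.sum_insert (by simp [hxy, hCx.symm]), Finset.sum_pair hCy.symm,
      apply_principal h, card_H h] at hcol
    have hk3 : kk K = 3 := by omega
    have hnorm : ∀ {u : ℂ} {n : ℤ}, n * n = 1 → ‖(n : ℂ) * u‖ = ‖u‖ := fun {u n} hn => by
      rw [norm_mul, Complex.norm_intCast]
      rcases mul_self_eq_one_iff.1 hn with e | e <;> rw [e] <;> simp
    rw [← hnorm (u := (θ : G → ℂ) t) S.hδ, ← hnorm (u := (x : G → ℂ) t) S.hδ,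
      ← hnorm (u := (y : G → ℂ) t) S.hδ,
      ← hnorm (u := (C : G → ℂ) t) (hb C (Finset.mem_filter.1 hCT).1 (Finset.mem_filter.1 hCT).2),
      hC3, hvx, hvy, hv0, show (δ : ℂ) * (θ : G → ℂ) t = 1 by linear_combination hv0, hk3] at hcol
    rcases cc_t h lx with e1 | e1 <;> rw [← hT1] at e1 <;> rw [e1] at hcol <;> norm_num at hcol
  · exfalso
    have hTR : R = T := Finset.eq_of_subset_of_card_le hRT (by omega)
    have hoff : ∀ χ, χ ∉ insert (principal G) T → a χ = 0 := fun χ hχ => by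
      by_contra hne
      refine hχ (Finset.mem_insert_of_mem (Finset.mem_filter.2 ⟨Finset.mem_erase.2 ⟨?_, Finset.mem_univ _⟩, hne⟩))
      rintro rfl
      exact hχ (Finset.mem_insert_self _ _)
    have hpr : principal G ∉ T := by simp [hT]
    have h1 := eval_sum h ha _ hoff 1
    rw [tau_one, Finset.sum_insert hpr, hone, apply_principal h, Int.cast_one, one_mul, ← hTR] at h1
    have h2 : ∀ χ ∈ R, (a χ : ℂ) * (χ : G → ℂ) 1 = ((-δ * ((deg (θ : G → ℂ) : ℤ) + δ) : ℤ) : ℂ) := by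
      intro χ hχ
      obtain ⟨l, hl, rfl⟩ := Finset.mem_image.1 hχ
      obtain ⟨hl, hl'⟩ := (hmemL l).1 hl
      rw [hbad.2 l hl hl', irr_apply_one_eq_deg, ← star_deg h S hl hl']
      push_cast
      ring
    rw [Finset.sum_congr rfl h2, Finset.sum_const, hc, nsmul_eq_mul] at h1
    have h3 : (0 : ℤ) = 1 + 3 * (-δ * ((deg (θ : G → ℂ) : ℤ) + δ)) := by exact_mod_cast h1
    omega

end Cfsg.Lib.BSW
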