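import Cfsg.Agent.BSW.Order
import Cfsg.Agent.Chars.DefectZero
import Mathlib.GroupTheory.Sylow

/-!
# The singular elements
-/

set_option autoImplicit false
set_option linter.style.haveILetI false
set_option linter.unusedSectionVars false

namespace Cfsg.Lib.BSW

open Subgroup Cfsg.Lib.InvolCalc Cfsg.Lib.Chars
open scoped ComplexConjugate

universe u

/-- `n`-singular elements. -/
def Sing {G : Type u} [Group G] (n : ℕ) (g : G) : Prop := ¬ (orderOf g).Coprime n

/-- Number of ways of writing `c` as a product of two conjugates of `t`. -/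
noncomputable def npairs {G : Type u} [Group G] (t c : G) : ℕ :=
  Nat.card {p : G × G // IsConj t p.1 ∧ IsConj t p.2 ∧ p.1 * p.2 = c}

variable {G : Type u} [Group G] {t s : G} {K : Subgroup G}

/-- What the characters tell about the group. -/
structure Res (t s : G) (K : Subgroup G) (δ : ℤ) (q r : ℕ) : Prop where
  data : Data t s K
  hδ : δ = 1 ∨ δ = -1
  hq : (q : ℤ) = 4 * kk K + δ
  hr : (r : ℤ) = 2 * kk K + δ
  hG : Nat.card G = 4 * kk K * q * r
  disj : ∀ g : G, Sing q g → Sing r g → False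
  cardQ : Nat.card {g : G // Sing q g} + 1 = q ^ 2
  pairsR : ∀ g : G, Sing r g → npairs t g = r
  pairsQ : ∀ g : G, Sing q g → 2 * (npairs t g : ℤ) = q * (1 + δ)
  colQ : ∀ g : G, Sing q g → 2 * kk K + 1 ≤ 2 * Nat.card (centralizer ({g} : Set G) : Subgroup G)

/-- Arithmetic of the three factors. -/
theorem coprime_parts {k q r : ℕ} {δ : ℤ} (hδ : δ = 1 ∨ δ = -1) (hq : (q : ℤ) = 4 * k + δ)
    (hr : (r : ℤ) = 2 * k + δ) : (4 * k).Coprime q ∧ (4 * k).Coprime r ∧ q.Coprime r := by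
  have h1 : IsCoprime ((4 * k : ℕ) : ℤ) (q : ℤ) := by
    rcases hδ with rfl | rfl
    · exact ⟨-1, 1, by push_cast; linarith⟩
    · exact ⟨1, -1, by push_cast; linarith⟩
  have h3 : IsCoprime (q : ℤ) (r : ℤ) := by
    rcases hδ with rfl | rfl
    · exact ⟨-1, 2, by linarith⟩
    · exact ⟨1, -2, by linarith⟩
  have h2 : IsCoprime ((2 * k : ℕ) : ℤ) (r : ℤ) := by
    rcases hδ with rfl | rfl
    · exact ⟨-1, 1, by push_cast; linarith⟩
    · exact ⟨1, -1, by push_cast; linarith⟩
  have h2' : Nat.Coprime (2 * k) r := Nat.isCoprime_iff_coprime.1 h2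
  refine ⟨Nat.isCoprime_iff_coprime.1 h1, ?_, Nat.isCoprime_iff_coprime.1 h3⟩
  rw [show 4 * k = 2 * (2 * k) by ring]
  exact Nat.Coprime.mul_left (Nat.Coprime.coprime_dvd_left (dvd_mul_right 2 k) h2') h2'

theorem sing_conj {n : ℕ} (g c : G) : Sing n (c * g * c⁻¹) ↔ Sing n g := by
  rw [Sing, Sing, show c * g * c⁻¹ = MulAut.conj c g from rfl, MulEquiv.orderOf_eq]

variable (h : Data t s K) [Finite G]
include h

/-- Elements of order prime to `qr` are conjugate into `K`. -/
theorem conj_into_K {q r : ℕ} (hG : Nat.card G = 4 * kk K * q * r) (c1 : (4 * kk K).Coprime q)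
    (c2 : (4 * kk K).Coprime r) {g : G} (hg : g ≠ 1) (hgq : ¬ Sing q g) (hgr : ¬ Sing r g) :
    ∃ c : G, c⁻¹ * g * c ∈ K := by
  rw [Sing, not_not] at hgq hgr
  have ho : orderOf g ∣ 4 * kk K := by
    have h1 : orderOf g ∣ 4 * kk K * q * r := hG ▸ orderOf_dvd_natCard g
    exact hgq.dvd_of_dvd_mul_right (hgr.dvd_of_dvd_mul_right h1)
  by_cases h2 : 2 ∣ orderOf g
  · obtain ⟨d, hd⟩ := isConj_iff.1 (h.conj t (g ^ (orderOf g / 2)) h.ht
      (orderOf_pow_orderOf_div (orderOf_pos g).ne' h2))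
    have hH : d⁻¹ * g * d ∈ centralizer ({t} : Set G) := by
      rw [mem_centralizer_singleton_iff]
      have e : d * t * d⁻¹ * g = g * (d * t * d⁻¹) := by rw [hd, ← pow_succ, ← pow_succ']
      calc d⁻¹ * g * d * t = d⁻¹ * (g * (d * t * d⁻¹)) * d := by group
        _ = d⁻¹ * (d * t * d⁻¹ * g) * d := by rw [e]
        _ = t * (d⁻¹ * g * d) := by group
    rcases mem_H h hH with hK | ⟨a, ha, e⟩
    · exact ⟨d, hK⟩
    · obtain ⟨d', hd'⟩ := isConj_iff.1 (h.conj t _ h.ht (smul_order h ha))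
      refine ⟨d * d', ?_⟩
      rw [← e] at hd'
      rw [show (d * d')⁻¹ * g * (d * d') = d'⁻¹ * (d⁻¹ * g * d) * d' by group, ← hd',
        show d'⁻¹ * (d' * t * d'⁻¹) * d' = t by group]
      exact h.htK
  · obtain ⟨l, hl, hlo⟩ := Nat.exists_prime_and_dvd (n := orderOf g) (fun e => hg (orderOf_eq_one_iff.1 e))
    haveI : Fact l.Prime := ⟨hl⟩
    have hl2 : l ≠ 2 := fun e => h2 (e ▸ hlo)
    set z := g ^ (orderOf g / l) with hz
    have hzo : orderOf z = l := orderOf_pow_orderOf_div (orderOf_pos g).ne' hlo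
    have hlk : l ∣ kk K := by
      have h4 : l.Coprime 4 := Nat.Coprime.pow_right 2 ((Nat.coprime_primes hl Nat.prime_two).2 hl2)
      exact h4.dvd_of_dvd_mul_left (hlo.trans ho)
    obtain ⟨S, hS⟩ : ∃ S : Sylow l G, z ∈ S := by
      obtain ⟨S, hS⟩ := (IsPGroup.of_card (n := 1) (by rw [Nat.card_zpowers, hzo, pow_one]) :
        IsPGroup l (zpowers z)).exists_le_sylow
      exact ⟨S, hS (mem_zpowers z)⟩
    have hv : (Nat.card G).factorization l = (Nat.card K).factorization l := by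
      have hkp := kk_pos h
      have hq0 : q ≠ 0 := fun e => (Nat.card_pos (α := G)).ne' (by rw [hG, e]; simp)
      have hr0 : r ≠ 0 := fun e => (Nat.card_pos (α := G)).ne' (by rw [hG, e]; simp)
      have hnd : ∀ n, (4 * kk K).Coprime n → ¬ l ∣ n := fun n hn hd =>
        hl.not_dvd_one (hn ▸ Nat.dvd_gcd (hlk.mul_left 4) hd)
      have hf : ∀ n, (4 * kk K).Coprime n → n.factorization l = 0 := fun n hn =>
        Nat.factorization_eq_zero_of_not_dvd (hnd n hn)
      have h20 : (2 : ℕ).factorization l = 0 := Nat.factorization_eq_zero_of_not_dvd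
        (fun hd => hl2 ((Nat.prime_dvd_prime_iff_eq hl Nat.prime_two).1 hd))
      have h40 : (4 : ℕ).factorization l = 0 := Nat.factorization_eq_zero_of_not_dvd
        (fun hd => hl2 ((Nat.prime_dvd_prime_iff_eq hl Nat.prime_two).1
          (hl.dvd_of_dvd_pow (show l ∣ 2 ^ 2 from hd))))
      rw [hG, card_K h, Nat.factorization_mul (by positivity) hr0, Nat.factorization_mul (by positivity) hq0,
        Nat.factorization_mul (by norm_num) hkp.ne', Nat.factorization_mul (by norm_num) hkp.ne']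
      simp [hf q c1, hf r c2, h20, h40]
    obtain ⟨L, hL⟩ := Sylow.exists_subgroup_card_pow_prime (G := K) l (n := (Nat.card K).factorization l)
      (Nat.ordProj_dvd _ _)
    let L' : Sylow l G := Sylow.ofCard (L.map K.subtype) (by
      rw [Subgroup.card_map_of_injective K.subtype_injective, hL, hv])
    obtain ⟨c, hc⟩ := MulAction.exists_smul_eq G S L'
    have hzK : c * z * c⁻¹ ∈ K := by
      have h1 : c * z * c⁻¹ ∈ (c • S : Sylow l G) := by
        rw [Sylow.smul_def]
        exact ⟨z, hS, rfl⟩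
      rw [hc] at h1
      obtain ⟨x, -, hx⟩ := (h1 : c * z * c⁻¹ ∈ L.map K.subtype)
      exact hx ▸ x.2
    refine ⟨c⁻¹, ?_⟩
    rw [inv_inv, ← cent_K h hzK (fun e => ?_), mem_centralizer_singleton_iff]
    · have e : z * g = g * z := by rw [hz, ← pow_succ, ← pow_succ']
      calc c * g * c⁻¹ * (c * z * c⁻¹) = c * (g * z) * c⁻¹ := by group
        _ = c * (z * g) * c⁻¹ := by rw [e]
        _ = c * z * c⁻¹ * (c * g * c⁻¹) := by group
    · have h1 : orderOf (c * z * c⁻¹) ∣ 2 := orderOf_dvd_of_pow_eq_one (by rw [sq, e])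
      rw [show c * z * c⁻¹ = MulAut.conj c z from rfl, MulEquiv.orderOf_eq, hzo] at h1
      exact hl2 ((Nat.prime_dvd_prime_iff_eq hl Nat.prime_two).1 h1)

theorem not_sing_K {n : ℕ} (hn : (4 * kk K).Coprime n) {g c : G} (hc : c⁻¹ * g * c ∈ K) : ¬ Sing n g := by
  rw [← sing_conj (n := n) g c⁻¹, inv_inv, Sing, not_not]
  refine Nat.Coprime.coprime_dvd_left ?_ hn
  rw [← card_H h]
  exact orderOf_dvd_natCard _ (K_le h hc)

end Cfsg.Lib.BSW
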