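import Cfsg.Agent.BSW.Prime

/-!
# The Sylow subgroups of order `q` are abelian with trivial intersections
-/

set_option autoImplicit false
set_option linter.style.haveILetI false
set_option linter.unusedSectionVars false

namespace Cfsg.Lib.BSW

open Subgroup Cfsg.Lib.InvolCalc

universe u

variable {G : Type u} [Group G] [Finite G] {t s : G} {K : Subgroup G} {δ : ℤ} {q r : ℕ}

/-- Normalisers grow in `p`-groups. -/
theorem exists_grow {p : ℕ} [Fact p.Prime] {P D : Subgroup G} (hP : IsPGroup p P) (hle : D ≤ P) (hne : ¬ P ≤ D) :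
    ∃ g ∈ P, g ∉ D ∧ g ∈ normalizer (D : Set G) := by
  haveI := hP.isNilpotent
  have hlt : D.subgroupOf P < ⊤ := lt_top_iff_ne_top.2 fun e => hne (subgroupOf_eq_top.1 e)
  obtain ⟨g, hg, hg'⟩ := SetLike.exists_of_lt (Group.normalizerCondition_of_isNilpotent _ hlt)
  refine ⟨g, g.2, fun hm => hg' (mem_subgroupOf.2 hm), mem_normalizer_iff.2 fun y => ⟨fun hy => ?_, fun hy => ?_⟩⟩
  · have := (mem_normalizer_iff.1 hg ⟨y, hle hy⟩).1 (mem_subgroupOf.2 hy)
    simpa [mem_subgroupOf] using this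
  · have hy' : y ∈ P := by
      have := mul_mem (mul_mem (inv_mem g.2) (hle hy)) g.2
      rwa [show (g : G)⁻¹ * ((g : G) * y * (g : G)⁻¹) * g = y by group] at this
    exact mem_subgroupOf.1 ((mem_normalizer_iff.1 hg ⟨y, hy'⟩).2 (by simpa [mem_subgroupOf] using hy))

variable (R : Res t s K δ q r)
include R

theorem q_dvd : q ∣ Nat.card G := R.hG ▸ (dvd_mul_left q (4 * kk K)).mul_right r

theorem fact_q {p e : ℕ} (hp : p.Prime) (hq : q = p ^ e) (he : e ≠ 0) : (Nat.card G).factorization p = e := by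
  obtain ⟨c1, c2, c3⟩ := cop R
  have hpq : p ∣ q := hq ▸ dvd_pow_self p he
  have hco : (4 * kk K * r).Coprime q := Nat.Coprime.mul_left c1 c3.symm
  have hnd : ¬ p ∣ 4 * kk K * r := fun hd => hp.not_dvd_one (hco ▸ Nat.dvd_gcd hd hpq)
  have hne : 4 * kk K * r ≠ 0 := fun e' => hnd (e' ▸ dvd_zero p)
  rw [R.hG, show 4 * kk K * q * r = (4 * kk K * r) * q by ring, Nat.factorization_mul hne (q_ne R),
    Finsupp.add_apply, Nat.factorization_eq_zero_of_not_dvd hnd, hq, hp.factorization_pow, Finsupp.single_eq_same,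
    zero_add]

theorem sylow_card {p e : ℕ} [Fact p.Prime] (hq : q = p ^ e) (he : e ≠ 0) (P : Sylow p G) :
    Nat.card P = q := by
  rw [P.card_eq_multiplicity, fact_q R Fact.out hq he, hq]

theorem sylow_sing {p e : ℕ} [Fact p.Prime] (hq : q = p ^ e) (he : e ≠ 0) {P : Sylow p G} {x : G}
    (hx : x ∈ (P : Subgroup G)) (hx1 : x ≠ 1) : Sing q x := fun hco => by
  refine hx1 (orderOf_eq_one_iff.1 (Nat.eq_one_of_dvd_coprimes hco dvd_rfl ?_))
  rw [← sylow_card R hq he P]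
  exact orderOf_dvd_natCard _ hx

/-- Two Sylow subgroups sharing a central element are equal. -/
theorem sylow_eq {p e : ℕ} [Fact p.Prime] (hq : q = p ^ e) (he : e ≠ 0) (hδ : δ = -1)
    (P S : Sylow p G) {w : G} (hwP : w ∈ (P : Subgroup G)) (hwS : w ∈ (S : Subgroup G)) (hw1 : w ≠ 1)
    (hw : centralizer ({w} : Set G) = (P : Subgroup G)) : P = S := by
  classical
  by_contra hPS
  letI := Fintype.ofFinite (Sylow p G × Sylow p G)
  have hp : p.Prime := Fact.out
  obtain ⟨c1, c2, c3⟩ := cop R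
  have hpq : p ∣ q := hq ▸ dvd_pow_self p he
  let M : Finset (Sylow p G × Sylow p G) := Finset.univ.filter fun x => x.1 ≠ x.2 ∧ ∃ w : G,
    w ∈ (x.1 : Subgroup G) ∧ w ∈ (x.2 : Subgroup G) ∧ w ≠ 1 ∧ centralizer ({w} : Set G) = (x.1 : Subgroup G)
  obtain ⟨⟨P₀, S₀⟩, hmem, hmax⟩ := Finset.exists_max_image M
    (fun x => Nat.card ((x.1 : Subgroup G) ⊓ (x.2 : Subgroup G) : Subgroup G))
    ⟨(P, S), Finset.mem_filter.2 ⟨Finset.mem_univ _, hPS, w, hwP, hwS, hw1, hw⟩⟩
  obtain ⟨-, hne, w₀, w₀P, w₀S, w₀1, hC₀⟩ := Finset.mem_filter.1 hmem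
  simp only at hne w₀P w₀S hC₀ hmax
  set D := (P₀ : Subgroup G) ⊓ (S₀ : Subgroup G) with hD
  have hw₀D : w₀ ∈ D := ⟨w₀P, w₀S⟩
  -- a central element of `S₀` lies in `D`
  obtain ⟨v, hvD, hv1, hvC⟩ : ∃ v ∈ D, v ≠ 1 ∧ centralizer ({v} : Set G) = (S₀ : Subgroup G) := by
    haveI : Nontrivial (S₀ : Subgroup G) := ⟨⟨⟨w₀, w₀S⟩, 1, fun e => w₀1 (congrArg Subtype.val e)⟩⟩
    haveI := S₀.2.center_nontrivial
    obtain ⟨z, hz⟩ := exists_ne (1 : center (S₀ : Subgroup G))
    have hz1 : ((z : (S₀ : Subgroup G)) : G) ≠ 1 := fun e => hz (Subtype.ext (Subtype.ext e))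
    have hle : (S₀ : Subgroup G) ≤ centralizer ({((z : (S₀ : Subgroup G)) : G)} : Set G) := fun a ha =>
      mem_cent_iff.2 (congrArg Subtype.val (mem_center_iff.1 z.2 ⟨a, ha⟩))
    refine ⟨_, ⟨?_, (z : (S₀ : Subgroup G)).2⟩, hz1, eq_of_cent_le hle (le_of_eq ?_)⟩
    · show ((z : (S₀ : Subgroup G)) : G) ∈ (P₀ : Subgroup G)
      rw [← hC₀, mem_cent_iff]
      exact (congrArg Subtype.val (mem_center_iff.1 z.2 ⟨w₀, w₀S⟩)).symm
    · rw [q_cent R (sylow_sing R hq he (z : (S₀ : Subgroup G)).2 hz1), sylow_card R hq he S₀]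
  set N := normalizer (D : Set G) with hN
  -- `N` has odd order
  have hodd : ∀ u : G, u ∈ N → orderOf u ≠ 2 := by
    intro u hu huo
    have huu := sq_of_order_two huo
    have huw : u * w₀ * u⁻¹ ∈ D := (mem_normalizer_iff.1 hu w₀).1 hw₀D
    have hcomm : ∀ a ∈ D, w₀ * a = a * w₀ := fun a ha =>
      (mem_cent_iff.1 (show a ∈ centralizer ({w₀} : Set G) from hC₀ ▸ ha.1)).symm
    set x := w₀ * (u * w₀ * u⁻¹) with hx
    have hxD : x ∈ D := mul_mem hw₀D huw
    by_cases hx1 : x = 1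
    · exact no_invert R hδ (sylow_sing R hq he w₀P w₀1) huo (eq_inv_of_mul_eq_one_right hx1)
    · have hux : u * x * u⁻¹ = x := by
        rw [hx, hcomm _ huw]
        calc u * (u * w₀ * u⁻¹ * w₀) * u⁻¹ = u * u * w₀ * u⁻¹ * w₀ * u⁻¹ := by group
          _ = w₀ * (u * w₀ * u⁻¹) := by rw [huu, inv_of_order_two huo]; group
          _ = u * w₀ * u⁻¹ * w₀ := hcomm _ huw
      have h1 : orderOf u ∣ Nat.card (centralizer ({x} : Set G) : Subgroup G) :=
        orderOf_dvd_natCard _ (mem_cent_iff.2 (mul_inv_eq_iff_eq_mul.1 hux))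
      rw [huo, q_cent R (sylow_sing R hq he hxD.1 hx1)] at h1
      exact Nat.prime_two.not_dvd_one (c1 ▸ Nat.dvd_gcd (dvd_mul_of_dvd_left (by norm_num) _) h1)
  have hoddN : ∀ g ∈ N, Odd (orderOf g) := fun g hg => by
    by_contra he'
    rw [Nat.not_odd_iff_even, even_iff_two_dvd] at he'
    exact hodd _ (pow_mem hg _) (orderOf_pow_orderOf_div (orderOf_pos g).ne' he')
  -- so `N` has a unique Sylow subgroup
  have huniq : Subsingleton (Sylow p N) := by
    refine (partition (p := p) fun y hy hyp => ?_).1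
    have hyl : orderOf (y : G) = orderOf y := Subgroup.orderOf_coe y
    have hl2 : orderOf y ≠ 2 := fun e' => hodd _ y.2 (hyl.trans e')
    have hlq : ¬ orderOf y ∣ q := fun hd => hyp ((Nat.prime_dvd_prime_iff_eq hy hp).1 (hy.dvd_of_dvd_pow (hq ▸ hd)))
    obtain ⟨f1, f2, f3⟩ := cent_odd R hy hyl hl2 hlq
    have hC : centralizer ({y} : Set N) = (centralizer ({(y : G)} : Set G)).subgroupOf N := by
      ext a
      rw [mem_subgroupOf, mem_cent_iff, mem_cent_iff, Subtype.ext_iff, coe_mul, coe_mul]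
    have hsq : ∀ x : N, x ≠ 1 → (x : G) * x ≠ 1 := fun x hx1 e' => by
      have h1 : orderOf (x : G) ∣ 2 := orderOf_dvd_of_pow_eq_one (by rw [sq, e'])
      rcases (Nat.dvd_prime Nat.prime_two).1 h1 with h2 | h2
      · exact hx1 (Subtype.ext (orderOf_eq_one_iff.1 h2))
      · exact hodd _ x.2 h2
    have hy1 : y ≠ 1 := fun e' => hy.ne_one (by rw [e', orderOf_one])
    refine ⟨fun hd => ?_, ?_, fun x hx hx1 => ?_⟩
    · rw [hC, ← card_map_of_injective N.subtype_injective, subgroupOf_map_subtype] at hd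
      have h1 := hd.trans (card_dvd_of_le inf_le_left)
      exact hp.not_dvd_one (f3 ▸ Nat.dvd_gcd h1 hpq)
    · refine le_antisymm (fun g hg => ?_) le_normalizer
      have hyC : y ∈ centralizer ({y} : Set N) := mem_cent_iff.2 rfl
      have h1 := (mem_normalizer_iff.1 hg y).1 hyC
      rw [hC, mem_subgroupOf] at h1
      have hne1 : g * y * g⁻¹ ≠ 1 := fun e' => hy1 (conj_eq_one_iff.1 e')
      have h2 := mem_normalizer_of_cent (g := (g : G)) (x := (y : G)) rfl (f1 _ h1 (hsq _ hne1))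
      rw [hC, mem_subgroupOf]
      exact mem_of_odd_normalizer f2 h2 (hoddN _ g.2)
    · rw [hC, mem_subgroupOf] at hx
      rw [hC, ← f1 _ hx (hsq x hx1)]
      ext a
      rw [mem_subgroupOf, mem_cent_iff, mem_cent_iff, Subtype.ext_iff, coe_mul, coe_mul]
  -- both normalisers lie in one Sylow subgroup
  have hlift : ∀ T : Sylow p G, ∃ W : Sylow p N, ∀ g ∈ (T : Subgroup G), ∀ hg : g ∈ N, (⟨g, hg⟩ : N) ∈ W := fun T => by
    have hpg : IsPGroup p ((T : Subgroup G).subgroupOf N) := T.2.comap_of_injective N.subtype N.subtype_injective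
    obtain ⟨W, hW⟩ := hpg.exists_le_sylow
    exact ⟨W, fun g hg hgN => hW (mem_subgroupOf.2 hg)⟩
  obtain ⟨W, hW⟩ := hlift P₀
  obtain ⟨W', hW'⟩ := hlift S₀
  rw [Subsingleton.elim W' W] at hW'
  obtain ⟨T, hT⟩ := (W.2.map N.subtype).exists_le_sylow
  have hDP : ¬ (P₀ : Subgroup G) ≤ D := fun hle => hne (Sylow.ext (Subgroup.eq_of_le_of_card_ge (hle.trans inf_le_right)
    (by rw [sylow_card R hq he P₀, sylow_card R hq he S₀])))
  have hDS : ¬ (S₀ : Subgroup G) ≤ D := fun hle => hne (Sylow.ext (Subgroup.eq_of_le_of_card_ge (hle.trans inf_le_left)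
    (by rw [sylow_card R hq he P₀, sylow_card R hq he S₀])).symm)
  obtain ⟨g, hgP, hgD, hgN⟩ := exists_grow P₀.2 inf_le_left hDP
  obtain ⟨g', hg'S, hg'D, hg'N⟩ := exists_grow S₀.2 inf_le_right hDS
  have hDT : D ≤ (T : Subgroup G) := fun a ha =>
    hT ⟨⟨a, le_normalizer ha⟩, hW a ha.1 _, rfl⟩
  have hgT : g ∈ (T : Subgroup G) := hT ⟨⟨g, hgN⟩, hW g hgP _, rfl⟩
  have hg'T : g' ∈ (T : Subgroup G) := hT ⟨⟨g', hg'N⟩, hW' g' hg'S _, rfl⟩
  have hbig : ∀ (A : Sylow p G) (z a : G), z ∈ D → z ≠ 1 → centralizer ({z} : Set G) = (A : Subgroup G) →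
      D ≤ (A : Subgroup G) → a ∈ (A : Subgroup G) → a ∈ (T : Subgroup G) → a ∉ D → A = T := by
    intro A z a hz hz1 hzC hDA haA haT haD
    by_contra hAT
    have hmemM : (A, T) ∈ M := Finset.mem_filter.2 ⟨Finset.mem_univ _, hAT, z, hDA hz, hDT hz, hz1, hzC⟩
    have h1 := hmax (A, T) hmemM
    have hle : D ≤ (A : Subgroup G) ⊓ (T : Subgroup G) := le_inf hDA hDT
    exact haD ((Subgroup.eq_of_le_of_card_ge hle h1).symm ▸ ⟨haA, haT⟩)
  exact hne ((hbig P₀ w₀ g hw₀D w₀1 hC₀ inf_le_left hgP hgT hgD).trans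
    (hbig S₀ v g' hvD hv1 hvC inf_le_right hg'S hg'T hg'D).symm)

/-- The centralisers of `q`-singular elements are abelian TI subgroups. -/
theorem q_cent_eq {z x : G} (hz : Sing q z) (hx : x ∈ centralizer ({z} : Set G)) (hx1 : x ≠ 1) :
    Sing q x ∧ centralizer ({x} : Set G) = centralizer ({z} : Set G) := by
  have hxq : Sing q x := fun hco => by
    refine hx1 (orderOf_eq_one_iff.1 (Nat.eq_one_of_dvd_coprimes hco dvd_rfl ?_))
    rw [← q_cent R hz]
    exact orderOf_dvd_natCard _ hx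
  refine ⟨hxq, ?_⟩
  rcases R.hδ with hδ | hδ
  · have hF : npairs t z = q := by
      have := R.pairsQ z hz
      rw [hδ] at this
      omega
    obtain ⟨u, -, hinv⟩ := inverted_of_pairs R.data.ht (y := z)
      (by rw [hF]; exact Nat.pos_of_ne_zero (q_ne R)) (by rw [hF, q_cent R hz])
    refine eq_of_cent_le (fun y hy => mem_cent_iff.2 (ab_of_inverted hinv y hy x hx)) ?_
    rw [q_cent R hxq, q_cent R hz]
  · obtain ⟨p, e, hp, hq, he⟩ := exists_pp R
    haveI := Fact.mk hp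
    let mk : ∀ a : G, Sing q a → Sylow p G := fun a ha =>
      Sylow.ofCard (centralizer ({a} : Set G)) (by rw [q_cent R ha, fact_q R hp hq he, hq])
    have hz1 : z ≠ 1 := fun e' => hz (by rw [e', orderOf_one]; exact Nat.coprime_one_left q)
    have hzx : z ∈ centralizer ({x} : Set G) := mem_cent_iff.2 (mem_cent_iff.1 hx).symm
    have := sylow_eq R hq he hδ (mk z hz) (mk x hxq) (w := z) (mem_cent_iff.2 rfl) hzx hz1 rfl
    exact (congrArg (fun S : Sylow p G => (S : Subgroup G)) this).symm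

end Cfsg.Lib.BSW
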