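import Cfsg.Agent.BSW.Setup
import Cfsg.Agent.Chars.TI
import Cfsg.Agent.Chars.Sums
import Cfsg.Agent.Chars.Construct
import Cfsg.Agent.S0944

/-!
# The induced virtual characters `(1 - λ)^G` of the Brauer–Suzuki–Wall configuration
-/

set_option autoImplicit false
set_option linter.style.haveILetI false
set_option linter.unusedSectionVars false

namespace Cfsg.Lib.BSW

open Subgroup Cfsg.Lib.InvolCalc Cfsg.Lib.Chars
open scoped ComplexConjugate

universe u

variable {G : Type u} [Group G] [Fintype G] {t s : G} {K : Subgroup G}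

/-- `1 - λ`. -/
noncomputable def phi (l : K →* ℂˣ) : K → ℂ := fun y => 1 - (l y : ℂ)

/-- `(1 - λ)^G`. -/
noncomputable def tau (l : K →* ℂˣ) : G → ℂ := Cfsg.indFun K (phi l)

theorem lam_finite : Finite (K →* ℂˣ) := by
  have hsub : ∀ (l : K →* ℂˣ) (y : K), l y ∈ rootsOfUnity (Nat.card K) ℂ := fun l y => by
    rw [mem_rootsOfUnity, ← map_pow, pow_card_eq_one', map_one]
  refine Finite.of_injective (fun l : K →* ℂˣ => fun y : K => (⟨l y, hsub l y⟩ : rootsOfUnity (Nat.card K) ℂ))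
    fun a b e => MonoidHom.ext fun y => congrArg Subtype.val (congrFun e y)

theorem conj_lam (l : K →* ℂˣ) (y : K) : conj (l y : ℂ) = ((l y)⁻¹ : ℂˣ) := by
  have h := IsCharacter.conj_inv (isCharacter_linear l) y
  simp only [map_inv] at h
  exact h.symm

theorem sum_lam {l : K →* ℂˣ} (hl : l ≠ 1) [Fintype K] : ∑ y : K, (l y : ℂ) = 0 :=
  sum_hom_units_eq_zero ((Units.coeHom ℂ).comp l) fun e => hl (MonoidHom.ext fun y => Units.ext
    (by simpa using DFunLike.congr_fun e y))

theorem sum_one [Fintype K] : ∑ y : K, ((1 : K →* ℂˣ) y : ℂ) = Nat.card K := by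
  simp [Nat.card_eq_fintype_card]

open scoped Classical in
theorem sum_lam' (l : K →* ℂˣ) [Fintype K] :
    ∑ y : K, (l y : ℂ) = if l = 1 then (Nat.card K : ℂ) else 0 := by
  split_ifs with e
  · rw [e, sum_one]
  · exact sum_lam e

theorem phi_one (l : K →* ℂˣ) : phi l 1 = 0 := by simp [phi]

theorem tau_gen (l : K →* ℂˣ) : Cfsg.IsGeneralizedCharacter G (tau l) :=
  IsGeneralizedCharacter.indFun ⟨fun _ => 1, fun y => (l y : ℂ), isCharacter_of_irr isIrrCharacter_one,
    isCharacter_linear l, rfl⟩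

theorem tau_one (l : K →* ℂˣ) : tau l 1 = 0 := by rw [tau, indFun_one, phi_one, mul_zero]

theorem tau_class (l : K →* ℂˣ) : Cfsg.IsClassFunction G (tau l) := isClassFunction_indFun _ _

/-- `(1 - λ)^G` vanishes at elements not conjugate into `K#`. -/
theorem tau_eq_zero (l : K →* ℂˣ) {g : G} (hg : ∀ x : G, x⁻¹ * g * x ∈ K → g = 1) : tau l g = 0 := by
  rcases eq_or_ne g 1 with rfl | hg1
  · exact tau_one l
  rw [tau, indFun_apply, Finset.sum_eq_zero fun x _ => extendByZero_not_mem _ fun hm => hg1 (hg x hm), mul_zero]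

variable (h : Data t s K)
include h

/-- The values on `K#`. -/
theorem tau_apply (l : K →* ℂˣ) {y : G} (hy : y ∈ K) (hy1 : y ≠ 1) :
    tau l y = 2 - (l ⟨y, hy⟩ : ℂ) - ((l ⟨y, hy⟩)⁻¹ : ℂˣ) := by
  classical
  set c : ℂ := (l ⟨y, hy⟩ : ℂ)
  set d : ℂ := (((l ⟨y, hy⟩)⁻¹ : ℂˣ) : ℂ)
  have key : ∀ x : G, Cfsg.extendByZero K (phi l) (x⁻¹ * y * x) =
      (if x ∈ K then 1 - c else 0) + if s * x ∈ K then 1 - d else 0 := by
    intro x
    by_cases hxK : x ∈ K
    · rw [if_pos hxK, if_neg fun e => h.hsK ((mul_mem_cancel_right hxK).1 e), add_zero,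
        show x⁻¹ * y * x = y by rw [mul_assoc, h.ab y hy x hxK, inv_mul_cancel_left], extendByZero_mem _ hy]
      rfl
    rw [if_neg hxK, zero_add]
    by_cases hsx : s * x ∈ K
    · rw [if_pos hsx]
      have hx : x = s * (s * x) := by rw [← mul_assoc, ss h, one_mul]
      have e : x⁻¹ * y * x = (y⁻¹) := by
        have h1 := inv_of_smul h hsx hy
        rw [← hx] at h1
        have h2 : x⁻¹ = x := inv_of_order_two (by rw [hx]; exact smul_order h hsx)
        rw [h2]
        rwa [h2] at h1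
      rw [e, extendByZero_mem _ (inv_mem hy)]
      show 1 - (l ⟨y⁻¹, inv_mem hy⟩ : ℂ) = 1 - d
      rw [show (⟨y⁻¹, inv_mem hy⟩ : K) = (⟨y, hy⟩ : K)⁻¹ from rfl, map_inv]
    · rw [if_neg hsx]
      refine extendByZero_not_mem _ fun hm => ?_
      rcases mem_H h (TI' h hy hy1 (g := x⁻¹) (by rwa [inv_inv])) with e | ⟨a, ha, e⟩
      · exact hxK (inv_mem_iff.1 e)
      · refine hsx ?_
        rw [show x = (s * a)⁻¹ by rw [← e, inv_inv], inv_of_order_two (smul_order h ha), ← mul_assoc, ss h, one_mul]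
        exact ha
  have hc1 : (Finset.univ.filter fun x : G => x ∈ K).card = Nat.card K := by
    rw [← Fintype.card_subtype, ← Nat.card_eq_fintype_card]
  have hc2 : (Finset.univ.filter fun x : G => s * x ∈ K).card = Nat.card K := by
    rw [← Fintype.card_subtype, ← Nat.card_eq_fintype_card]
    exact Nat.card_congr ((Equiv.mulLeft s).subtypeEquiv fun x => Iff.rfl)
  rw [tau, indFun_apply, Finset.sum_congr rfl fun x _ => key x, Finset.sum_add_distrib,
    ← Finset.sum_filter, ← Finset.sum_filter, Finset.sum_const, Finset.sum_const, hc1, hc2, nsmul_eq_mul,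
    nsmul_eq_mul, ← mul_add, ← mul_assoc, inv_mul_cancel₀ (by exact_mod_cast Nat.card_pos.ne'), one_mul]
  ring

open scoped Classical in
/-- The Gram matrix. -/
theorem tau_gram (l m : K →* ℂˣ) (hl : l ≠ 1) (hm : m ≠ 1) :
    Cfsg.classInner (tau l) (tau m) = 2 + (if l = m then 1 else 0) + (if l = m⁻¹ then 1 else 0) := by
  haveI : Fintype K := Fintype.ofFinite K
  rw [tau, frobenius_reciprocity K (phi l) (tau_class m), classInner_def]
  have key : ∀ y : K, phi l y * conj (tau m y) = 2 * ((1 : K →* ℂˣ) y : ℂ) - (m y : ℂ) - (m⁻¹ y : ℂ) -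
      2 * (l y : ℂ) + ((l * m) y : ℂ) + ((l * m⁻¹) y : ℂ) := by
    intro y
    rcases eq_or_ne y 1 with rfl | hy1
    · simp [phi_one]; norm_num
    · rw [tau_apply h m y.2 (fun e => hy1 (Subtype.ext e)), map_sub, map_sub, map_ofNat,
        show (⟨(y : G), y.2⟩ : K) = y from rfl, conj_lam, ← map_inv, conj_lam, map_inv, inv_inv]
      simp only [phi, MonoidHom.mul_apply, MonoidHom.inv_apply, MonoidHom.one_apply, Units.val_mul, Units.val_one]
      ring
  rw [Finset.sum_congr rfl fun y _ => key y]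
  have hm' : m⁻¹ ≠ 1 := fun e => hm ((inv_eq_one (a := m)).1 e)
  simp only [Finset.sum_add_distrib, Finset.sum_sub_distrib, ← Finset.mul_sum, sum_lam', if_pos,
    if_neg hm, if_neg hl, if_neg hm']
  have e1 : l * m = 1 ↔ l = m⁻¹ := ⟨fun e => eq_inv_of_mul_eq_one_left (G := K →* ℂˣ) (a := l) (b := m) e,
    fun e => by rw [e]; exact inv_mul_cancel m⟩
  have e2 : l * m⁻¹ = 1 ↔ l = m := ⟨fun e => (mul_inv_eq_one (a := l) (b := m)).1 e,
    fun e => by rw [e]; exact mul_inv_cancel m⟩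
  simp only [e1, e2]
  have hK : (Nat.card K : ℂ) ≠ 0 := by exact_mod_cast Nat.card_pos.ne'
  split_ifs <;> field_simp <;> ring

/-- The multiplicity of the principal character. -/
theorem tau_principal (l : K →* ℂˣ) (hl : l ≠ 1) :
    Cfsg.classInner (tau l) (principal G : G → ℂ) = 1 := by
  haveI : Fintype K := Fintype.ofFinite K
  rw [tau, frobenius_reciprocity K (phi l) (isClassFunction_irr _), classInner_def]
  show _ * ∑ y : K, (1 - (l y : ℂ)) * conj (1 : ℂ) = 1
  rw [map_one, Finset.sum_congr rfl fun y _ => mul_one _, Finset.sum_sub_distrib, sum_lam hl,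
    Finset.sum_const, Finset.card_univ, nsmul_eq_mul, mul_one, sub_zero, Nat.card_eq_fintype_card,
    inv_mul_cancel₀ (by exact_mod_cast Fintype.card_ne_zero)]

/-- The number of involutions. -/
theorem t_value (χ : Cfsg.IrrCharacter G) : ∃ z : ℤ, (χ : G → ℂ) t = (z : ℂ) := by
  obtain ⟨n, hn, -⟩ := Cfsg.Agent.S0944.result χ t h.ht
  exact ⟨n, hn⟩

/-- The fundamental equation obtained from the products of two involutions. -/
theorem tau_count (l : K →* ℂˣ) (hl : l ≠ 1) (a : Cfsg.IrrCharacter G → ℤ)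
    (ha : tau l = ∑ χ, (a χ : ℂ) • (χ : G → ℂ)) :
    (Nat.card G : ℂ) * ∑ χ : Cfsg.IrrCharacter G,
        (a χ : ℂ) * ((χ : G → ℂ) t * (χ : G → ℂ) t / (χ : G → ℂ) 1) = 32 * (kk K : ℂ) ^ 3 := by
  classical
  haveI : Fintype K := Fintype.ofFinite K
  set n := Nat.card {x : G // IsConj t x} with hn
  choose w hw using t_value h
  let F : G → ℂ := fun c => (Nat.card {p : G × G // IsConj t p.1 ∧ IsConj t p.2 ∧ p.1 * p.2 = c} : ℂ)
  set cf : Cfsg.IrrCharacter G → ℂ := fun ψ =>
    (n : ℂ) * n / (Nat.card G : ℂ) * ((ψ : G → ℂ) t * (ψ : G → ℂ) t / (ψ : G → ℂ) 1) with hcf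
  have hF : F = ∑ ψ : Cfsg.IrrCharacter G, cf ψ • (ψ : G → ℂ) := by
    funext c
    have h1 := congrArg conj (class_mult_formula t t c)
    rw [map_natCast] at h1
    rw [show F c = (Nat.card {p : G × G // IsConj t p.1 ∧ IsConj t p.2 ∧ p.1 * p.2 = c} : ℂ) from rfl, h1]
    simp only [hcf, map_mul, map_div₀, map_natCast, map_sum, Finset.sum_apply, Pi.smul_apply, smul_eq_mul,
      Finset.mul_sum, hw, irr_apply_one_eq_deg, Complex.conj_conj, map_intCast]
    refine Finset.sum_congr rfl fun ψ _ => ?_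
    ring
  have hFcls : Cfsg.IsClassFunction G F := by
    rw [hF]
    intro a b
    simp only [Finset.sum_apply, Pi.smul_apply, isClassFunction_irr _ a b]
  have h1 : Cfsg.classInner F (tau l) = ∑ χ, cf χ * (a χ : ℂ) := by
    rw [ha, classInner_sum_right]
    refine Finset.sum_congr rfl fun χ _ => ?_
    rw [classInner_smul_right, map_intCast, hF, classInner_irrSum, mul_comm]
  have h2 : Cfsg.classInner F (tau l) = 2 * (kk K : ℂ) := by
    rw [tau, frobenius_reciprocity' K (phi l) hFcls, classInner_def]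
    have : ∀ y : K, F y * conj (phi l y) = 2 * (kk K : ℂ) * (((1 : K →* ℂˣ) y : ℂ) - (l⁻¹ y : ℂ)) := by
      intro y
      rcases eq_or_ne y 1 with rfl | hy1
      · simp [phi_one]
      · rw [show F y = ((2 * kk K : ℕ) : ℂ) from congrArg (Nat.cast : ℕ → ℂ) (pairs_K h y.2 fun e => hy1 (Subtype.ext e)),
          phi, map_sub, map_one, conj_lam]
        simp
    rw [Finset.sum_congr rfl fun y _ => this y, ← Finset.mul_sum, Finset.sum_sub_distrib, sum_one,
      sum_lam (fun e => hl ((inv_eq_one (a := l)).1 e)), sub_zero]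
    have hK : (Nat.card K : ℂ) ≠ 0 := by exact_mod_cast Nat.card_pos.ne'
    field_simp
  rw [h1] at h2
  have hnG : (n : ℂ) * (4 * (kk K : ℂ)) = (Nat.card G : ℂ) := by exact_mod_cast card_invol_mul h
  have hG : (Nat.card G : ℂ) ≠ 0 := by exact_mod_cast Nat.card_pos.ne'
  have hk : (kk K : ℂ) ≠ 0 := by exact_mod_cast (kk_pos h).ne'
  set T := ∑ χ : Cfsg.IrrCharacter G, (a χ : ℂ) * ((χ : G → ℂ) t * (χ : G → ℂ) t / (χ : G → ℂ) 1) with hT
  have h3 : (n : ℂ) * n / (Nat.card G : ℂ) * T = 2 * (kk K : ℂ) := by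
    rw [← h2, hT, Finset.mul_sum]
    refine Finset.sum_congr rfl fun χ _ => ?_
    rw [hcf]; ring
  rw [← hnG] at h3 ⊢
  have hn0 : (n : ℂ) ≠ 0 := by exact_mod_cast (card_isConj_pos t).ne'
  field_simp at h3 ⊢
  linear_combination 4 * h3

end Cfsg.Lib.BSW
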