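import Cfsg.Agent.BSW.Shape

/-!
# The values on `K#`
-/

set_option autoImplicit false
set_option linter.style.haveILetI false
set_option linter.unusedSectionVars false

namespace Cfsg.Lib.BSW

open Subgroup Cfsg.Lib.InvolCalc Cfsg.Lib.Chars
open scoped ComplexConjugate

universe u

variable {G : Type u} [Group G] [Fintype G] {t s : G} {K : Subgroup G}

/-- `λ + λ⁻¹` is real. -/
theorem cc_real (l : K →* ℂˣ) (y : K) : cc l y = ((2 * (l y : ℂ).re : ℝ) : ℂ) := by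
  rw [cc, ← conj_lam, Complex.add_conj]

theorem normSq_signed {n : ℤ} (hn : n * n = 1) (u : ℂ) : ‖u‖ ^ 2 = Complex.normSq ((n : ℂ) * u) := by
  have h : (n : ℝ) * (n : ℝ) = 1 := by exact_mod_cast hn
  rw [Complex.sq_norm, Complex.normSq_mul, Complex.normSq_intCast, h, one_mul]

variable (h : Data t s K) {l₀ : K →* ℂˣ}
include h

variable {θ A B : Cfsg.IrrCharacter G} {δ e f : ℤ} {N : (K →* ℂˣ) → Cfsg.IrrCharacter G}
  (F : Full t s K l₀ θ A B δ e f N) (h0 : l₀ ≠ 1) (hr : l₀⁻¹ = l₀)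
  (huniq : ∀ l : K →* ℂˣ, l⁻¹ = l → l = 1 ∨ l = l₀)
include F h0 hr huniq

open scoped Classical in
theorem card_cent {y : G} (hy : y ∈ K) (hy1 : y ≠ 1) :
    (Nat.card (centralizer ({y} : Set G) : Subgroup G) : ℝ) =
      2 * kk K + if y * y = 1 then 2 * (kk K : ℝ) else 0 := by
  split_ifs with e
  · rw [(eq_t h hy e).resolve_left hy1, card_H h]; push_cast; ring
  · rw [cent_K h hy e, card_K h]; push_cast; ring

open scoped Classical in
/-- The values on `K#`. -/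
theorem values {y : G} (hy : y ∈ K) (hy1 : y ≠ 1) :
    (δ : ℂ) * (θ : G → ℂ) y = 1 ∧
      (∀ l, l ≠ 1 → l ≠ l₀ → (δ : ℂ) * (N l : G → ℂ) y = cc l ⟨y, hy⟩) ∧
      (e : ℂ) * (A : G → ℂ) y = -(l₀ ⟨y, hy⟩ : ℂ) ∧ (f : ℂ) * (B : G → ℂ) y = -(l₀ ⟨y, hy⟩ : ℂ) := by
  haveI : Finite (K →* ℂˣ) := lam_finite
  letI : Fintype (K →* ℂˣ) := Fintype.ofFinite _
  set y' : K := ⟨y, hy⟩ with hy'
  have hy'1 : y' ≠ 1 := fun e => hy1 (congrArg Subtype.val e)
  set L := (Finset.univ : Finset (K →* ℂˣ)) \ {1, l₀} with hLdef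
  have hmemL : ∀ l, l ∈ L ↔ l ≠ 1 ∧ l ≠ l₀ := fun l => by simp [hLdef]
  set w : ℂ := (δ : ℂ) * (θ : G → ℂ) y - 1 with hw
  set D : ℂ := (e : ℂ) * (A : G → ℂ) y - (f : ℂ) * (B : G → ℂ) y with hD
  obtain ⟨lam, hlam, hlam2⟩ : ∃ r : ℝ, (l₀ y' : ℂ) = (r : ℂ) ∧ r * r = 1 := by
    rcases mul_self_eq_one_iff.1 (l0_sign h h0 hr y') with e' | e'
    · exact ⟨1, by rw [e']; simp, by norm_num⟩
    · exact ⟨-1, by rw [e']; simp, by norm_num⟩
  set cr : (K →* ℂˣ) → ℝ := fun l => 2 * (l y' : ℂ).re with hcr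
  have hcc : ∀ l, cc l y' = (cr l : ℂ) := fun l => cc_real l y'
  -- the characters in terms of `w` and `D`
  have hN : ∀ l ∈ L, (δ : ℂ) * (N l : G → ℂ) y = w + (cr l : ℂ) := fun l hl => by
    obtain ⟨a, b⟩ := (hmemL l).1 hl
    have h1 := F.eq l a b y
    rw [tau_apply h l hy hy1, ← hy'] at h1
    rw [← hcc, cc]
    linear_combination (1 : ℂ) * h1
  have hS : (e : ℂ) * (A : G → ℂ) y + (f : ℂ) * (B : G → ℂ) y = -2 * (lam : ℂ) - w := by
    have h1 := F.eq0 y
    rw [tau_apply h l₀ hy hy1, ← hy'] at h1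
    have h2 : ((l₀ y')⁻¹ : ℂˣ) = l₀ y' := by rw [← MonoidHom.inv_apply, hr]
    rw [h2, hlam] at h1
    linear_combination (-1 : ℂ) * h1
  -- the moments
  have hm1 : ∑ l ∈ L, cr l = -2 - 2 * lam := by
    apply Complex.ofReal_injective
    have h1 := sum_cc h h0 hr hy'1
    simp only [hcc, hlam] at h1
    push_cast
    exact h1
  have hm2 : ∑ l ∈ L, cr l * cr l = 4 * (kk K : ℝ) + (if y * y = 1 then 4 * (kk K : ℝ) else 0) - 8 := by
    apply Complex.ofReal_injective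
    have h1 := sum_cc_sq h h0 hr hy'1
    have e' : (y' * y' = 1) = (y * y = 1) := propext ⟨fun e => congrArg Subtype.val e, fun e => Subtype.ext e⟩
    simp only [hcc, e'] at h1
    split_ifs at h1 ⊢ <;> (push_cast; exact h1)
  have hcardL : (L.card : ℝ) = 2 * (kk K : ℝ) - 2 := by
    have := card_pairs h h0 hr
    rw [← hLdef] at this
    have : (L.card : ℝ) + 2 = 2 * (kk K : ℝ) := by exact_mod_cast this
    linarith
  have hsumN : 2 * ∑ χ ∈ L.image N, ‖(χ : G → ℂ) y‖ ^ 2 =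
      (2 * (kk K : ℝ) - 2) * Complex.normSq w + 2 * w.re * (-2 - 2 * lam) +
        (4 * (kk K : ℝ) + (if y * y = 1 then 4 * (kk K : ℝ) else 0) - 8) := by
    rw [hLdef, ← sum_fibres h F.toStar hr huniq (fun χ => ‖(χ : G → ℂ) y‖ ^ 2), ← hLdef,
      Finset.sum_congr rfl (fun l hl => by rw [normSq_signed F.hδ, hN l hl]), ← hm2, ← hm1, ← hcardL,
      Finset.mul_sum, ← nsmul_eq_mul, ← Finset.sum_const, ← Finset.sum_add_distrib, ← Finset.sum_add_distrib]
    refine Finset.sum_congr rfl fun l _ => ?_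
    simp only [Complex.normSq_apply, Complex.add_re, Complex.add_im, Complex.ofReal_re, Complex.ofReal_im]
    ring
  -- the column at `y`
  have himg : ∀ χ ∈ L.image N, χ ≠ principal G ∧ χ ≠ θ ∧ χ ≠ A ∧ χ ≠ B := fun χ hχ => by
    obtain ⟨l, hl, rfl⟩ := Finset.mem_image.1 hχ
    obtain ⟨a, b⟩ := (hmemL l).1 hl
    exact ⟨(F.N1 l a b).1, (F.N1 l a b).2, (F.NA l a b).1, (F.NA l a b).2⟩
  have hcol := column_le y (insert (principal G) (insert θ (insert A (insert B (L.image N)))))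
  rw [Finset.sum_insert (by
      simp only [Finset.mem_insert, not_or]
      exact ⟨F.θ1.symm, F.A1.symm, F.B1.symm, fun hm => (himg _ hm).1 rfl⟩),
    Finset.sum_insert (by
      simp only [Finset.mem_insert, not_or]
      exact ⟨F.Aθ.symm, F.Bθ.symm, fun hm => (himg _ hm).2.1 rfl⟩),
    Finset.sum_insert (by
      simp only [Finset.mem_insert, not_or]
      exact ⟨F.AB, fun hm => (himg _ hm).2.2.1 rfl⟩),
    Finset.sum_insert (fun hm => (himg _ hm).2.2.2 rfl),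
    apply_principal h, card_cent h F h0 hr huniq hy hy1, norm_one, one_pow,
    normSq_signed F.hδ, normSq_signed F.he, normSq_signed F.hf] at hcol
  have eθ : (δ : ℂ) * (θ : G → ℂ) y = 1 + w := by rw [hw]; ring
  have eA : (e : ℂ) * (A : G → ℂ) y = ((-2 * (lam : ℂ) - w) + D) / 2 := by rw [← hS, hD]; ring
  have eB : (f : ℂ) * (B : G → ℂ) y = ((-2 * (lam : ℂ) - w) - D) / 2 := by rw [← hS, hD]; ring
  rw [eθ, eA, eB] at hcol
  simp only [Complex.normSq_apply, Complex.add_re, Complex.add_im, Complex.sub_re, Complex.sub_im,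
    Complex.one_re, Complex.one_im, Complex.div_ofNat_re, Complex.div_ofNat_im, Complex.mul_re,
    Complex.mul_im, Complex.neg_re, Complex.neg_im, Complex.re_ofNat, Complex.im_ofNat,
    Complex.ofReal_re, Complex.ofReal_im] at hcol hsumN
  have hk1 : (1 : ℝ) ≤ kk K := by exact_mod_cast kk_pos h
  have hzero : ((kk K : ℝ) + 1 / 2) * (w.re * w.re + w.im * w.im) +
      (D.re * D.re + D.im * D.im) / 2 ≤ 0 := by
    split_ifs at hcol hsumN <;> linarith
  have hw0 : w.re * w.re + w.im * w.im = 0 := by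
    nlinarith [mul_self_nonneg w.re, mul_self_nonneg w.im, mul_self_nonneg D.re, mul_self_nonneg D.im]
  have hD0 : D.re * D.re + D.im * D.im = 0 := by
    rw [hw0, mul_zero, zero_add] at hzero
    linarith [mul_self_nonneg D.re, mul_self_nonneg D.im]
  rw [← Complex.normSq_apply, Complex.normSq_eq_zero] at hw0 hD0
  refine ⟨by rw [eθ, hw0, add_zero], fun l a b => ?_, ?_, ?_⟩
  · rw [hN l ((hmemL l).2 ⟨a, b⟩), hw0, zero_add, hcc]
  · rw [eA, hw0, hD0, hlam]; ring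
  · rw [eB, hw0, hD0, hlam]; ring

end Cfsg.Lib.BSW
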